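import Mathlib
import Groth.Prelude.Def_AlgSt
import Groth.Prelude.Def_FibCat2
import Groth.Agent.Lib.Helper2.EquivOver
import Groth.Agent.Lib.Helper2.FibGrpd
import Groth.Agent.Lib.Helper2.FibCat.EquivCrit
import Groth.Agent.Lib.Helper2.FibCat.Yoneda

/-!
# Postcomposition with a fully faithful functor over the base (helper2)
-/

set_option autoImplicit false
open CategoryTheory CategoryTheory.Functor

universe v₅ u₅ v₄ u₄ v₃ u₃ v₂ u₂ v u

namespace Groth.Agent.Helper2.StkLib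

open Groth.Agent.Helper2 Groth.Agent.Helper2.FibCatLib

variable {C : Type u} [Category.{v} C]
variable {𝒜 : BasedCategory.{v₂, u₂} C} {ℬ : BasedCategory.{v₃, u₃} C}
  {𝒳 : BasedCategory.{v₄, u₄} C} {𝒴 : BasedCategory.{v₅, u₅} C}

/-- Postcomposition with a faithful functor is faithful. -/
theorem postF_faithful (𝒜 : BasedCategory.{v₂, u₂} C) (F : 𝒳 ⥤ᵇ 𝒴) [F.toFunctor.Faithful] :
    (postF 𝒜 F).Faithful where
  map_injective {G G'} α β h := by
    apply BasedNatTrans.homCategory.ext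
    ext a
    apply F.toFunctor.map_injective
    have := congrArg (fun γ : (postF 𝒜 F).obj G ⟶ (postF 𝒜 F).obj G' => γ.toNatTrans.app a) h
    exact this

/-- A 2-morphism `G ⋙ F ⟶ G' ⋙ F` comes from a 2-morphism `G ⟶ G'` when `F` is fully faithful. -/
theorem exists_preimage_postF (F : 𝒳 ⥤ᵇ 𝒴) [F.toFunctor.Full] [F.toFunctor.Faithful]
    {G G' : 𝒜 ⥤ᵇ 𝒳} (α : BasedFunctor.comp G F ⟶ BasedFunctor.comp G' F) :
    ∃ β : G ⟶ G', BasedCategory.whiskerRight β F = α := by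
  have hα : ∀ a : 𝒜.obj, 𝒴.p.IsHomLift (𝟙 (𝒜.p.obj a)) (α.toNatTrans.app a) := fun a => α.isHomLift' a
  let b : ∀ a : 𝒜.obj, G.obj a ⟶ G'.obj a := fun a => F.toFunctor.preimage (α.toNatTrans.app a)
  have hb : ∀ a, F.toFunctor.map (b a) = α.toNatTrans.app a := fun a => F.toFunctor.map_preimage _
  refine ⟨{ toNatTrans := { app := b, naturality := ?_ }, isHomLift' := ?_ }, ?_⟩
  · intro a a' f
    apply F.toFunctor.map_injective
    rw [Functor.map_comp, Functor.map_comp, hb, hb]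
    exact α.toNatTrans.naturality f
  · intro a
    have h1 : 𝒴.p.IsHomLift (𝟙 (𝒜.p.obj a)) (F.toFunctor.map (b a)) := by
      rw [hb]; exact hα a
    exact BasedFunctor.isHomLift_map F (𝟙 (𝒜.p.obj a)) (b a)
  · apply BasedNatTrans.homCategory.ext
    ext a
    exact hb a

theorem postF_full (𝒜 : BasedCategory.{v₂, u₂} C) (F : 𝒳 ⥤ᵇ 𝒴) [F.toFunctor.Full]
    [F.toFunctor.Faithful] : (postF 𝒜 F).Full where
  map_surjective {G G'} α := exists_preimage_postF F α

/-- A functor to `𝒴` that lands pointwise, up to isomorphisms over identities, in the image of a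
fully faithful functor `F : 𝒳 ⟶ 𝒴` factors through `F` up to 2-isomorphism. -/
theorem exists_factor_of_pointwise (F : 𝒳 ⥤ᵇ 𝒴) [F.toFunctor.Full] [F.toFunctor.Faithful]
    (H : 𝒜 ⥤ᵇ 𝒴)
    (h : ∀ a : 𝒜.obj, ∃ (x : 𝒳.obj) (e : F.obj x ≅ H.obj a), 𝒴.p.IsHomLift (𝟙 (𝒜.p.obj a)) e.hom) :
    ∃ D : 𝒜 ⥤ᵇ 𝒳, Nonempty (BasedFunctor.comp D F ≅ H) := by
  choose x e he using h
  have he' : ∀ a, 𝒴.p.IsHomLift (𝟙 (𝒜.p.obj a)) (e a).inv := fun a =>
    IsHomLift.lift_id_inv _ _ _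
  let m : ∀ {a a' : 𝒜.obj} (f : a ⟶ a'), x a ⟶ x a' := fun {a a'} f =>
    F.toFunctor.preimage ((e a).hom ≫ H.map f ≫ (e a').inv)
  have hm : ∀ {a a' : 𝒜.obj} (f : a ⟶ a'), F.toFunctor.map (m f) = (e a).hom ≫ H.map f ≫ (e a').inv :=
    fun f => F.toFunctor.map_preimage _
  have hxa : ∀ a, 𝒳.p.obj (x a) = 𝒜.p.obj a := fun a => by
    have h1 := IsHomLift.domain_eq 𝒴.p (𝟙 (𝒜.p.obj a)) (e a).hom
    rw [← h1]
    exact (F.w_obj (x a)).symm
  let D₀ : 𝒜.obj ⥤ 𝒳.obj :=
    { obj := x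
      map := fun f => m f
      map_id := fun a => by
        apply F.toFunctor.map_injective
        rw [hm]
        simp
      map_comp := fun f g => by
        apply F.toFunctor.map_injective
        rw [Functor.map_comp, hm, hm, hm]
        simp }
  have hlift : ∀ {a a' : 𝒜.obj} (f : a ⟶ a'), 𝒳.p.IsHomLift (𝒜.p.map f) (m f) := by
    intro a a' f
    have h1 : 𝒴.p.IsHomLift (𝒜.p.map f) (H.map f) := inferInstance
    have h2 : 𝒴.p.IsHomLift (𝟙 (𝒜.p.obj a) ≫ 𝒜.p.map f ≫ 𝟙 (𝒜.p.obj a'))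
        ((e a).hom ≫ H.map f ≫ (e a').inv) := by
      have := he a
      have := he' a'
      infer_instance
    have h3 : 𝒴.p.IsHomLift (𝒜.p.map f) (F.toFunctor.map (m f)) := by
      rw [hm]
      simpa using h2
    exact BasedFunctor.isHomLift_map F (𝒜.p.map f) (m f)
  let D : 𝒜 ⥤ᵇ 𝒳 :=
    { toFunctor := D₀
      w := by
        refine CategoryTheory.Functor.ext (fun a => hxa a) ?_
        intro a a' f
        have := hlift f
        have h4 := IsHomLift.fac' 𝒳.p (𝒜.p.map f) (m f)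
        simp only [Functor.comp_map]
        change 𝒳.p.map (m f) = _
        rw [h4] }
  refine ⟨D, ⟨BasedNatIso.mkNatIso (NatIso.ofComponents (fun a => e a) ?_) ?_⟩⟩
  · intro a a' f
    change F.toFunctor.map (m f) ≫ (e a').hom = (e a).hom ≫ H.map f
    rw [hm]
    simp
  · intro a
    exact he a

/-- Every 2-morphism between functors over `C` into a category fibred in groupoids is invertible. -/
theorem isIso_of_isFibGrpd (h : FibCat.IsFibGrpd 𝒳.p) {G G' : 𝒜 ⥤ᵇ 𝒳} (α : G ⟶ G') : IsIso α := by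
  have : ∀ a, IsIso (α.toNatTrans.app a) := fun a => by
    have := α.isHomLift' a
    exact IsFibGrpd.isIso_of_isHomLift_id 𝒳.p h (S := 𝒜.p.obj a) (α.toNatTrans.app a)
  have : IsIso (X := G.toFunctor) α.toNatTrans := NatIso.isIso_of_isIso_app _
  exact BasedNatIso.isIso_of_toNatTrans_isIso α

end Groth.Agent.Helper2.StkLib
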