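import Mathlib
import Groth.Prelude.Def_AlgSt
import Groth.Prelude.Def_FibCat2
import Groth.Agent.Lib.Helper2.EquivOver
import Groth.Agent.Lib.Helper2.FibGrpd
import Groth.Agent.Lib.Helper2.FibCat.EquivCrit
import Groth.Agent.Lib.Helper2.FibCat.Yoneda
import Groth.Agent.Lib.Helper2.FibCat.FiberCrit

/-!
# 2-Yoneda conveniences for categories fibred in groupoids, fibrewise criteria (helper2)
-/

set_option autoImplicit false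
open CategoryTheory CategoryTheory.Functor

universe v₅ u₅ v₄ u₄ v₃ u₃ v₂ u₂ v u

namespace Groth.Agent.Helper2.StkLib

open Groth.Agent.Helper2 Groth.Agent.Helper2.FibCatLib

variable {C : Type u} [Category.{v} C]
variable {𝒜 : BasedCategory.{v₂, u₂} C} {ℬ : BasedCategory.{v₃, u₃} C}
  {𝒳 : BasedCategory.{v₄, u₄} C} {𝒴 : BasedCategory.{v₅, u₅} C}

theorem preservesSC_of_isFibGrpd (h : FibCat.IsFibGrpd 𝒳.p) (G : 𝒜 ⥤ᵇ 𝒳) :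
    FibCat.PreservesStronglyCartesian G := by
  intro R S f a b φ hφ
  have hl := hφ.toIsHomLift
  exact isStronglyCartesian_of_isFibGrpd 𝒳.p h f _ (BasedFunctor.preserves_isHomLift G f φ)

/-- An object over `U` of a category fibred in groupoids is the value at `𝟙 U` of a functor
`C/U ⟶ 𝒳` over `C`. -/
theorem exists_functor_of_obj (h : FibCat.IsFibGrpd 𝒳.p) {U : C} (x : 𝒳.obj)
    (hx : 𝒳.p.obj x = U) :
    ∃ (G : FibCat.overCat U ⥤ᵇ 𝒳) (e : G.obj (Over.mk (𝟙 U)) ≅ x), 𝒳.p.IsHomLift (𝟙 U) e.hom := by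
  have := isFibered_of_isFibGrpd 𝒳.p h
  obtain ⟨e, he⟩ := yonedaFunctor_obj_id_iso hx
  exact ⟨yonedaFunctor hx, e, he⟩

theorem exists_nat_of_app_id (h : FibCat.IsFibGrpd 𝒳.p) {U : C} {G H : FibCat.overCat U ⥤ᵇ 𝒳}
    (a : G.obj (Over.mk (𝟙 U)) ⟶ H.obj (Over.mk (𝟙 U))) (ha : 𝒳.p.IsHomLift (𝟙 U) a) :
    ∃ α : G ⟶ H, α.toNatTrans.app (Over.mk (𝟙 U)) = a :=
  exists_basedNatTrans_of_app_id U (preservesSC_of_isFibGrpd h H) a ha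

theorem nat_ext_of_app_id (h : FibCat.IsFibGrpd 𝒳.p) {U : C} {G H : FibCat.overCat U ⥤ᵇ 𝒳}
    (α β : G ⟶ H)
    (hh : α.toNatTrans.app (Over.mk (𝟙 U)) = β.toNatTrans.app (Over.mk (𝟙 U))) : α = β :=
  basedNatTrans_ext_of_app_id U (preservesSC_of_isFibGrpd h H) α β hh

/-- Fibrewise criterion for faithfulness of a functor over `C` between categories fibred in
groupoids. -/
theorem faithful_of_fiber (h𝒳 : FibCat.IsFibGrpd 𝒳.p) (h𝒴 : FibCat.IsFibGrpd 𝒴.p) (F : 𝒳 ⥤ᵇ 𝒴)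
    (hf : ∀ (U : C) (a b : 𝒳.obj) (m m' : a ⟶ b), 𝒳.p.IsHomLift (𝟙 U) m →
      𝒳.p.IsHomLift (𝟙 U) m' → F.map m = F.map m' → m = m') : F.toFunctor.Faithful where
  map_injective {a b} φ φ' hφ := by
    have hp : 𝒳.p.map φ = 𝒳.p.map φ' := FiberCrit.map_p_eq F φ φ' hφ
    have h1 : 𝒳.p.IsHomLift (𝒳.p.map φ) φ := inferInstance
    have h2 : 𝒳.p.IsHomLift (𝒳.p.map φ) φ' := by rw [hp]; infer_instance
    obtain ⟨m, ⟨hm1, hm2⟩, -⟩ := IsFibGrpd.existsUnique 𝒳.p h𝒳 (𝟙 (𝒳.p.obj a)) (𝒳.p.map φ)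
      (𝒳.p.map φ) (Category.id_comp _).symm φ' φ
    have h3 : 𝒳.p.IsHomLift (𝟙 (𝒳.p.obj a)) (𝟙 a) := inferInstance
    have h4 : 𝒴.p.IsHomLift (𝒳.p.map φ) (F.map φ') := BasedFunctor.preserves_isHomLift F _ _
    have h5 : 𝒴.p.IsHomLift (𝟙 (𝒳.p.obj a)) (F.map m) := BasedFunctor.preserves_isHomLift F _ _
    have h6 : 𝒴.p.IsHomLift (𝟙 (𝒳.p.obj a)) (F.map (𝟙 a)) := BasedFunctor.preserves_isHomLift F _ _
    have h7 : F.map m = F.map (𝟙 a) := by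
      apply IsFibGrpd.ext_of_comp 𝒴.p h𝒴 (𝟙 (𝒳.p.obj a)) (F.map φ')
      rw [← Functor.map_comp, hm2, ← Functor.map_comp, Category.id_comp]
      exact hφ
    have h8 : m = 𝟙 a := hf _ _ _ _ _ hm1 h3 h7
    rw [← hm2, h8, Category.id_comp]

/-- Fibrewise criterion for fullness of a functor over `C` between categories fibred in
groupoids. -/
theorem full_of_fiber (h𝒳 : FibCat.IsFibGrpd 𝒳.p) (h𝒴 : FibCat.IsFibGrpd 𝒴.p) (F : 𝒳 ⥤ᵇ 𝒴)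
    (hf : ∀ (U : C) (a b : 𝒳.obj), 𝒳.p.obj a = U → 𝒳.p.obj b = U → ∀ τ : F.obj a ⟶ F.obj b,
      𝒴.p.IsHomLift (𝟙 U) τ → ∃ m : a ⟶ b, F.map m = τ) : F.toFunctor.Full where
  map_surjective {a b} θ := by
    let f : 𝒳.p.obj a ⟶ 𝒳.p.obj b :=
      eqToHom (F.w_obj a).symm ≫ 𝒴.p.map θ ≫ eqToHom (F.w_obj b)
    have hθ : 𝒴.p.IsHomLift f θ :=
      IsHomLift.of_fac' 𝒴.p f θ (F.w_obj a) (F.w_obj b) (by simp [f])
    obtain ⟨c, ψ, hψ⟩ := h𝒳.exists_lift f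
    have hc : 𝒳.p.obj c = 𝒳.p.obj a := IsHomLift.domain_eq 𝒳.p f ψ
    have h4 : 𝒴.p.IsHomLift f (F.map ψ) := BasedFunctor.preserves_isHomLift F _ _
    obtain ⟨τ, ⟨hτ1, hτ2⟩, -⟩ := IsFibGrpd.existsUnique 𝒴.p h𝒴 (𝟙 (𝒳.p.obj a)) f
      f (Category.id_comp _).symm (F.map ψ) θ
    obtain ⟨m, hm⟩ := hf (𝒳.p.obj a) a c rfl hc τ hτ1
    refine ⟨m ≫ ψ, ?_⟩
    rw [Functor.map_comp, hm, hτ2]

end Groth.Agent.Helper2.StkLib
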