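import Mathlib
import Groth.Prelude.Def_AlgSt
import Groth.Prelude.Def_FibCat2
import Groth.Agent.Lib.Helper2.Stk.Post
import Groth.Agent.Lib.Helper2.Stk.Yon

/-!
# Objects locally in the essential image of a fully faithful functor of stacks (helper2)
-/

set_option autoImplicit false
open CategoryTheory CategoryTheory.Functor

universe v₅ u₅ v₄ u₄ v₃ u₃ v₂ u₂ v u

namespace Groth.Agent.Helper2.StkLib

open Groth.Agent.Helper2 Groth.Agent.Helper2.FibCatLib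

variable {C : Type u} [Category.{v} C]
variable {𝒳 : BasedCategory.{v₄, u₄} C} {𝒴 : BasedCategory.{v₅, u₅} C}

/-- The structure morphism `G(A) ⟶ G(𝟙) ≅ x` of a functor `G : C/U ⟶ 𝒳` over `C`. -/
theorem isHomLift_map_toId_comp {U : C} (G : FibCat.overCat U ⥤ᵇ 𝒳) {x : 𝒳.obj}
    (e : G.obj (Over.mk (𝟙 U)) ⟶ x) (he : 𝒳.p.IsHomLift (𝟙 U) e) (A : Over U) :
    𝒳.p.IsHomLift A.hom (G.map (toId U A) ≫ e) := by
  have h1 : 𝒳.p.IsHomLift (toId U A).left (G.map (toId U A)) := isHomLift_map_over U G (toId U A)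
  have h2 : 𝒳.p.IsHomLift ((toId U A).left ≫ 𝟙 U) (G.map (toId U A) ≫ e) := inferInstance
  exact isHomLift_congr' 𝒳.p (Category.comp_id _) _ h2

/-- If `F : 𝒳 ⟶ 𝒴` is fully faithful, objects glue in `𝒳` along `R`, morphisms glue in `𝒴` along
`R`, and `y` over `U` is in the essential image of `F` locally on `R`, then `y` is in the essential
image of `F`. -/
theorem exists_iso_of_locally_essImage {U : C} (R : Sieve U)
    (h𝒳 : FibCat.IsFibGrpd 𝒳.p) (h𝒴 : FibCat.IsFibGrpd 𝒴.p)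
    (hR𝒳 : (Stk.resSieve R 𝒳).EssSurj) (hR𝒴 : (Stk.resSieve R 𝒴).Full)
    (F : 𝒳 ⥤ᵇ 𝒴) [F.toFunctor.Full] [F.toFunctor.Faithful] (y : 𝒴.obj) (hy : 𝒴.p.obj y = U)
    (hloc : ∀ ⦃V : C⦄ (f : V ⟶ U), R f → ∃ (x : 𝒳.obj) (φ : F.obj x ⟶ y), 𝒴.p.IsHomLift f φ) :
    ∃ (x : 𝒳.obj) (e : F.obj x ≅ y), 𝒴.p.IsHomLift (𝟙 U) e.hom := by
  obtain ⟨Gy, ey, hey⟩ := exists_functor_of_obj h𝒴 y hy
  have hpt : ∀ a : (Stk.sieveCat R).obj, ∃ (x : 𝒳.obj)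
      (e : F.obj x ≅ (BasedFunctor.comp (Stk.sieveIncl R) Gy).obj a),
      𝒴.p.IsHomLift (𝟙 ((Stk.sieveCat R).p.obj a)) e.hom := by
    intro a
    obtain ⟨x, φ, hφ⟩ := hloc a.obj.hom a.property
    have hψ : 𝒴.p.IsHomLift a.obj.hom (Gy.map (toId U a.obj) ≫ ey.hom) :=
      isHomLift_map_toId_comp Gy ey.hom hey a.obj
    obtain ⟨θ, ⟨hθ1, hθ2⟩, -⟩ := IsFibGrpd.existsUnique 𝒴.p h𝒴 (𝟙 a.obj.left) a.obj.hom
      a.obj.hom (Category.id_comp _).symm (Gy.map (toId U a.obj) ≫ ey.hom) φ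
    have hiso : IsIso θ := IsFibGrpd.isIso_of_isHomLift_id 𝒴.p h𝒴 (S := a.obj.left) θ
    exact ⟨x, @asIso _ _ _ _ θ hiso, hθ1⟩
  obtain ⟨D, ⟨εD⟩⟩ := exists_factor_of_pointwise F (BasedFunctor.comp (Stk.sieveIncl R) Gy) hpt
  obtain ⟨Gx, ⟨εx⟩⟩ := hR𝒳.mem_essImage D
  let γ : (Stk.resSieve R 𝒴).obj (BasedFunctor.comp Gx F) ⟶ (Stk.resSieve R 𝒴).obj Gy :=
    (postF (Stk.sieveCat R) F).map εx.hom ≫ εD.hom
  obtain ⟨δ, hδ⟩ := hR𝒴.map_surjective γ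
  have h1 : 𝒴.p.IsHomLift (𝟙 U) (δ.toNatTrans.app (Over.mk (𝟙 U))) :=
    isHomLift_app_over U δ (Over.mk (𝟙 U))
  have h2 : 𝒴.p.IsHomLift (𝟙 U) (δ.toNatTrans.app (Over.mk (𝟙 U)) ≫ ey.hom) := by
    have : 𝒴.p.IsHomLift (𝟙 U ≫ 𝟙 U) (δ.toNatTrans.app (Over.mk (𝟙 U)) ≫ ey.hom) := inferInstance
    simpa using this
  have hiso : IsIso (δ.toNatTrans.app (Over.mk (𝟙 U)) ≫ ey.hom) :=
    IsFibGrpd.isIso_of_isHomLift_id 𝒴.p h𝒴 (S := U) _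
  exact ⟨Gx.obj (Over.mk (𝟙 U)), @asIso _ _ _ _ (δ.toNatTrans.app (Over.mk (𝟙 U)) ≫ ey.hom) hiso, h2⟩

end Groth.Agent.Helper2.StkLib
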