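import Mathlib
import Groth.Prelude.Def_AlgSt
import Groth.Prelude.Def_FibCat2
import Groth.Agent.Lib.Helper2.Stk.Post
import Groth.Agent.Lib.Helper2.Stk.Yon
import Groth.Agent.Lib.Helper2.Stk.LocEss

/-!
# Morphisms that agree locally agree (object form of the prestack condition); objects of 2-fibre
products from local lifts (helper2)
-/

set_option autoImplicit false
open CategoryTheory CategoryTheory.Functor CategoryTheory.Limits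

universe v₆ u₆ v₅ u₅ v₄ u₄ v₃ u₃ v₂ u₂ v u

namespace Groth.Agent.Helper2.StkLib

open Groth.Agent.Helper2 Groth.Agent.Helper2.FibCatLib

variable {C : Type u} [Category.{v} C]
variable {𝒳 : BasedCategory.{v₄, u₄} C} {𝒴 : BasedCategory.{v₅, u₅} C} {𝒮 : BasedCategory.{v₆, u₆} C}

theorem isHomLift_comp_id_left (p : 𝒳.obj ⥤ C) {V U : C} (f : V ⟶ U) {a b c : 𝒳.obj} (n : a ⟶ b)
    (ψ : b ⟶ c) (hn : p.IsHomLift (𝟙 V) n) (hψ : p.IsHomLift f ψ) : p.IsHomLift f (n ≫ ψ) := by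
  have : p.IsHomLift (𝟙 V ≫ f) (n ≫ ψ) := inferInstance
  exact isHomLift_congr' p (Category.id_comp _) _ this

theorem isHomLift_comp_id_right (p : 𝒳.obj ⥤ C) {V U : C} (f : V ⟶ U) {a b c : 𝒳.obj} (ψ : a ⟶ b)
    (m : b ⟶ c) (hψ : p.IsHomLift f ψ) (hm : p.IsHomLift (𝟙 U) m) : p.IsHomLift f (ψ ≫ m) := by
  have : p.IsHomLift (f ≫ 𝟙 U) (ψ ≫ m) := inferInstance
  exact isHomLift_congr' p (Category.comp_id _) _ this

/-- Object form of faithfulness of restriction to a sieve: two morphisms over `𝟙 U` that agree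
after composition with some lift of every arrow of `R` are equal. -/
theorem eq_of_locally_eq {U : C} (R : Sieve U) (h𝒳 : FibCat.IsFibGrpd 𝒳.p)
    (hR : (Stk.resSieve R 𝒳).Faithful) {a b : 𝒳.obj} (m m' : a ⟶ b)
    (hm : 𝒳.p.IsHomLift (𝟙 U) m) (hm' : 𝒳.p.IsHomLift (𝟙 U) m')
    (hloc : ∀ ⦃V : C⦄ (f : V ⟶ U), R f → ∃ (a' : 𝒳.obj) (ψ : a' ⟶ a), 𝒳.p.IsHomLift f ψ ∧
      ψ ≫ m = ψ ≫ m') : m = m' := by
  have ha : 𝒳.p.obj a = U := IsHomLift.domain_eq 𝒳.p (𝟙 U) m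
  have hb : 𝒳.p.obj b = U := IsHomLift.codomain_eq 𝒳.p (𝟙 U) m
  obtain ⟨Ga, ea, hea⟩ := exists_functor_of_obj h𝒳 a ha
  obtain ⟨Gb, eb, heb⟩ := exists_functor_of_obj h𝒳 b hb
  have heb' : 𝒳.p.IsHomLift (𝟙 U) eb.inv := IsHomLift.lift_id_inv _ _ _
  have h3 : 𝒳.p.IsHomLift (𝟙 U) (ea.hom ≫ m ≫ eb.inv) := by
    have : 𝒳.p.IsHomLift (𝟙 U ≫ 𝟙 U ≫ 𝟙 U) (ea.hom ≫ m ≫ eb.inv) := inferInstance
    simpa using this
  have h3' : 𝒳.p.IsHomLift (𝟙 U) (ea.hom ≫ m' ≫ eb.inv) := by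
    have : 𝒳.p.IsHomLift (𝟙 U ≫ 𝟙 U ≫ 𝟙 U) (ea.hom ≫ m' ≫ eb.inv) := inferInstance
    simpa using this
  obtain ⟨μ, hμ⟩ := exists_nat_of_app_id h𝒳 (G := Ga) (H := Gb) (ea.hom ≫ m ≫ eb.inv) h3
  obtain ⟨μ', hμ'⟩ := exists_nat_of_app_id h𝒳 (G := Ga) (H := Gb) (ea.hom ≫ m' ≫ eb.inv) h3'
  have h5 : (Stk.resSieve R 𝒳).map μ = (Stk.resSieve R 𝒳).map μ' := by
    apply BasedNatTrans.homCategory.ext
    ext A
    change μ.toNatTrans.app A.obj = μ'.toNatTrans.app A.obj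
    obtain ⟨a', ψ, hψ, hψm⟩ := hloc A.obj.hom A.property
    have hs : 𝒳.p.IsHomLift A.obj.hom (Ga.map (toId U A.obj) ≫ ea.hom) :=
      isHomLift_map_toId_comp Ga ea.hom hea A.obj
    obtain ⟨θ, ⟨hθ1, hθ2⟩, -⟩ := IsFibGrpd.existsUnique 𝒳.p h𝒳 (𝟙 A.obj.left) A.obj.hom
      A.obj.hom (Category.id_comp _).symm ψ (Ga.map (toId U A.obj) ≫ ea.hom)
    have h6 : Ga.map (toId U A.obj) ≫ μ.toNatTrans.app (Over.mk (𝟙 U)) =
        Ga.map (toId U A.obj) ≫ μ'.toNatTrans.app (Over.mk (𝟙 U)) := by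
      have k : (Ga.map (toId U A.obj) ≫ ea.hom) ≫ m = (Ga.map (toId U A.obj) ≫ ea.hom) ≫ m' := by
        rw [← hθ2, Category.assoc, Category.assoc, hψm]
      rw [hμ, hμ']
      have k2 := congrArg (fun z => z ≫ eb.inv) k
      simpa only [Category.assoc] using k2
    have h7 : μ.toNatTrans.app A.obj ≫ Gb.map (toId U A.obj) =
        μ'.toNatTrans.app A.obj ≫ Gb.map (toId U A.obj) := by
      have n1 := μ.toNatTrans.naturality (toId U A.obj)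
      have n2 := μ'.toNatTrans.naturality (toId U A.obj)
      exact n1.symm.trans (h6.trans n2)
    have h8 : 𝒳.p.IsHomLift (𝟙 A.obj.left) (μ.toNatTrans.app A.obj) := isHomLift_app_over U μ A.obj
    have h9 : 𝒳.p.IsHomLift (𝟙 A.obj.left) (μ'.toNatTrans.app A.obj) :=
      isHomLift_app_over U μ' A.obj
    exact IsFibGrpd.ext_of_comp 𝒳.p h𝒳 (𝟙 A.obj.left) (Gb.map (toId U A.obj)) h7
  have h6 : μ = μ' := hR.map_injective h5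
  have h7 : ea.hom ≫ m ≫ eb.inv = ea.hom ≫ m' ≫ eb.inv := by
    rw [← hμ, ← hμ', h6]
  have h8 := (cancel_epi ea.hom).1 h7
  exact (cancel_mono eb.inv).1 h8

section Fp

variable (F : 𝒳 ⥤ᵇ 𝒮) (G : 𝒴 ⥤ᵇ 𝒮)

/-- Constructor for objects of the 2-fibre product. -/
def fpMkObj (x : 𝒳.obj) (y : 𝒴.obj) (θ : F.obj x ≅ G.obj y)
    (hθ : 𝒮.p.IsHomLift (𝟙 (𝒳.p.obj x)) θ.hom) : (FibCat.fp F G).obj :=
  ⟨{ fst := x, snd := y, iso := θ }, hθ⟩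

/-- Constructor for morphisms of the 2-fibre product. -/
def fpMkHom {Z Z' : (FibCat.fp F G).obj} (m₁ : Z.obj.fst ⟶ Z'.obj.fst) (m₂ : Z.obj.snd ⟶ Z'.obj.snd)
    (w : F.map m₁ ≫ Z'.obj.iso.hom = Z.obj.iso.hom ≫ G.map m₂) : Z ⟶ Z' :=
  ObjectProperty.homMk { fst := m₁, snd := m₂, w := w }

theorem fp_isHomLift_of_fst {Z Z' : (FibCat.fp F G).obj} {R S : C} (f : R ⟶ S) (m : Z ⟶ Z')
    (h : 𝒳.p.IsHomLift f m.hom.fst) : (FibCat.fp F G).p.IsHomLift f m := by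
  have h2 : 𝒳.p.IsHomLift f ((FibCat.fpFst F G).map m) := h
  exact BasedFunctor.isHomLift_map (FibCat.fpFst F G) f m

/-- From a local lift `φ : F x ⟶ G a` over `f`, an object of the 2-fibre product whose second
component is a pullback of `a` along `f`. -/
theorem exists_fpObj_of_lift (h𝒴 : FibCat.IsFibGrpd 𝒴.p) (h𝒮 : FibCat.IsFibGrpd 𝒮.p)
    {V U : C} (f : V ⟶ U) (a : 𝒴.obj) (ha : 𝒴.p.obj a = U) (x : 𝒳.obj) (φ : F.obj x ⟶ G.obj a)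
    (hφ : 𝒮.p.IsHomLift f φ) :
    ∃ (Z : (FibCat.fp F G).obj) (ψ : Z.obj.snd ⟶ a), 𝒴.p.IsHomLift f ψ ∧ 𝒳.p.obj Z.obj.fst = V := by
  obtain ⟨a', ψ, hψ⟩ := IsFibGrpd.exists_lift_of_eq 𝒴.p h𝒴 ha f
  have hGψ : 𝒮.p.IsHomLift f (G.map ψ) := BasedFunctor.preserves_isHomLift G _ _
  obtain ⟨θ, ⟨hθ1, hθ2⟩, -⟩ := IsFibGrpd.existsUnique 𝒮.p h𝒮 (𝟙 V) f f (Category.id_comp _).symm
    (G.map ψ) φ
  have hiso : IsIso θ := IsFibGrpd.isIso_of_isHomLift_id 𝒮.p h𝒮 (S := V) θ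
  have hxV : 𝒳.p.obj x = V := by
    have h1 := IsHomLift.domain_eq 𝒮.p f φ
    rw [← h1]
    exact (F.w_obj x).symm
  have hθ' : 𝒮.p.IsHomLift (𝟙 (𝒳.p.obj x)) θ := by
    rw [hxV]; exact hθ1
  exact ⟨fpMkObj F G x a' (@asIso _ _ _ _ θ hiso) hθ', ψ, hψ, hxV⟩

end Fp

/-- The comparison automorphism of a pullback induced by two parallel morphisms over an
identity. -/
theorem exists_aut_of_pair (h𝒳 : FibCat.IsFibGrpd 𝒳.p) {V U : C} (f : V ⟶ U) {a' a b : 𝒳.obj}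
    (ψ : a' ⟶ a) (hψ : 𝒳.p.IsHomLift f ψ) (m m' : a ⟶ b) (hm : 𝒳.p.IsHomLift (𝟙 U) m)
    (hm' : 𝒳.p.IsHomLift (𝟙 U) m') :
    ∃ n : a' ⟶ a', 𝒳.p.IsHomLift (𝟙 V) n ∧ n ≫ ψ ≫ m' = ψ ≫ m := by
  have h1 : 𝒳.p.IsHomLift f (ψ ≫ m) := isHomLift_comp_id_right 𝒳.p f ψ m hψ hm
  have h2 : 𝒳.p.IsHomLift f (ψ ≫ m') := isHomLift_comp_id_right 𝒳.p f ψ m' hψ hm'
  obtain ⟨n, ⟨hn1, hn2⟩, -⟩ := IsFibGrpd.existsUnique 𝒳.p h𝒳 (𝟙 V) f f (Category.id_comp _).symm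
    (ψ ≫ m') (ψ ≫ m)
  exact ⟨n, hn1, hn2⟩

end Groth.Agent.Helper2.StkLib
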