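import Mathlib
import Groth.Prelude.Def_AlgSt
import Groth.Prelude.Def_FibCat2
import Groth.Agent.Lib.Helper2.Stk.Post
import Groth.Agent.Lib.Helper2.Stk.Yon

/-!
# Functors into the category over `C` of a presheaf are compatible families of sections (helper2)
-/

set_option autoImplicit false
open CategoryTheory CategoryTheory.Functor Opposite

universe w v₃ u₃ v₂ u₂ v u

namespace Groth.Agent.Helper2.StkLib

open Groth.Agent.Helper2 Groth.Agent.Helper2.FibCatLib

variable {C : Type u} [Category.{v} C]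

/-- A compatible family of sections of the presheaf `P` indexed by the objects of `𝒜`. -/
structure PshSec (P : Cᵒᵖ ⥤ Type w) (𝒜 : BasedCategory.{v₂, u₂} C) where
  val : ∀ a : 𝒜.obj, P.obj (op (𝒜.p.obj a))
  compat : ∀ {a a' : 𝒜.obj} (g : a ⟶ a'), P.map (𝒜.p.map g).op (val a') = val a

namespace PshSec

variable {P : Cᵒᵖ ⥤ Type w} {𝒜 : BasedCategory.{v₂, u₂} C} {ℬ : BasedCategory.{v₃, u₃} C}

@[ext] theorem ext {s t : PshSec P 𝒜} (h : ∀ a, s.val a = t.val a) : s = t := by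
  cases s; cases t
  congr
  funext a
  exact h a

/-- Transport of sections along an equality of objects. -/
def tr {X Y : C} (h : X = Y) (x : P.obj (op Y)) : P.obj (op X) := P.map (eqToHom h).op x

@[simp] theorem tr_rfl {X : C} (x : P.obj (op X)) : tr (P := P) (rfl : X = X) x = x := by
  simp [tr]

theorem tr_tr {X Y Z : C} (h : X = Y) (h' : Y = Z) (x : P.obj (op Z)) :
    tr h (tr h' x) = tr (h.trans h') x := by
  subst h; subst h'; simp

theorem tr_injective {X Y : C} (h : X = Y) {x y : P.obj (op Y)} (hxy : tr (P := P) h x = tr h y) :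
    x = y := by
  subst h; simpa using hxy

theorem map_tr {X Y X' Y' : C} (h : X = Y) (h' : X' = Y') (f : X ⟶ X') (g : Y ⟶ Y')
    (hfg : f = eqToHom h ≫ g ≫ eqToHom h'.symm) (x : P.obj (op Y')) :
    P.map f.op (tr h' x) = tr h (P.map g.op x) := by
  subst h; subst h'
  simp only [eqToHom_refl, Category.id_comp, Category.comp_id] at hfg
  subst hfg
  simp

/-- The functor over `C` attached to a compatible family. -/
def toFunctor (s : PshSec P 𝒜) : 𝒜 ⥤ᵇ Stk.ofPsh P where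
  toFunctor :=
    { obj := fun a => ⟨𝒜.p.obj a, s.val a⟩
      map := fun {a a'} g => ⟨𝒜.p.map g, s.compat g⟩
      map_id := fun a => by
        apply Stk.EltObj.hom_ext
        exact 𝒜.p.map_id a
      map_comp := fun g g' => by
        apply Stk.EltObj.hom_ext
        exact 𝒜.p.map_comp g g' }
  w := rfl

/-- The compatible family attached to a functor over `C`. -/
def ofFunctor (G : 𝒜 ⥤ᵇ Stk.ofPsh P) : PshSec P 𝒜 where
  val a := tr (G.w_obj a).symm (G.obj a).sec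
  compat {a a'} g := by
    have h1 : (G.map g).hom = eqToHom (G.w_obj a) ≫ 𝒜.p.map g ≫ eqToHom (G.w_obj a').symm :=
      Functor.congr_hom G.w g
    have h2 : 𝒜.p.map g = eqToHom (G.w_obj a).symm ≫ (G.map g).hom ≫
        eqToHom (G.w_obj a').symm.symm := by
      rw [h1]; simp
    rw [map_tr (G.w_obj a).symm (G.w_obj a').symm (𝒜.p.map g) (G.map g).hom h2]
    exact congrArg (tr (G.w_obj a).symm) (G.map g).map_sec

@[simp] theorem ofFunctor_toFunctor (s : PshSec P 𝒜) : ofFunctor (toFunctor s) = s := by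
  ext a
  exact tr_rfl _

/-- Pullback of a compatible family along a functor over `C`. -/
def pullback (ι : 𝒜 ⥤ᵇ ℬ) (s : PshSec P ℬ) : PshSec P 𝒜 where
  val a := tr (ι.w_obj a).symm (s.val (ι.obj a))
  compat {a a'} g := by
    have h1 : ℬ.p.map (ι.map g) = eqToHom (ι.w_obj a) ≫ 𝒜.p.map g ≫ eqToHom (ι.w_obj a').symm :=
      Functor.congr_hom ι.w g
    have h2 : 𝒜.p.map g = eqToHom (ι.w_obj a).symm ≫ ℬ.p.map (ι.map g) ≫
        eqToHom (ι.w_obj a').symm.symm := by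
      rw [h1]; simp
    rw [map_tr (ι.w_obj a).symm (ι.w_obj a').symm (𝒜.p.map g) (ℬ.p.map (ι.map g)) h2]
    rw [s.compat (ι.map g)]

theorem ofFunctor_comp (ι : 𝒜 ⥤ᵇ ℬ) (G : ℬ ⥤ᵇ Stk.ofPsh P) :
    ofFunctor (BasedFunctor.comp ι G) = pullback ι (ofFunctor G) := by
  ext a
  change tr _ (G.obj (ι.obj a)).sec = tr _ (tr _ (G.obj (ι.obj a)).sec)
  rw [tr_tr]

/-- A morphism of the category of a presheaf lying over an identity is determined. -/
theorem hom_eq_of_isHomLift_id {a b : (Stk.ofPsh P).obj} {S : C} (φ ψ : a ⟶ b)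
    (hφ : (Stk.ofPsh P).p.IsHomLift (𝟙 S) φ) (hψ : (Stk.ofPsh P).p.IsHomLift (𝟙 S) ψ) : φ = ψ := by
  apply Stk.EltObj.hom_ext
  have h1 := IsHomLift.fac' (Stk.ofPsh P).p (𝟙 S) φ
  have h2 := IsHomLift.fac' (Stk.ofPsh P).p (𝟙 S) ψ
  exact h1.trans h2.symm

instance hom_subsingleton (G G' : 𝒜 ⥤ᵇ Stk.ofPsh P) : Subsingleton (G ⟶ G') where
  allEq α β := by
    apply BasedNatTrans.homCategory.ext
    ext a
    exact congrArg Stk.EltObj.Hom.hom
      (hom_eq_of_isHomLift_id _ _ (α.isHomLift' a) (β.isHomLift' a))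

theorem sec_eq_tr_of_hom {a b : (Stk.ofPsh P).obj} (φ : a ⟶ b) (e : a.base = b.base)
    (hφ : φ.hom = eqToHom e) : a.sec = tr e b.sec := by
  rw [← φ.map_sec, hφ]
  rfl

theorem ofFunctor_eq_of_hom {G G' : 𝒜 ⥤ᵇ Stk.ofPsh P} (α : G ⟶ G') :
    ofFunctor G = ofFunctor G' := by
  ext a
  have h1 : (Stk.ofPsh P).p.IsHomLift (𝟙 (𝒜.p.obj a)) (α.toNatTrans.app a) := α.isHomLift' a
  have h2 := IsHomLift.fac' (Stk.ofPsh P).p (𝟙 (𝒜.p.obj a)) (α.toNatTrans.app a)
  have h3 : (α.toNatTrans.app a).hom = eqToHom ((G.w_obj a).trans (G'.w_obj a).symm) := by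
    have h4 : (α.toNatTrans.app a).hom = eqToHom (G.w_obj a) ≫ 𝟙 (𝒜.p.obj a) ≫
        eqToHom (G'.w_obj a).symm := h2
    rw [h4]; simp
  have h5 : (G.obj a).sec = tr ((G.w_obj a).trans (G'.w_obj a).symm) (G'.obj a).sec :=
    sec_eq_tr_of_hom (α.toNatTrans.app a) _ h3
  change tr (G.w_obj a).symm (G.obj a).sec = tr (G'.w_obj a).symm (G'.obj a).sec
  rw [h5, tr_tr]

theorem exists_hom_of_ofFunctor_eq {G G' : 𝒜 ⥤ᵇ Stk.ofPsh P}
    (h : ofFunctor G = ofFunctor G') : Nonempty (G ⟶ G') := by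
  have hval : ∀ a, tr (G.w_obj a).symm (G.obj a).sec = tr (G'.w_obj a).symm (G'.obj a).sec :=
    fun a => congrArg (fun s => s.val a) h
  have hsec : ∀ a, P.map (eqToHom ((G.w_obj a).trans (G'.w_obj a).symm)).op (G'.obj a).sec =
      (G.obj a).sec := by
    intro a
    apply tr_injective (G.w_obj a).symm
    rw [hval a]
    change tr (G.w_obj a).symm (tr ((G.w_obj a).trans (G'.w_obj a).symm) (G'.obj a).sec) = _
    rw [tr_tr]
  let c : ∀ a : 𝒜.obj, G.obj a ⟶ G'.obj a := fun a =>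
    ⟨eqToHom ((G.w_obj a).trans (G'.w_obj a).symm), hsec a⟩
  have hc : ∀ a, (Stk.ofPsh P).p.IsHomLift (𝟙 (𝒜.p.obj a)) (c a) := by
    intro a
    apply IsHomLift.of_fac' (Stk.ofPsh P).p (𝟙 (𝒜.p.obj a)) (c a) (G.w_obj a) (G'.w_obj a)
    show eqToHom ((G.w_obj a).trans (G'.w_obj a).symm) = eqToHom (G.w_obj a) ≫
      𝟙 (𝒜.p.obj a) ≫ eqToHom (G'.w_obj a).symm
    simp
  refine ⟨{ toNatTrans := { app := c, naturality := ?_ }, isHomLift' := hc }⟩
  intro a a' g
  apply Stk.EltObj.hom_ext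
  show (G.map g).hom ≫ eqToHom ((G.w_obj a').trans (G'.w_obj a').symm) =
    eqToHom ((G.w_obj a).trans (G'.w_obj a).symm) ≫ (G'.map g).hom
  have h1 : (G.map g).hom = eqToHom (G.w_obj a) ≫ 𝒜.p.map g ≫ eqToHom (G.w_obj a').symm :=
    Functor.congr_hom G.w g
  have h2 : (G'.map g).hom = eqToHom (G'.w_obj a) ≫ 𝒜.p.map g ≫ eqToHom (G'.w_obj a').symm :=
    Functor.congr_hom G'.w g
  rw [h1, h2]
  simp

end PshSec

end Groth.Agent.Helper2.StkLib
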