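import Mathlib
import Groth.Prelude.Def_AlgSt
import Groth.Prelude.Def_FibCat2
import Groth.Agent.Lib.Helper2.Stk.OfPsh
import Groth.Agent.Lib.Helper2.FibCat.ReprInv

/-!
# Functors over `C` between categories of presheaves are maps of presheaves (helper2)
-/

set_option autoImplicit false
open CategoryTheory CategoryTheory.Functor Opposite

universe w v₃ u₃ v₂ u₂ v u

namespace Groth.Agent.Helper2.StkLib

open Groth.Agent.Helper2 Groth.Agent.Helper2.FibCatLib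

variable {C : Type u} [Category.{v} C]

section General

variable {P : Cᵒᵖ ⥤ Type w} {𝒜 : BasedCategory.{v₂, u₂} C}

/-- Functors into the category of a presheaf with the same family of sections are isomorphic. -/
theorem iso_of_ofFunctor_eq {G G' : 𝒜 ⥤ᵇ Stk.ofPsh P}
    (h : PshSec.ofFunctor G = PshSec.ofFunctor G') : Nonempty (G ≅ G') := by
  obtain ⟨α⟩ := PshSec.exists_hom_of_ofFunctor_eq h
  obtain ⟨β⟩ := PshSec.exists_hom_of_ofFunctor_eq h.symm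
  exact ⟨{ hom := α, inv := β, hom_inv_id := Subsingleton.elim _ _,
           inv_hom_id := Subsingleton.elim _ _ }⟩

end General

variable {P Q R : Cᵒᵖ ⥤ Type w}

/-- The map of presheaves attached to a functor over `C` between categories of presheaves. -/
def mapOfFunctor (Φ : Stk.ofPsh P ⥤ᵇ Stk.ofPsh Q) : P ⟶ Q where
  app T := ↾fun x => (PshSec.ofFunctor Φ).val ⟨T.unop, x⟩
  naturality T T' g := by
    ext x
    let a : (Stk.ofPsh P).obj := ⟨T.unop, x⟩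
    let a' : (Stk.ofPsh P).obj := ⟨T'.unop, P.map g x⟩
    let m : a' ⟶ a := ⟨g.unop, rfl⟩
    exact ((PshSec.ofFunctor Φ).compat m).symm

theorem mapOfFunctor_app (Φ : Stk.ofPsh P ⥤ᵇ Stk.ofPsh Q) (a : (Stk.ofPsh P).obj) :
    (mapOfFunctor Φ).app (op a.base) a.sec = (PshSec.ofFunctor Φ).val a := rfl

@[simp] theorem mapOfFunctor_ofPshMap (φ : P ⟶ Q) : mapOfFunctor (Stk.ofPshMap φ) = φ := by
  ext T x
  change PshSec.tr rfl (φ.app _ x) = φ.app T x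
  exact PshSec.tr_rfl _

theorem ofFunctor_ofPshMap_mapOfFunctor (Φ : Stk.ofPsh P ⥤ᵇ Stk.ofPsh Q) :
    PshSec.ofFunctor (Stk.ofPshMap (mapOfFunctor Φ)) = PshSec.ofFunctor Φ := by
  ext a
  change PshSec.tr rfl ((PshSec.ofFunctor Φ).val a) = _
  exact PshSec.tr_rfl _

theorem ofPshMap_mapOfFunctor_iso (Φ : Stk.ofPsh P ⥤ᵇ Stk.ofPsh Q) :
    Nonempty (Stk.ofPshMap (mapOfFunctor Φ) ≅ Φ) :=
  iso_of_ofFunctor_eq (ofFunctor_ofPshMap_mapOfFunctor Φ)

theorem mapOfFunctor_congr {Φ Φ' : Stk.ofPsh P ⥤ᵇ Stk.ofPsh Q} (α : Φ ⟶ Φ') :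
    mapOfFunctor Φ = mapOfFunctor Φ' := by
  ext T x
  change (PshSec.ofFunctor Φ).val ⟨T.unop, x⟩ = (PshSec.ofFunctor Φ').val ⟨T.unop, x⟩
  rw [PshSec.ofFunctor_eq_of_hom α]

theorem mapOfFunctor_id : mapOfFunctor (BasedFunctor.id (Stk.ofPsh P)) = 𝟙 P := by
  ext T x
  change PshSec.tr rfl x = x
  exact PshSec.tr_rfl _

theorem ofFunctor_val_eq (Ψ : Stk.ofPsh Q ⥤ᵇ Stk.ofPsh R) (b : (Stk.ofPsh Q).obj) {T : C}
    (e : b.base = T) :
    (PshSec.ofFunctor Ψ).val ⟨T, PshSec.tr e.symm b.sec⟩ =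
      PshSec.tr e.symm ((PshSec.ofFunctor Ψ).val b) := by
  subst e
  have key : ∀ (T : C) (s s' : Q.obj (op T)), s' = s →
      (PshSec.ofFunctor Ψ).val ⟨T, s'⟩ = (PshSec.ofFunctor Ψ).val ⟨T, s⟩ := by
    rintro T s _ rfl
    rfl
  exact (key b.base b.sec _ (PshSec.tr_rfl _)).trans (PshSec.tr_rfl _).symm

theorem mapOfFunctor_comp (Φ : Stk.ofPsh P ⥤ᵇ Stk.ofPsh Q) (Ψ : Stk.ofPsh Q ⥤ᵇ Stk.ofPsh R) :
    mapOfFunctor (BasedFunctor.comp Φ Ψ) = mapOfFunctor Φ ≫ mapOfFunctor Ψ := by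
  ext T x
  let a : (Stk.ofPsh P).obj := ⟨T.unop, x⟩
  change (PshSec.ofFunctor (BasedFunctor.comp Φ Ψ)).val a =
    (PshSec.ofFunctor Ψ).val ⟨T.unop, (PshSec.ofFunctor Φ).val a⟩
  rw [PshSec.ofFunctor_comp]
  change PshSec.tr (Φ.w_obj a).symm ((PshSec.ofFunctor Ψ).val (Φ.obj a)) =
    (PshSec.ofFunctor Ψ).val ⟨T.unop, PshSec.tr (Φ.w_obj a).symm (Φ.obj a).sec⟩
  exact (ofFunctor_val_eq Ψ (Φ.obj a) (Φ.w_obj a)).symm

theorem isIso_mapOfFunctor_of_isEquivOver (Φ : Stk.ofPsh P ⥤ᵇ Stk.ofPsh Q)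
    (h : FibCat.IsEquivOver Φ) : IsIso (mapOfFunctor Φ) := by
  obtain ⟨Ψ, ⟨α⟩, ⟨β⟩⟩ := h
  refine ⟨mapOfFunctor Ψ, ?_, ?_⟩
  · rw [← mapOfFunctor_comp, mapOfFunctor_congr α.hom, mapOfFunctor_id]
  · rw [← mapOfFunctor_comp, mapOfFunctor_congr β.hom, mapOfFunctor_id]

theorem ofPshMap_comp_iso (φ : P ⟶ Q) (ψ : Q ⟶ R) :
    Nonempty (BasedFunctor.comp (Stk.ofPshMap φ) (Stk.ofPshMap ψ) ≅ Stk.ofPshMap (φ ≫ ψ)) := by
  apply iso_of_ofFunctor_eq
  ext a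
  rfl

theorem ofPshMap_id_iso : Nonempty (Stk.ofPshMap (𝟙 P) ≅ BasedFunctor.id (Stk.ofPsh P)) := by
  apply iso_of_ofFunctor_eq
  ext a
  rfl

theorem isEquivOver_ofPshMap_of_isIso (φ : P ⟶ Q) [IsIso φ] :
    FibCat.IsEquivOver (Stk.ofPshMap φ) := by
  refine ⟨Stk.ofPshMap (inv φ), ?_, ?_⟩
  · apply iso_of_ofFunctor_eq
    ext a
    change PshSec.tr rfl ((inv φ).app _ (φ.app _ a.sec)) = PshSec.tr rfl a.sec
    have h : (inv φ).app (op a.base) (φ.app (op a.base) a.sec) = a.sec := by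
      have := congrArg (fun m => m.app (op a.base) a.sec) (IsIso.hom_inv_id φ)
      exact this
    rw [h]
  · apply iso_of_ofFunctor_eq
    ext a
    change PshSec.tr rfl (φ.app _ ((inv φ).app _ a.sec)) = PshSec.tr rfl a.sec
    have h : φ.app (op a.base) ((inv φ).app (op a.base) a.sec) = a.sec := by
      have := congrArg (fun m => m.app (op a.base) a.sec) (IsIso.inv_hom_id φ)
      exact this
    rw [h]

theorem isEquivOver_ofPshMap_iff (φ : P ⟶ Q) :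
    FibCat.IsEquivOver (Stk.ofPshMap φ) ↔ IsIso φ := by
  constructor
  · intro h
    have := isIso_mapOfFunctor_of_isEquivOver _ h
    rwa [mapOfFunctor_ofPshMap] at this
  · intro h
    exact isEquivOver_ofPshMap_of_isIso φ

end Groth.Agent.Helper2.StkLib
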