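import Mathlib
import Groth.Prelude.Def_AlgSt
import Groth.Prelude.Def_FibCat2
import Groth.Agent.Lib.Helper2.Stk.OfPshFun
import Groth.Agent.Lib.Helper2.Stk.LocAut
import Groth.Agent.Lib.Helper2.FibCat.EquivCrit

/-!
# The category of a fibre product of presheaves is the 2-fibre product (helper2)
-/

set_option autoImplicit false
open CategoryTheory CategoryTheory.Functor CategoryTheory.Limits Opposite

universe w v₃ u₃ v₂ u₂ v u

namespace Groth.Agent.Helper2.StkLib

open Groth.Agent.Helper2 Groth.Agent.Helper2.FibCatLib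

variable {C : Type u} [Category.{v} C]

variable {P Q R W : Cᵒᵖ ⥤ Type w}

/-- Equal sections give isomorphic objects, with underlying morphism the identity. -/
def eltIsoOfEq {T : C} {x y : R.obj (op T)} (h : x = y) :
    (⟨T, x⟩ : Stk.EltObj R) ≅ ⟨T, y⟩ where
  hom := ⟨𝟙 T, by subst h; simp⟩
  inv := ⟨𝟙 T, by subst h; simp⟩
  hom_inv_id := by apply Stk.EltObj.hom_ext; simp
  inv_hom_id := by apply Stk.EltObj.hom_ext; simp

@[simp] theorem eltIsoOfEq_hom_hom {T : C} {x y : R.obj (op T)} (h : x = y) :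
    (eltIsoOfEq (R := R) h).hom.hom = 𝟙 T := rfl

@[simp] theorem eltIsoOfEq_inv_hom {T : C} {x y : R.obj (op T)} (h : x = y) :
    (eltIsoOfEq (R := R) h).inv.hom = 𝟙 T := rfl

theorem isHomLift_of_hom_eq_id {a b : (Stk.ofPsh R).obj} (m : a ⟶ b) (e : a.base = b.base)
    (hm : m.hom = eqToHom e) : (Stk.ofPsh R).p.IsHomLift (𝟙 a.base) m := by
  apply IsHomLift.of_fac' (Stk.ofPsh R).p (𝟙 a.base) m rfl e.symm
  change m.hom = eqToHom rfl ≫ 𝟙 a.base ≫ eqToHom e.symm.symm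
  rw [hm]
  simp

variable (φ : P ⟶ R) (ψ : Q ⟶ R) (fst : W ⟶ P) (snd : W ⟶ Q)

/-- The 2-isomorphism filling the square of categories attached to a commutative square of
presheaves. -/
def sqIso (h : fst ≫ φ = snd ≫ ψ) :
    BasedFunctor.comp (Stk.ofPshMap fst) (Stk.ofPshMap φ) ≅
      BasedFunctor.comp (Stk.ofPshMap snd) (Stk.ofPshMap ψ) :=
  BasedNatIso.mkNatIso
    (NatIso.ofComponents
      (fun a => eltIsoOfEq (T := a.base)
        (congrArg (fun m : W ⟶ R => m.app (op a.base) a.sec) h))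
      (by
        intro a b m
        apply Stk.EltObj.hom_ext
        change m.hom ≫ 𝟙 _ = 𝟙 _ ≫ m.hom
        simp))
    (by
      intro a
      exact isHomLift_of_hom_eq_id _ rfl rfl)

/-- The comparison functor from the category of `W` to the 2-fibre product. -/
def fpCmp (h : fst ≫ φ = snd ≫ ψ) :
    Stk.ofPsh W ⥤ᵇ FibCat.fp (Stk.ofPshMap φ) (Stk.ofPshMap ψ) :=
  FibCat.fpLift (Stk.ofPshMap fst) (Stk.ofPshMap snd) (sqIso φ ψ fst snd h)

theorem fpCmp_fst (h : fst ≫ φ = snd ≫ ψ) :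
    BasedFunctor.comp (fpCmp φ ψ fst snd h) (FibCat.fpFst _ _) = Stk.ofPshMap fst := rfl

theorem fpCmp_snd (h : fst ≫ φ = snd ≫ ψ) :
    BasedFunctor.comp (fpCmp φ ψ fst snd h) (FibCat.fpSnd _ _) = Stk.ofPshMap snd := rfl

variable {φ ψ fst snd}

theorem fpCmp_faithful (h : fst ≫ φ = snd ≫ ψ) : (fpCmp φ ψ fst snd h).toFunctor.Faithful := by
  refine ⟨fun {a b} m m' hmm => ?_⟩
  apply Stk.EltObj.hom_ext
  have h1 := congrArg (fun k => k.hom.fst.hom) hmm
  exact h1

theorem fpCmp_full (sq : IsPullback fst snd φ ψ) : (fpCmp φ ψ fst snd sq.w).toFunctor.Full := by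
  refine ⟨fun {a b} m => ?_⟩
  -- the two underlying morphisms of the base agree
  have hw := m.hom.w
  have h1 : m.hom.fst.hom = m.hom.snd.hom := by
    have := congrArg Stk.EltObj.Hom.hom hw
    change m.hom.fst.hom ≫ 𝟙 _ = 𝟙 _ ≫ m.hom.snd.hom at this
    simpa using this
  let g : a.base ⟶ b.base := m.hom.fst.hom
  let g' : a.base ⟶ b.base := m.hom.snd.hom
  have hgg' : g = g' := h1
  have hsec : W.map g.op b.sec = a.sec := by
    apply Types.ext_of_isPullback (sq.app (op a.base))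
    · have n1 : fst.app (op a.base) (W.map g.op b.sec) =
          P.map g.op (fst.app (op b.base) b.sec) := NatTrans.naturality_apply fst g.op b.sec
      have n2 : P.map g.op (fst.app (op b.base) b.sec) = fst.app (op a.base) a.sec :=
        m.hom.fst.map_sec
      exact n1.trans n2
    · have n1 : snd.app (op a.base) (W.map g.op b.sec) =
          Q.map g.op (snd.app (op b.base) b.sec) := NatTrans.naturality_apply snd g.op b.sec
      have n2 : Q.map g'.op (snd.app (op b.base) b.sec) = snd.app (op a.base) a.sec :=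
        m.hom.snd.map_sec
      have n3 : Q.map g.op (snd.app (op b.base) b.sec) = snd.app (op a.base) a.sec := by
        rw [hgg']; exact n2
      exact n1.trans n3
  refine ⟨⟨g, hsec⟩, ?_⟩
  apply ObjectProperty.hom_ext
  apply CategoricalPullback.hom_ext
  · apply Stk.EltObj.hom_ext
    rfl
  · apply Stk.EltObj.hom_ext
    exact h1

theorem fpCmp_exists_iso (sq : IsPullback fst snd φ ψ)
    (η : (FibCat.fp (Stk.ofPshMap φ) (Stk.ofPshMap ψ)).obj) :
    ∃ (ξ : (Stk.ofPsh W).obj) (e : (fpCmp φ ψ fst snd sq.w).toFunctor.obj ξ ≅ η),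
      (FibCat.fp (Stk.ofPshMap φ) (Stk.ofPshMap ψ)).p.IsHomLift
        (𝟙 ((FibCat.fp (Stk.ofPshMap φ) (Stk.ofPshMap ψ)).p.obj η)) e.hom := by
  obtain ⟨⟨⟨T, x⟩, ⟨T', y⟩, θ⟩, hθ⟩ := η
  have hθ' : (Stk.ofPsh R).p.IsHomLift (𝟙 T) θ.hom := hθ
  have hT : T' = T := IsHomLift.codomain_eq (Stk.ofPsh R).p (𝟙 T) θ.hom
  subst hT
  have hθhom : θ.hom.hom = 𝟙 T' := by
    have := IsHomLift.fac' (Stk.ofPsh R).p (𝟙 T') θ.hom
    change θ.hom.hom = eqToHom rfl ≫ 𝟙 T' ≫ eqToHom rfl at this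
    simpa using this
  have hxy : φ.app (op T') x = ψ.app (op T') y := by
    have key : ∀ (k : T' ⟶ T'), k = 𝟙 T' →
        R.map k.op (ψ.app (op T') y) = φ.app (op T') x →
          φ.app (op T') x = ψ.app (op T') y := by
      rintro _ rfl h
      rw [← h]
      simp
    exact key θ.hom.hom hθhom θ.hom.map_sec
  obtain ⟨z, hz1, hz2⟩ := Types.exists_of_isPullback (sq.app (op T')) x y hxy
  let e₁ : (⟨T', fst.app (op T') z⟩ : Stk.EltObj P) ≅ ⟨T', x⟩ := eltIsoOfEq hz1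
  let e₂ : (⟨T', snd.app (op T') z⟩ : Stk.EltObj Q) ≅ ⟨T', y⟩ := eltIsoOfEq hz2
  refine ⟨⟨T', z⟩, ObjectProperty.isoMk _ (CategoricalPullback.mkIso e₁ e₂ ?_), ?_⟩
  · apply Stk.EltObj.hom_ext
    change (𝟙 T' ≫ θ.hom.hom) = (𝟙 T' ≫ 𝟙 T')
    exact congrArg (𝟙 T' ≫ ·) hθhom
  · apply fp_isHomLift_of_fst
    exact isHomLift_of_hom_eq_id e₁.hom rfl rfl

theorem fpCmp_isEquivOver (sq : IsPullback fst snd φ ψ) :
    FibCat.IsEquivOver (fpCmp φ ψ fst snd sq.w) := by
  have := fpCmp_full sq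
  have := fpCmp_faithful (φ := φ) (ψ := ψ) (fst := fst) (snd := snd) sq.w
  exact isEquivOver_of_fullyFaithful_of_exists_iso _ (fpCmp_exists_iso sq)

end Groth.Agent.Helper2.StkLib
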