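import Mathlib
import Groth.Prelude.Def_AlgSt
import Groth.Prelude.Def_FibCat2
import Groth.Agent.Lib.Helper2.EquivOver
import Groth.Agent.Lib.Helper2.FibCat.EquivCrit

/-!
# Stacks over a site: invariance under equivalences over the base (helper2)
-/

set_option autoImplicit false
open CategoryTheory CategoryTheory.Functor

universe v₅ u₅ v₄ u₄ v₃ u₃ v₂ u₂ v u

namespace Groth.Agent.Helper2.StkLib

open Groth.Agent.Helper2 Groth.Agent.Helper2.FibCatLib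

variable {C : Type u} [Category.{v} C]
variable {𝒜 : BasedCategory.{v₂, u₂} C} {ℬ : BasedCategory.{v₃, u₃} C}
  {𝒳 : BasedCategory.{v₄, u₄} C} {𝒴 : BasedCategory.{v₅, u₅} C}

/-- Restriction commutes with postcomposition. -/
def restrPostIso (ι : 𝒜 ⥤ᵇ ℬ) (F : 𝒳 ⥤ᵇ 𝒴) :
    Stk.restr ι 𝒳 ⋙ postF 𝒜 F ≅ postF ℬ F ⋙ Stk.restr ι 𝒴 :=
  NatIso.ofComponents (fun G => Iso.refl _) (by
    intro G G' α
    apply BasedNatTrans.homCategory.ext
    ext a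
    exact (Category.comp_id _).trans (Category.id_comp _).symm)

theorem isEquivalence_restr_iff (ι : 𝒜 ⥤ᵇ ℬ) (F : 𝒳 ⥤ᵇ 𝒴) (hF : FibCat.IsEquivOver F) :
    (Stk.restr ι 𝒳).IsEquivalence ↔ (Stk.restr ι 𝒴).IsEquivalence := by
  have h1 := postF_isEquivalence 𝒜 F hF
  have h2 := postF_isEquivalence ℬ F hF
  constructor
  · intro h
    have h3 : (Stk.restr ι 𝒳 ⋙ postF 𝒜 F).IsEquivalence := inferInstance
    have h4 : (postF ℬ F ⋙ Stk.restr ι 𝒴).IsEquivalence :=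
      Functor.isEquivalence_of_iso (restrPostIso ι F)
    exact Functor.isEquivalence_of_comp_left (postF ℬ F) (Stk.restr ι 𝒴)
  · intro h
    have h3 : (postF ℬ F ⋙ Stk.restr ι 𝒴).IsEquivalence := inferInstance
    have h4 : (Stk.restr ι 𝒳 ⋙ postF 𝒜 F).IsEquivalence :=
      Functor.isEquivalence_of_iso (restrPostIso ι F).symm
    exact Functor.isEquivalence_of_comp_right (Stk.restr ι 𝒳) (postF 𝒜 F)

theorem isFibGrpd_iff_of_isEquivOver (F : 𝒳 ⥤ᵇ 𝒴) (hF : FibCat.IsEquivOver F) :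
    FibCat.IsFibGrpd 𝒳.p ↔ FibCat.IsFibGrpd 𝒴.p := by
  constructor
  · intro h
    obtain ⟨G, hG, -, -⟩ := isEquivOver_inverse hF
    exact isFibGrpd_of_isEquivOver G hG h
  · intro h
    exact isFibGrpd_of_isEquivOver F hF h

theorem isStack_iff_of_isEquivOver (J : GrothendieckTopology C) (F : 𝒳 ⥤ᵇ 𝒴)
    (hF : FibCat.IsEquivOver F) : Stk.IsStack J 𝒳 ↔ Stk.IsStack J 𝒴 := by
  unfold Stk.IsStack Stk.IsStackFor
  rw [isFibGrpd_iff_of_isEquivOver F hF]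
  constructor
  · rintro ⟨h1, h2⟩
    exact ⟨h1, fun U R hR => (isEquivalence_restr_iff _ F hF).1 (h2 R hR)⟩
  · rintro ⟨h1, h2⟩
    exact ⟨h1, fun U R hR => (isEquivalence_restr_iff _ F hF).2 (h2 R hR)⟩

theorem isFibSetoid_of_faithful (F : 𝒳 ⥤ᵇ 𝒴) [F.toFunctor.Faithful] (h𝒳 : FibCat.IsFibGrpd 𝒳.p)
    (h : FibCat.IsFibSetoid 𝒴.p) : FibCat.IsFibSetoid 𝒳.p := by
  refine ⟨h𝒳, fun U A B => ⟨fun m m' => ?_⟩⟩
  apply Subtype.ext
  apply F.toFunctor.map_injective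
  have h1 : 𝒳.p.IsHomLift (𝟙 U) m.1 := m.2
  have h2 : 𝒳.p.IsHomLift (𝟙 U) m'.1 := m'.2
  have h3 : 𝒴.p.IsHomLift (𝟙 U) (F.toFunctor.map m.1) := BasedFunctor.preserves_isHomLift F _ _
  have h4 : 𝒴.p.IsHomLift (𝟙 U) (F.toFunctor.map m'.1) := BasedFunctor.preserves_isHomLift F _ _
  exact eq_of_isThin_fiber 𝒴.p (h.2 U) _ _

theorem isFibSetoid_iff_of_isEquivOver (F : 𝒳 ⥤ᵇ 𝒴) (hF : FibCat.IsEquivOver F) :
    FibCat.IsFibSetoid 𝒳.p ↔ FibCat.IsFibSetoid 𝒴.p := by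
  constructor
  · intro h
    obtain ⟨G, hG, -, -⟩ := isEquivOver_inverse hF
    have := Groth.Agent.Helper2.FibCatLib.isEquivalence_of_isEquivOver hG
    exact isFibSetoid_of_faithful G ((isFibGrpd_iff_of_isEquivOver F hF).1 h.1) h
  · intro h
    have := Groth.Agent.Helper2.FibCatLib.isEquivalence_of_isEquivOver hF
    exact isFibSetoid_of_faithful F ((isFibGrpd_iff_of_isEquivOver F hF).2 h.1) h

end Groth.Agent.Helper2.StkLib
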