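import Mathlib
import Groth.Prelude.Def_AlgSt
import Groth.Prelude.Def_FibCat2
import Groth.Agent.Lib.Helper2.Stk.OfPshFp

/-!
# The category of a product of presheaves is the product over the base (helper2)
-/

set_option autoImplicit false
open CategoryTheory CategoryTheory.Functor CategoryTheory.Limits Opposite

universe w v₃ u₃ v₂ u₂ v u

namespace Groth.Agent.Helper2.StkLib

open Groth.Agent.Helper2 Groth.Agent.Helper2.FibCatLib

variable {C : Type u} [Category.{v} C]

variable {P Q W : Cᵒᵖ ⥤ Type w} (fst : W ⟶ P) (snd : W ⟶ Q)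

/-- The 2-isomorphism filling the square over the base. -/
def prodSqIso :
    BasedFunctor.comp (Stk.ofPshMap fst) (FibCat.toSelf (Stk.ofPsh P)) ≅
      BasedFunctor.comp (Stk.ofPshMap snd) (FibCat.toSelf (Stk.ofPsh Q)) :=
  BasedNatIso.mkNatIso
    (NatIso.ofComponents (fun a => Iso.refl a.base)
      (by
        intro a b m
        exact (Category.comp_id _).trans (Category.id_comp _).symm))
    (fun a => IsHomLift.id rfl)

/-- The comparison functor from the category of `W` to the product over the base. -/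
def prodCmp : Stk.ofPsh W ⥤ᵇ
    FibCat.fp (FibCat.toSelf (Stk.ofPsh P)) (FibCat.toSelf (Stk.ofPsh Q)) :=
  FibCat.fpLift (Stk.ofPshMap fst) (Stk.ofPshMap snd) (prodSqIso fst snd)

theorem prodCmp_fst :
    BasedFunctor.comp (prodCmp fst snd) (FibCat.fpFst _ _) = Stk.ofPshMap fst := rfl

theorem prodCmp_snd :
    BasedFunctor.comp (prodCmp fst snd) (FibCat.fpSnd _ _) = Stk.ofPshMap snd := rfl

variable {fst snd}

theorem prodCmp_faithful : (prodCmp fst snd).toFunctor.Faithful := by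
  refine ⟨fun {a b} m m' hmm => ?_⟩
  apply Stk.EltObj.hom_ext
  have h1 := congrArg (fun k => k.hom.fst.hom) hmm
  exact h1

/-- `W` is a product of `P` and `Q`, sectionwise. -/
def IsProdSec (fst : W ⟶ P) (snd : W ⟶ Q) : Prop :=
  ∀ T : Cᵒᵖ, (∀ z z' : W.obj T, fst.app T z = fst.app T z' → snd.app T z = snd.app T z' → z = z') ∧
    ∀ (x : P.obj T) (y : Q.obj T), ∃ z : W.obj T, fst.app T z = x ∧ snd.app T z = y

theorem prodCmp_full (hW : IsProdSec fst snd) : (prodCmp fst snd).toFunctor.Full := by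
  refine ⟨fun {a b} m => ?_⟩
  have hw := m.hom.w
  let g : a.base ⟶ b.base := m.hom.fst.hom
  let g' : a.base ⟶ b.base := m.hom.snd.hom
  have hgg' : g = g' := by
    have : g ≫ 𝟙 _ = 𝟙 _ ≫ g' := hw
    simpa using this
  have hsec : W.map g.op b.sec = a.sec := by
    apply (hW (op a.base)).1
    · have n1 : fst.app (op a.base) (W.map g.op b.sec) =
          P.map g.op (fst.app (op b.base) b.sec) := NatTrans.naturality_apply fst g.op b.sec
      have n2 : P.map g.op (fst.app (op b.base) b.sec) = fst.app (op a.base) a.sec :=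
        m.hom.fst.map_sec
      exact n1.trans n2
    · have n1 : snd.app (op a.base) (W.map g.op b.sec) =
          Q.map g.op (snd.app (op b.base) b.sec) := NatTrans.naturality_apply snd g.op b.sec
      have n2 : Q.map g'.op (snd.app (op b.base) b.sec) = snd.app (op a.base) a.sec :=
        m.hom.snd.map_sec
      have n3 : Q.map g.op (snd.app (op b.base) b.sec) = snd.app (op a.base) a.sec := by
        rw [hgg']; exact n2
      exact n1.trans n3
  refine ⟨⟨g, hsec⟩, ?_⟩
  apply ObjectProperty.hom_ext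
  apply CategoricalPullback.hom_ext
  · apply Stk.EltObj.hom_ext
    rfl
  · apply Stk.EltObj.hom_ext
    exact hgg'

theorem prodCmp_exists_iso (hW : IsProdSec fst snd)
    (η : (FibCat.fp (FibCat.toSelf (Stk.ofPsh P)) (FibCat.toSelf (Stk.ofPsh Q))).obj) :
    ∃ (ξ : (Stk.ofPsh W).obj) (e : (prodCmp fst snd).toFunctor.obj ξ ≅ η),
      (FibCat.fp (FibCat.toSelf (Stk.ofPsh P)) (FibCat.toSelf (Stk.ofPsh Q))).p.IsHomLift
        (𝟙 ((FibCat.fp (FibCat.toSelf (Stk.ofPsh P)) (FibCat.toSelf (Stk.ofPsh Q))).p.obj η))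
        e.hom := by
  obtain ⟨⟨⟨T, x⟩, ⟨T', y⟩, θ⟩, hθ⟩ := η
  have hθ' : (FibCat.selfOver C).p.IsHomLift (𝟙 T) θ.hom := hθ
  have hT : T' = T := @IsHomLift.codomain_eq _ _ _ _ (FibCat.selfOver C).p _ _ _ _ (𝟙 T) θ.hom hθ'
  subst hT
  have hθhom : θ.hom = 𝟙 T' := by
    have := @IsHomLift.fac' _ _ _ _ (FibCat.selfOver C).p _ _ _ _ (𝟙 T') θ.hom hθ'
    change θ.hom = eqToHom rfl ≫ 𝟙 T' ≫ eqToHom rfl at this
    simpa using this
  obtain ⟨z, hz1, hz2⟩ := (hW (op T')).2 x y
  let e₁ : (⟨T', fst.app (op T') z⟩ : Stk.EltObj P) ≅ ⟨T', x⟩ := eltIsoOfEq hz1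
  let e₂ : (⟨T', snd.app (op T') z⟩ : Stk.EltObj Q) ≅ ⟨T', y⟩ := eltIsoOfEq hz2
  refine ⟨⟨T', z⟩, ObjectProperty.isoMk _ (CategoricalPullback.mkIso e₁ e₂ ?_), ?_⟩
  · change (𝟙 T' ≫ θ.hom) = (𝟙 T' ≫ 𝟙 T')
    exact congrArg (𝟙 T' ≫ ·) hθhom
  · apply fp_isHomLift_of_fst
    exact isHomLift_of_hom_eq_id e₁.hom rfl rfl

theorem prodCmp_isEquivOver (hW : IsProdSec fst snd) :
    FibCat.IsEquivOver (prodCmp fst snd) := by
  have := prodCmp_full hW
  have := prodCmp_faithful (fst := fst) (snd := snd)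
  exact isEquivOver_of_fullyFaithful_of_exists_iso _ (prodCmp_exists_iso hW)

/-- A limit binary fan of presheaves is a product sectionwise. -/
theorem isProdSec_of_isLimit (h : IsLimit (BinaryFan.mk fst snd)) : IsProdSec fst snd := by
  intro T
  have hT : IsLimit (((evaluation Cᵒᵖ (Type w)).obj T).mapCone (BinaryFan.mk fst snd)) :=
    isLimitOfPreserves _ h
  have hT' : IsLimit (BinaryFan.mk (fst.app T) (snd.app T)) :=
    (isLimitMapConeBinaryFanEquiv ((evaluation Cᵒᵖ (Type w)).obj T) fst snd) hT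
  constructor
  · intro z z' h1 h2
    let c : BinaryFan (P.obj T) (Q.obj T) :=
      BinaryFan.mk (P := PUnit.{w + 1}) (↾fun _ => fst.app T z) (↾fun _ => snd.app T z)
    have u1 : (↾fun _ => z : PUnit.{w + 1} ⟶ W.obj T) = (↾fun _ => z') := by
      apply BinaryFan.IsLimit.hom_ext hT'
      · ext; exact h1
      · ext; exact h2
    exact congrArg (fun k => k PUnit.unit) u1
  · intro x y
    let l := BinaryFan.IsLimit.lift' hT' (↾fun _ : PUnit.{w + 1} => x) (↾fun _ => y)
    refine ⟨l.1 PUnit.unit, ?_, ?_⟩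
    · exact congrArg (fun k => k PUnit.unit) l.2.1
    · exact congrArg (fun k => k PUnit.unit) l.2.2

end Groth.Agent.Helper2.StkLib
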