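import Mathlib
import Groth.Prelude.Def_AlgSt
import Groth.Prelude.Def_FibCat2
import Groth.Agent.Lib.Helper2.Stk.OfPsh

/-!
# The category over `C` of a presheaf is a stack iff the presheaf is a sheaf (helper2)
-/

set_option autoImplicit false
open CategoryTheory CategoryTheory.Functor Opposite

universe w v₃ u₃ v₂ u₂ v u

namespace Groth.Agent.Helper2.StkLib

open Groth.Agent.Helper2 Groth.Agent.Helper2.FibCatLib

variable {C : Type u} [Category.{v} C]

namespace PshSec

variable {P : Cᵒᵖ ⥤ Type w} {𝒜 : BasedCategory.{v₂, u₂} C} {ℬ : BasedCategory.{v₃, u₃} C}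

/-- Restriction of functors into the category of a presheaf is an equivalence exactly when
pullback of compatible families is bijective. -/
theorem restr_isEquivalence_iff (ι : 𝒜 ⥤ᵇ ℬ) :
    (Stk.restr ι (Stk.ofPsh P)).IsEquivalence ↔
      Function.Bijective (pullback (P := P) ι) := by
  constructor
  · intro h
    constructor
    · intro t t' htt
      have h1 : ofFunctor (BasedFunctor.comp ι (toFunctor t)) =
          ofFunctor (BasedFunctor.comp ι (toFunctor t')) := by
        rw [ofFunctor_comp, ofFunctor_comp, ofFunctor_toFunctor, ofFunctor_toFunctor, htt]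
      obtain ⟨γ⟩ := exists_hom_of_ofFunctor_eq h1
      obtain ⟨δ, -⟩ := h.full.map_surjective (X := toFunctor t) (Y := toFunctor t') γ
      have h2 := ofFunctor_eq_of_hom δ
      rwa [ofFunctor_toFunctor, ofFunctor_toFunctor] at h2
    · intro s
      obtain ⟨G, ⟨ε⟩⟩ := h.essSurj.mem_essImage (toFunctor s)
      refine ⟨ofFunctor G, ?_⟩
      have h1 : ofFunctor (BasedFunctor.comp ι G) = ofFunctor (toFunctor s) :=
        ofFunctor_eq_of_hom ε.hom
      rwa [ofFunctor_comp, ofFunctor_toFunctor] at h1
  · rintro ⟨hinj, hsurj⟩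
    have hfaith : (Stk.restr ι (Stk.ofPsh P)).Faithful := ⟨fun _ => Subsingleton.elim _ _⟩
    have hfull : (Stk.restr ι (Stk.ofPsh P)).Full := by
      refine ⟨fun {G G'} γ => ?_⟩
      have h1 : ofFunctor (BasedFunctor.comp ι G) = ofFunctor (BasedFunctor.comp ι G') :=
        ofFunctor_eq_of_hom γ
      rw [ofFunctor_comp, ofFunctor_comp] at h1
      obtain ⟨δ⟩ := exists_hom_of_ofFunctor_eq (hinj h1)
      exact ⟨δ, Subsingleton.elim _ _⟩
    have hes : (Stk.restr ι (Stk.ofPsh P)).EssSurj := by
      refine ⟨fun D => ?_⟩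
      obtain ⟨t, ht⟩ := hsurj (ofFunctor D)
      have h1 : ofFunctor (BasedFunctor.comp ι (toFunctor t)) = ofFunctor D := by
        rw [ofFunctor_comp, ofFunctor_toFunctor, ht]
      obtain ⟨γ⟩ := exists_hom_of_ofFunctor_eq h1
      have hγ : IsIso γ := isIso_of_isFibGrpd (Stk.isFibGrpd_ofPsh P) γ
      exact ⟨toFunctor t, ⟨@asIso _ _ _ _ γ hγ⟩⟩
    exact { }

section Sieve

variable {U : C} (R : Sieve U)

theorem pullback_sieveIncl_val (s : PshSec P (FibCat.overCat U)) (a : (Stk.sieveCat R).obj) :
    (pullback (Stk.sieveIncl R) s).val a = s.val a.obj :=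
  tr_rfl _

/-- The compatible family on `C/U` of restrictions of a section over `U`. -/
def secOfElt (t : P.obj (op U)) : PshSec P (FibCat.overCat U) where
  val A := P.map A.hom.op t
  compat {A A'} g := by
    change P.map g.left.op (P.map A'.hom.op t) = P.map A.hom.op t
    rw [← Functor.map_comp_apply, ← op_comp, Over.w g]

/-- The value at `𝟙 U` of a compatible family on `C/U`. -/
def eltOfSec (s : PshSec P (FibCat.overCat U)) : P.obj (op U) := s.val (Over.mk (𝟙 U))

theorem eltOfSec_secOfElt (t : P.obj (op U)) : eltOfSec (secOfElt (P := P) t) = t := by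
  change P.map (𝟙 U).op t = t
  simp

theorem secOfElt_eltOfSec (s : PshSec P (FibCat.overCat U)) : secOfElt (eltOfSec s) = s := by
  ext A
  exact s.compat (toId U A)

/-- The family of elements of a compatible family on a sieve. -/
def famOfSec (s : PshSec P (Stk.sieveCat R)) : Presieve.FamilyOfElements P R.arrows :=
  fun _ f hf => s.val ⟨Over.mk f, hf⟩

theorem famOfSec_compatible (s : PshSec P (Stk.sieveCat R)) : (famOfSec R s).Compatible := by
  intro Y₁ Y₂ Z g₁ g₂ f₁ f₂ h₁ h₂ hc
  let a₁ : (Stk.sieveCat R).obj := ⟨Over.mk f₁, h₁⟩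
  let a₂ : (Stk.sieveCat R).obj := ⟨Over.mk f₂, h₂⟩
  let b : (Stk.sieveCat R).obj := ⟨Over.mk (g₁ ≫ f₁), R.downward_closed h₁ g₁⟩
  let k₁ : b ⟶ a₁ := ObjectProperty.homMk (Over.homMk g₁ rfl)
  let k₂ : b ⟶ a₂ := ObjectProperty.homMk (Over.homMk g₂ hc.symm)
  have e1 := s.compat k₁
  have e2 := s.compat k₂
  exact e1.trans e2.symm

theorem fam_congr (x : Presieve.FamilyOfElements P R.arrows) {Y : C} {f f' : Y ⟶ U} (h : f = f')
    (hf : R f) (hf' : R f') : x f hf = x f' hf' := by
  subst h; rfl

/-- The compatible family on a sieve of a compatible family of elements. -/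
def secOfFam (x : Presieve.FamilyOfElements P R.arrows) (hx : x.Compatible) :
    PshSec P (Stk.sieveCat R) where
  val a := x a.obj.hom a.property
  compat {a a'} g := by
    have hx' := (Presieve.compatible_iff_sieveCompatible x).1 hx
    have h1 := hx' a'.obj.hom g.hom.left a'.property
    change P.map g.hom.left.op (x a'.obj.hom a'.property) = x a.obj.hom a.property
    rw [← h1]
    exact fam_congr R x (Over.w g.hom) _ _

theorem bijective_pullback_iff_isSheafFor :
    Function.Bijective (pullback (P := P) (Stk.sieveIncl R)) ↔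
      Presieve.IsSheafFor P R.arrows := by
  constructor
  · rintro ⟨hinj, hsurj⟩ x hx
    obtain ⟨s₀, hs₀⟩ := hsurj (secOfFam R x hx)
    have ham : ∀ t : P.obj (op U), x.IsAmalgamation t ↔
        pullback (Stk.sieveIncl R) (secOfElt t) = secOfFam R x hx := by
      intro t
      constructor
      · intro ht
        ext a
        rw [pullback_sieveIncl_val]
        exact ht a.obj.hom a.property
      · intro ht Y f hf
        have := congrArg (fun s => s.val ⟨Over.mk f, hf⟩) ht
        rw [pullback_sieveIncl_val] at this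
        exact this
    refine ⟨eltOfSec s₀, ?_, ?_⟩
    · change x.IsAmalgamation (eltOfSec s₀)
      rw [ham, secOfElt_eltOfSec, hs₀]
    · intro t ht
      have ht' : x.IsAmalgamation t := ht
      rw [ham] at ht'
      have := hinj (ht'.trans hs₀.symm)
      rw [← this, eltOfSec_secOfElt]
  · intro hsh
    constructor
    · intro s s' hss
      have h1 : eltOfSec s = eltOfSec s' := by
        apply hsh.isSeparatedFor.ext
        intro Y f hf
        have e1 := s.compat (toId U (Over.mk f))
        have e2 := s'.compat (toId U (Over.mk f))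
        have e3 := congrArg (fun t => t.val ⟨Over.mk f, hf⟩) hss
        rw [pullback_sieveIncl_val, pullback_sieveIncl_val] at e3
        exact e1.trans (e3.trans e2.symm)
      rw [← secOfElt_eltOfSec s, ← secOfElt_eltOfSec s', h1]
    · intro s
      have hc := famOfSec_compatible R s
      refine ⟨secOfElt (hsh.amalgamate _ hc), ?_⟩
      ext a
      rw [pullback_sieveIncl_val]
      exact hsh.isAmalgamation hc a.obj.hom a.property

end Sieve

end PshSec

/-- The category over `C` of a presheaf satisfies the stack condition for a sieve iff the presheaf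
satisfies the sheaf condition for it. -/
theorem isStackFor_ofPsh_iff (P : Cᵒᵖ ⥤ Type w) {U : C} (R : Sieve U) :
    Stk.IsStackFor R (Stk.ofPsh P) ↔ Presieve.IsSheafFor P R.arrows :=
  (PshSec.restr_isEquivalence_iff (Stk.sieveIncl R)).trans
    (PshSec.bijective_pullback_iff_isSheafFor R)

end Groth.Agent.Helper2.StkLib
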