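import Mathlib
import Groth.Prelude.Def_AlgSt
import Groth.Prelude.Def_FibCat2
import Groth.Agent.Lib.Helper2.FibGrpd
import Groth.Agent.Lib.Helper2.FibCat.EquivCrit
import Groth.Agent.Lib.Helper2.FibCat.Setoid
import Groth.Agent.Lib.Helper2.FibCat.ReprInv

/-!
# A category fibred in sets (or setoids) is the category of a presheaf (helper2)
-/

set_option autoImplicit false
open CategoryTheory CategoryTheory.Functor Opposite

universe v₂ u₂ v u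

namespace Groth.Agent.Helper2.StkLib.FibSetPsh

open Groth.Agent.Helper2 Groth.Agent.Helper2.FibCatLib

variable {C : Type u} [Category.{v} C] {𝒜 : BasedCategory.{v₂, u₂} C}

/-- The fibre of `𝒜` over `T`, as a type. -/
abbrev Fib (𝒜 : BasedCategory.{v₂, u₂} C) (T : C) : Type u₂ := {y : 𝒜.obj // 𝒜.p.obj y = T}

/-- In a category fibred in sets, sources of lifts of a given morphism are unique. -/
theorem src_eq (h : FibCat.IsFibSet 𝒜.p) {V T : C} (f : V ⟶ T) {a a' a'' : 𝒜.obj}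
    (ψ : a' ⟶ a) (ψ' : a'' ⟶ a) [𝒜.p.IsHomLift f ψ] [𝒜.p.IsHomLift f ψ'] :
    ∃ e : a'' = a', ψ' = eqToHom e ≫ ψ := by
  obtain ⟨χ, ⟨hχ1, hχ2⟩, -⟩ := IsFibGrpd.existsUnique 𝒜.p h.1 (𝟙 V) f f (by simp) ψ ψ'
  obtain ⟨e, he⟩ := eq_eqToHom_of_isDiscrete_fiber 𝒜.p (h.2 V) χ
  exact ⟨e, by rw [← he, hχ2]⟩

theorem exists_pull (h : FibCat.IsFibSet 𝒜.p) {V T : C} (f : V ⟶ T) (y : Fib 𝒜 T) :
    ∃ (z : Fib 𝒜 V) (ψ : z.1 ⟶ y.1), 𝒜.p.IsHomLift f ψ := by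
  obtain ⟨b, ψ, hψ⟩ := IsFibGrpd.exists_lift_of_eq 𝒜.p h.1 y.2 f
  exact ⟨⟨b, IsHomLift.domain_eq 𝒜.p f ψ⟩, ψ, hψ⟩

/-- The chosen pullback of an object along a morphism of the base. -/
noncomputable def pull (h : FibCat.IsFibSet 𝒜.p) {V T : C} (f : V ⟶ T) (y : Fib 𝒜 T) : Fib 𝒜 V :=
  (exists_pull h f y).choose

/-- The chosen lift. -/
noncomputable def pullHom (h : FibCat.IsFibSet 𝒜.p) {V T : C} (f : V ⟶ T) (y : Fib 𝒜 T) :
    (pull h f y).1 ⟶ y.1 :=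
  (exists_pull h f y).choose_spec.choose

instance pullHom_isHomLift (h : FibCat.IsFibSet 𝒜.p) {V T : C} (f : V ⟶ T) (y : Fib 𝒜 T) :
    𝒜.p.IsHomLift f (pullHom h f y) :=
  (exists_pull h f y).choose_spec.choose_spec

theorem pull_eq_of_isHomLift (h : FibCat.IsFibSet 𝒜.p) {V T : C} (f : V ⟶ T) (y : Fib 𝒜 T)
    {a : 𝒜.obj} (ψ : a ⟶ y.1) [𝒜.p.IsHomLift f ψ] : (pull h f y).1 = a := by
  obtain ⟨e, -⟩ := src_eq h f ψ (pullHom h f y)
  exact e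

/-- The presheaf of fibres of a category fibred in sets. -/
noncomputable def psh (h : FibCat.IsFibSet 𝒜.p) : Cᵒᵖ ⥤ Type u₂ where
  obj T := Fib 𝒜 T.unop
  map {T V} f := ↾fun y => pull h f.unop y
  map_id T := by
    ext y
    change (pull h (𝟙 T.unop) y).1 = y.1
    have : 𝒜.p.IsHomLift (𝟙 T.unop) (𝟙 y.1) := IsHomLift.id y.2
    exact pull_eq_of_isHomLift h (𝟙 T.unop) y (𝟙 y.1)
  map_comp {T V W} f g := by
    ext y
    change (pull h (g.unop ≫ f.unop) y).1 = (pull h g.unop (pull h f.unop y)).1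
    have : 𝒜.p.IsHomLift (g.unop ≫ f.unop)
        (pullHom h g.unop (pull h f.unop y) ≫ pullHom h f.unop y) := inferInstance
    exact pull_eq_of_isHomLift h (g.unop ≫ f.unop) y
      (pullHom h g.unop (pull h f.unop y) ≫ pullHom h f.unop y)

theorem psh_map_eq (h : FibCat.IsFibSet 𝒜.p) {V T : C} (f : V ⟶ T) (y : Fib 𝒜 T) {a : 𝒜.obj}
    (ψ : a ⟶ y.1) [𝒜.p.IsHomLift f ψ] (ha : 𝒜.p.obj a = V) :
    (psh h).map f.op y = ⟨a, ha⟩ :=
  Subtype.ext (pull_eq_of_isHomLift h f y ψ)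

/-- The comparison functor from a category fibred in sets to the category of its presheaf. -/
noncomputable def toPsh (h : FibCat.IsFibSet 𝒜.p) : 𝒜 ⥤ᵇ Stk.ofPsh (psh h) where
  toFunctor :=
    { obj := fun y => ⟨𝒜.p.obj y, ⟨y, rfl⟩⟩
      map := fun {y' y} φ => ⟨𝒜.p.map φ, psh_map_eq h (𝒜.p.map φ) ⟨y, rfl⟩ φ rfl⟩
      map_id := fun y => by
        apply Stk.EltObj.hom_ext
        exact 𝒜.p.map_id y
      map_comp := fun φ ψ => by
        apply Stk.EltObj.hom_ext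
        exact 𝒜.p.map_comp φ ψ }
  w := rfl

theorem toPsh_faithful (h : FibCat.IsFibSet 𝒜.p) : (toPsh h).toFunctor.Faithful := by
  refine ⟨fun {a b} φ φ' hφ => ?_⟩
  have h1 : 𝒜.p.map φ = 𝒜.p.map φ' := congrArg Stk.EltObj.Hom.hom hφ
  have : 𝒜.p.IsHomLift (𝒜.p.map φ) φ' := by rw [h1]; infer_instance
  obtain ⟨e, he⟩ := src_eq h (𝒜.p.map φ) φ φ'
  rw [he]
  simp

theorem toPsh_full (h : FibCat.IsFibSet 𝒜.p) : (toPsh h).toFunctor.Full := by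
  refine ⟨fun {a b} m => ?_⟩
  let g : 𝒜.p.obj a ⟶ 𝒜.p.obj b := m.hom
  have hm : (psh h).map g.op ⟨b, rfl⟩ = ⟨a, rfl⟩ := m.map_sec
  have h1 : (pull h g ⟨b, rfl⟩).1 = a := congrArg Subtype.val hm
  let φ : a ⟶ b := eqToHom h1.symm ≫ pullHom h g ⟨b, rfl⟩
  have hφ : 𝒜.p.IsHomLift g φ := by
    have h2 : 𝒜.p.IsHomLift (𝟙 (𝒜.p.obj a)) (eqToHom h1.symm) :=
      IsHomLift.eqToHom_domain_lift_id h1.symm rfl
    have h3 : 𝒜.p.IsHomLift (𝟙 (𝒜.p.obj a) ≫ g) φ := inferInstance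
    rwa [Category.id_comp] at h3
  refine ⟨φ, ?_⟩
  apply Stk.EltObj.hom_ext
  change 𝒜.p.map φ = g
  have := IsHomLift.fac' 𝒜.p g φ
  simpa using this

theorem toPsh_exists_iso (h : FibCat.IsFibSet 𝒜.p) (η : (Stk.ofPsh (psh h)).obj) :
    ∃ (ξ : 𝒜.obj) (e : (toPsh h).toFunctor.obj ξ ≅ η),
      (Stk.ofPsh (psh h)).p.IsHomLift (𝟙 ((Stk.ofPsh (psh h)).p.obj η)) e.hom := by
  obtain ⟨T, ⟨y, hy⟩⟩ := η
  have hy' : 𝒜.p.obj y = T := hy
  subst hy'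
  exact ⟨y, Iso.refl _, IsHomLift.id rfl⟩

theorem toPsh_isEquivOver (h : FibCat.IsFibSet 𝒜.p) : FibCat.IsEquivOver (toPsh h) := by
  have := toPsh_full h
  have := toPsh_faithful h
  exact isEquivOver_of_fullyFaithful_of_exists_iso _ (toPsh_exists_iso h)

/-- A category fibred in setoids is equivalent over the base to the category of a presheaf. -/
theorem exists_equiv_ofPsh_of_isFibSetoid (𝒜 : BasedCategory.{v₂, u₂} C)
    (h : FibCat.IsFibSetoid 𝒜.p) :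
    ∃ (P : Cᵒᵖ ⥤ Type u₂) (e : Stk.ofPsh P ⥤ᵇ 𝒜), FibCat.IsEquivOver e := by
  obtain ⟨𝒴, F, h𝒴, hF⟩ := SetoidFib.exists_fibSet 𝒜 h
  have h1 : FibCat.IsEquivOver (BasedFunctor.comp F (toPsh h𝒴)) :=
    ReprInv.isEquivOver_comp hF (toPsh_isEquivOver h𝒴)
  obtain ⟨G, hG, -, -⟩ := isEquivOver_inverse h1
  exact ⟨psh h𝒴, G, hG⟩

end Groth.Agent.Helper2.StkLib.FibSetPsh
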