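import Mathlib
import Groth.Prelude.Def_AlgSt
import Groth.Prelude.Def_FibCat2
import Groth.Agent.Lib.Helper2.Stk.OfPshFp

/-!
# The diagonal of the functor attached to a map of presheaves (helper2)
-/

set_option autoImplicit false
open CategoryTheory CategoryTheory.Functor CategoryTheory.Limits Opposite

universe w v u

namespace Groth.Agent.Helper2.StkLib

open Groth.Agent.Helper2 Groth.Agent.Helper2.FibCatLib

variable {C : Type u} [Category.{v} C]

variable {P R W : Cᵒᵖ ⥤ Type w}

variable (φ : P ⟶ R) (fst snd : W ⟶ P) (δ : P ⟶ W)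

/-- The functor attached to the diagonal map, followed by the comparison with the 2-fibre product,
is the diagonal functor. -/
def diagCmpIso (h : fst ≫ φ = snd ≫ φ) (h1 : δ ≫ fst = 𝟙 P) (h2 : δ ≫ snd = 𝟙 P) :
    BasedFunctor.comp (Stk.ofPshMap δ) (fpCmp φ φ fst snd h) ≅ FibCat.diag (Stk.ofPshMap φ) :=
  BasedNatIso.mkNatIso
    (NatIso.ofComponents
      (fun a => ObjectProperty.isoMk _ (CategoricalPullback.mkIso
        (eltIsoOfEq (R := P) (T := a.base)
          (x := fst.app (op a.base) (δ.app (op a.base) a.sec)) (y := a.sec)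
          (congrArg (fun m : P ⟶ P => m.app (op a.base) a.sec) h1))
        (eltIsoOfEq (R := P) (T := a.base)
          (x := snd.app (op a.base) (δ.app (op a.base) a.sec)) (y := a.sec)
          (congrArg (fun m : P ⟶ P => m.app (op a.base) a.sec) h2))
        (by
          apply Stk.EltObj.hom_ext
          change (𝟙 a.base ≫ 𝟙 a.base) = (𝟙 a.base ≫ 𝟙 a.base)
          rfl)))
      (by
        intro a b m
        apply ObjectProperty.hom_ext
        apply CategoricalPullback.hom_ext
        · apply Stk.EltObj.hom_ext
          change m.hom ≫ 𝟙 _ = 𝟙 _ ≫ m.hom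
          simp
        · apply Stk.EltObj.hom_ext
          change m.hom ≫ 𝟙 _ = 𝟙 _ ≫ m.hom
          simp))
    (by
      intro a
      apply fp_isHomLift_of_fst
      exact isHomLift_of_hom_eq_id _ rfl rfl)

end Groth.Agent.Helper2.StkLib
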