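import Mathlib
import Groth.Prelude.Def_AlgSt
import Groth.Prelude.Def_FibCat2
import Groth.Agent.Lib.Helper2.Stk.Basic
import Groth.Agent.Lib.Helper2.Stk.Post
import Groth.Agent.Lib.Helper2.Stk.Yon
import Groth.Agent.Lib.Helper2.Stk.LocEss

/-!
# Full subcategories of stacks (helper2)
-/

set_option autoImplicit false
open CategoryTheory CategoryTheory.Functor CategoryTheory.Limits

universe v₆ u₆ v₅ u₅ v₄ u₄ v₃ u₃ v₂ u₂ v u

namespace Groth.Agent.Helper2.StkLib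

open Groth.Agent.Helper2 Groth.Agent.Helper2.FibCatLib

variable {C : Type u} [Category.{v} C]
variable {𝒜 : BasedCategory.{v₂, u₂} C} {ℬ : BasedCategory.{v₃, u₃} C}
variable {𝒳 : BasedCategory.{v₄, u₄} C} {𝒴 : BasedCategory.{v₅, u₅} C}

/-- Restriction is fully faithful for the source of a fully faithful functor if it is for the
target. -/
theorem restr_full_faithful_of_ff (ι : 𝒜 ⥤ᵇ ℬ) (F : 𝒳 ⥤ᵇ 𝒴) [F.toFunctor.Full]
    [F.toFunctor.Faithful] (hf : (Stk.restr ι 𝒴).Full) (hfa : (Stk.restr ι 𝒴).Faithful) :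
    (Stk.restr ι 𝒳).Full ∧ (Stk.restr ι 𝒳).Faithful := by
  have a1 := postF_full 𝒜 F
  have a2 := postF_faithful 𝒜 F
  have b1 := postF_full ℬ F
  have b2 := postF_faithful ℬ F
  have c1 : (postF ℬ F ⋙ Stk.restr ι 𝒴).Full := inferInstance
  have c2 : (postF ℬ F ⋙ Stk.restr ι 𝒴).Faithful := inferInstance
  have d1 : (Stk.restr ι 𝒳 ⋙ postF 𝒜 F).Full := Functor.Full.of_iso (restrPostIso ι F).symm
  have d2 : (Stk.restr ι 𝒳 ⋙ postF 𝒜 F).Faithful := Functor.Faithful.of_iso (restrPostIso ι F).symm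
  exact ⟨Functor.Full.of_comp_faithful (Stk.restr ι 𝒳) (postF 𝒜 F),
    Functor.Faithful.of_comp (Stk.restr ι 𝒳) (postF 𝒜 F)⟩

section Sub

variable (𝒳) (Q : ObjectProperty 𝒳.obj)

/-- The full subcategory on `Q` as a category over `C`. -/
abbrev subCat : BasedCategory.{v₄, u₄} C := BasedCategory.ofFunctor (Q.ι ⋙ 𝒳.p)

/-- The inclusion of the full subcategory, a functor over `C`. -/
def subIncl : subCat 𝒳 Q ⥤ᵇ 𝒳 where
  toFunctor := Q.ι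
  w := rfl

instance : (subIncl 𝒳 Q).toFunctor.Full := inferInstanceAs Q.ι.Full
instance : (subIncl 𝒳 Q).toFunctor.Faithful := inferInstanceAs Q.ι.Faithful

variable {𝒳}

theorem sub_isHomLift_iff {R S : C} (f : R ⟶ S) {a b : Q.FullSubcategory} (φ : a ⟶ b) :
    (subCat 𝒳 Q).p.IsHomLift f φ ↔ 𝒳.p.IsHomLift f φ.hom :=
  (BasedFunctor.isHomLift_iff (subIncl 𝒳 Q) f φ).symm

/-- A full subcategory of a category fibred in groupoids that contains, up to isomorphisms over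
identities, the source of every morphism whose target it contains is fibred in groupoids. -/
theorem isFibGrpd_subCat (h𝒳 : FibCat.IsFibGrpd 𝒳.p)
    (h1 : ∀ ⦃y x : 𝒳.obj⦄ (_ : y ⟶ x), Q x → ∃ (y' : 𝒳.obj) (e : y ≅ y'), Q y' ∧
      𝒳.p.IsHomLift (𝟙 (𝒳.p.obj y)) e.hom) : FibCat.IsFibGrpd (subCat 𝒳 Q).p where
  exists_lift {x V} f := by
    change V ⟶ 𝒳.p.obj x.obj at f
    obtain ⟨y₀, φ₀, hφ₀⟩ := h𝒳.exists_lift (x := x.obj) f
    obtain ⟨y', e, hQ, he⟩ := h1 φ₀ x.property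
    have hV : 𝒳.p.obj y₀ = V := IsHomLift.domain_eq 𝒳.p f φ₀
    have he' : 𝒳.p.IsHomLift (𝟙 V) e.inv := by
      rw [← hV]
      exact IsHomLift.lift_id_inv _ _ _
    have hφ : 𝒳.p.IsHomLift f (e.inv ≫ φ₀) := by
      have : 𝒳.p.IsHomLift (𝟙 V ≫ f) (e.inv ≫ φ₀) := inferInstance
      exact isHomLift_congr' 𝒳.p (Category.id_comp _) _ this
    exact ⟨⟨y', hQ⟩, ObjectProperty.homMk (e.inv ≫ φ₀), (sub_isHomLift_iff Q f _).2 hφ⟩
  isStronglyCartesian {y x} φ :=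
    { universal_property' := by
        intro z g ψ hψ
        change 𝒳.p.obj z.obj ⟶ 𝒳.p.obj y.obj at g
        have hψ' : 𝒳.p.IsHomLift (g ≫ 𝒳.p.map φ.hom) ψ.hom := (sub_isHomLift_iff Q _ ψ).1 hψ
        have hsc : 𝒳.p.IsStronglyCartesian (𝒳.p.map φ.hom) φ.hom := h𝒳.isStronglyCartesian φ.hom
        obtain ⟨χ, ⟨hχ1, hχ2⟩, hχ3⟩ := IsStronglyCartesian.universal_property 𝒳.p (𝒳.p.map φ.hom)
          φ.hom g (g ≫ 𝒳.p.map φ.hom) rfl ψ.hom
        refine ⟨ObjectProperty.homMk χ, ⟨(sub_isHomLift_iff Q g _).2 hχ1, ?_⟩, ?_⟩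
        · apply ObjectProperty.hom_ext
          exact hχ2
        · rintro χ' ⟨h1', h2'⟩
          apply ObjectProperty.hom_ext
          apply hχ3 χ'.hom
          exact ⟨(sub_isHomLift_iff Q g χ').1 h1', congrArg (fun t => t.hom) h2'⟩ }

/-- Objects glue in a full subcategory satisfying the local-membership condition. -/
theorem restr_sub_essSurj (h𝒳 : FibCat.IsFibGrpd 𝒳.p)
    (h1 : ∀ ⦃y x : 𝒳.obj⦄ (_ : y ⟶ x), Q x → ∃ (y' : 𝒳.obj) (e : y ≅ y'), Q y' ∧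
      𝒳.p.IsHomLift (𝟙 (𝒳.p.obj y)) e.hom)
    {U : C} (R : Sieve U) (hR : (Stk.resSieve R 𝒳).EssSurj)
    (h3 : ∀ (x : 𝒳.obj), 𝒳.p.obj x = U →
      (∀ ⦃V : C⦄ (f : V ⟶ U), R f → ∀ (y : 𝒳.obj) (φ : y ⟶ x), 𝒳.p.IsHomLift f φ →
        ∃ (y' : 𝒳.obj) (e : y ≅ y'), Q y' ∧ 𝒳.p.IsHomLift (𝟙 V) e.hom) →
      ∃ (x' : 𝒳.obj) (e : x ≅ x'), Q x' ∧ 𝒳.p.IsHomLift (𝟙 U) e.hom) :
    (Stk.resSieve R (subCat 𝒳 Q)).EssSurj where
  mem_essImage D := by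
    have hsub := isFibGrpd_subCat Q h𝒳 h1
    obtain ⟨G, ⟨ε⟩⟩ := hR.mem_essImage (BasedFunctor.comp D (subIncl 𝒳 Q))
    -- the value of `G` at `𝟙 U` is, up to isomorphism, in `Q`
    have hx : 𝒳.p.obj (G.obj (Over.mk (𝟙 U))) = U := G.w_obj (Over.mk (𝟙 U))
    obtain ⟨x', e, hQx', he⟩ := h3 (G.obj (Over.mk (𝟙 U))) hx (by
      intro V f hf y φ hφ
      let A : (Stk.sieveCat R).obj := ⟨Over.mk f, hf⟩
      have hs : 𝒳.p.IsHomLift f (G.map (toId U (Over.mk f))) :=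
        isHomLift_map_over U G (toId U (Over.mk f))
      obtain ⟨θ, ⟨hθ1, -⟩, -⟩ := IsFibGrpd.existsUnique 𝒳.p h𝒳 (𝟙 V) f f
        (Category.id_comp _).symm (G.map (toId U (Over.mk f))) φ
      have hθi : IsIso θ := IsFibGrpd.isIso_of_isHomLift_id 𝒳.p h𝒳 (S := V) θ
      let εA : G.obj (Over.mk f) ⟶ (D.obj A).obj := ε.hom.toNatTrans.app A
      have hε : 𝒳.p.IsHomLift (𝟙 V) εA := ε.hom.isHomLift' A
      have hεi : IsIso εA :=
        IsFibGrpd.isIso_of_isHomLift_id 𝒳.p h𝒳 (S := V) _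
      refine ⟨(D.obj A).obj, @asIso _ _ _ _ θ hθi ≪≫ @asIso _ _ _ _ εA hεi,
        (D.obj A).property, ?_⟩
      have : 𝒳.p.IsHomLift (𝟙 V ≫ 𝟙 V) (θ ≫ εA) := inferInstance
      simpa using this)
    -- hence `G` lands pointwise in `Q`
    have hpt : ∀ A : (FibCat.overCat U).obj, ∃ (x : (subCat 𝒳 Q).obj)
        (e : (subIncl 𝒳 Q).obj x ≅ G.obj A),
        𝒳.p.IsHomLift (𝟙 ((FibCat.overCat U).p.obj A)) e.hom := by
      intro A
      obtain ⟨y', e', hQy', he'⟩ := h1 (G.map (toId U A) ≫ e.hom) hQx'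
      have hA : 𝒳.p.obj (G.obj A) = A.left := G.w_obj A
      have he'' : 𝒳.p.IsHomLift (𝟙 A.left) e'.hom := by
        rw [← hA]; exact he'
      have he3 : 𝒳.p.IsHomLift (𝟙 A.left) e'.inv := IsHomLift.lift_id_inv _ _ _
      exact ⟨⟨y', hQy'⟩, e'.symm, he3⟩
    obtain ⟨G', ⟨ε'⟩⟩ := exists_factor_of_pointwise (subIncl 𝒳 Q) G hpt
    -- compare `ι ⋙ G'` with `D` after the inclusion
    let ζ : BasedFunctor.comp (BasedFunctor.comp (Stk.sieveIncl R) G') (subIncl 𝒳 Q) ⟶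
        BasedFunctor.comp D (subIncl 𝒳 Q) :=
      BasedCategory.whiskerLeft (Stk.sieveIncl R) ε'.hom ≫ ε.hom
    obtain ⟨δ, -⟩ := exists_preimage_postF (subIncl 𝒳 Q) ζ
    have hδ : IsIso δ := isIso_of_isFibGrpd hsub δ
    exact ⟨G', ⟨@asIso _ _ _ _ δ hδ⟩⟩

end Sub

end Groth.Agent.Helper2.StkLib
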