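import Mathlib
import Groth.Prelude.Def_AlgSt
import Groth.Prelude.Def_FibCat2
import Groth.Agent.Lib.Helper2.Stk.Basic
import Groth.Agent.Lib.Helper2.Stk.Post
import Groth.Agent.Lib.Helper2.Stk.Yon

/-!
# Categories over a category over `C`: change of base, precomposition with equivalences,
lifting of functors along isomorphisms (helper2)
-/

set_option autoImplicit false
set_option synthInstance.maxHeartbeats 400000
set_option maxHeartbeats 1000000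
set_option linter.style.haveILetI false
set_option linter.unusedSectionVars false
set_option linter.unusedVariables false
set_option linter.unusedSimpArgs false
set_option linter.unnecessarySimpa false

open CategoryTheory CategoryTheory.Functor

universe v₆ u₆ v₅ u₅ v₄ u₄ v₃ u₃ v₂ u₂ v₁ u₁ v u

namespace Groth.Agent.Helper2.StkLib.PushPull

open Groth.Agent.Helper2 Groth.Agent.Helper2.FibCatLib

section Plain

variable {𝒜 : Type u₁} [Category.{v₁} 𝒜] {ℬ : Type u₂} [Category.{v₂} ℬ]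
  {𝒞 : Type u₃} [Category.{v₃} 𝒞]

theorem isHomLift_comp_of (q : 𝒜 ⥤ ℬ) (p : ℬ ⥤ 𝒞) {R S : 𝒞} (f : R ⟶ S) {b b' : ℬ} (k : b ⟶ b')
    {a a' : 𝒜} (ψ : a ⟶ a') (h1 : q.IsHomLift k ψ) (h2 : p.IsHomLift f k) :
    (q ⋙ p).IsHomLift f ψ := by
  subst_hom_lift q k ψ
  subst_hom_lift p f (q.map ψ)
  exact inferInstanceAs ((q ⋙ p).IsHomLift ((q ⋙ p).map ψ) ψ)

theorem isHomLift_comp_id (q : 𝒜 ⥤ ℬ) (p : ℬ ⥤ 𝒞) {b₀ : ℬ} {a a' : 𝒜} (ψ : a ⟶ a')
    (h : q.IsHomLift (𝟙 b₀) ψ) : (q ⋙ p).IsHomLift (𝟙 (p.obj b₀)) ψ :=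
  isHomLift_comp_of q p (𝟙 (p.obj b₀)) (𝟙 b₀) ψ h inferInstance

theorem hom_eq_of_isHomLift (p : ℬ ⥤ 𝒞) {R S : 𝒞} (f f' : R ⟶ S) {a b : ℬ} (φ : a ⟶ b)
    (h : p.IsHomLift f φ) (h' : p.IsHomLift f' φ) : f = f' := by
  subst_hom_lift p f φ
  exact (IsHomLift.eq_of_isHomLift p f' φ).symm

theorem comp_inv_lift (q : ℬ ⥤ 𝒞) {x y y' : 𝒞} (l : x ⟶ y) (l' : x ⟶ y') (t : y ⟶ y')
    (hl'i : IsIso l') (hl : l' = l ≫ t) {a₁ a₁' b b' : ℬ} (c : a₁ ⟶ b) (θ : b ⟶ b')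
    (c' : a₁' ⟶ b') (hc'i : IsIso c') (h1 : q.IsHomLift l c) (h2 : q.IsHomLift t θ)
    (h3 : q.IsHomLift l' c') : q.IsHomLift (𝟙 x) (c ≫ θ ≫ CategoryTheory.inv c') := by
  have i3 : q.IsHomLift (CategoryTheory.inv l') (CategoryTheory.inv c') := IsHomLift.inv q _ _
  have i5 : q.IsHomLift (l ≫ t ≫ CategoryTheory.inv l') (c ≫ θ ≫ CategoryTheory.inv c') :=
    inferInstance
  have e : l ≫ t ≫ CategoryTheory.inv l' = 𝟙 _ := by
    rw [← Category.assoc, ← hl, IsIso.hom_inv_id]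
  exact isHomLift_congr' q e _ i5

/-- Lifting a functor along a natural transformation into its projection, for a projection
fibred in groupoids. -/
theorem exists_isoLift (q : ℬ ⥤ 𝒞) (hq : FibCat.IsFibGrpd q) (G : 𝒜 ⥤ ℬ) (H : 𝒜 ⥤ 𝒞)
    (lam : H ⟶ G ⋙ q) :
    ∃ (G₁ : 𝒜 ⥤ ℬ) (_ : G₁ ⋙ q = H) (c : G₁ ⟶ G), ∀ a, q.IsHomLift (lam.app a) (c.app a) := by
  have key : ∀ a : 𝒜, ∃ (b : ℬ) (φ : b ⟶ G.obj a), q.IsHomLift (lam.app a) φ :=
    fun a => hq.exists_lift (x := G.obj a) (lam.app a)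
  choose ob φ hφ using key
  have keym : ∀ (a a' : 𝒜) (g : a ⟶ a'), ∃ χ : ob a ⟶ ob a',
      (q.IsHomLift (H.map g) χ ∧ χ ≫ φ a' = φ a ≫ G.map g) ∧
      ∀ χ' : ob a ⟶ ob a', (q.IsHomLift (H.map g) χ' ∧ χ' ≫ φ a' = φ a ≫ G.map g) → χ' = χ := by
    intro a a' g
    have i1 := hφ a
    have i2 := hφ a'
    have i3 : q.IsHomLift (lam.app a ≫ q.map (G.map g)) (φ a ≫ G.map g) := inferInstance
    obtain ⟨χ, h1, h2⟩ := IsFibGrpd.existsUnique q hq (H.map g) (lam.app a')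
      (lam.app a ≫ q.map (G.map g)) (lam.naturality g).symm (φ a') (φ a ≫ G.map g)
    exact ⟨χ, h1, h2⟩
  choose mp hmp hmpu using keym
  have hid : ∀ a, mp a a (𝟙 a) = 𝟙 (ob a) := by
    intro a
    symm
    apply hmpu
    have i1 := hφ a
    have e : q.obj (ob a) = H.obj a := IsHomLift.domain_eq q (lam.app a) (φ a)
    refine ⟨?_, ?_⟩
    · have : q.IsHomLift (𝟙 (H.obj a)) (𝟙 (ob a)) := IsHomLift.id e
      exact isHomLift_congr' q (H.map_id a).symm _ this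
    · rw [G.map_id, Category.id_comp, Category.comp_id]
  have hcomp : ∀ {a a' a'' : 𝒜} (g : a ⟶ a') (g' : a' ⟶ a''),
      mp a a'' (g ≫ g') = mp a a' g ≫ mp a' a'' g' := by
    intro a a' a'' g g'
    symm
    apply hmpu
    have i1 := (hmp a a' g).1
    have i2 := (hmp a' a'' g').1
    refine ⟨?_, ?_⟩
    · have : q.IsHomLift (H.map g ≫ H.map g') (mp a a' g ≫ mp a' a'' g') := inferInstance
      exact isHomLift_congr' q (H.map_comp g g').symm _ this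
    · rw [Category.assoc, (hmp a' a'' g').2, ← Category.assoc, (hmp a a' g).2, Category.assoc,
        ← G.map_comp]
  let G₁ : 𝒜 ⥤ ℬ :=
    { obj := ob
      map := fun {a a'} g => mp a a' g
      map_id := hid
      map_comp := fun g g' => hcomp g g' }
  have hG₁ : G₁ ⋙ q = H := by
    refine CategoryTheory.Functor.ext (fun a => by
      have i1 := hφ a
      exact IsHomLift.domain_eq q (lam.app a) (φ a)) ?_
    intro a a' g
    have i1 := (hmp a a' g).1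
    exact IsHomLift.fac' q (H.map g) (mp a a' g)
  exact ⟨G₁, hG₁, { app := φ, naturality := fun a a' g => (hmp a a' g).2 }, hφ⟩

end Plain

section Based

variable {D : Type u} [Category.{v} D]
variable {𝒜 : BasedCategory.{v₂, u₂} D} {ℬ : BasedCategory.{v₃, u₃} D}
  {𝒵 : BasedCategory.{v₄, u₄} D} {𝒳 : BasedCategory.{v₅, u₅} D}

theorem basedFunctor_ext {F G : 𝒜 ⥤ᵇ ℬ} (h : F.toFunctor = G.toFunctor) : F = G := by
  obtain ⟨F, wF⟩ := F
  obtain ⟨G, wG⟩ := G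
  change F = G at h
  subst h
  rfl

theorem eqToHom_app {F G : 𝒜 ⥤ᵇ ℬ} (h : F = G) (a : 𝒜.obj) :
    (eqToHom h : F ⟶ G).toNatTrans.app a = eqToHom (by rw [h]) := by
  subst h
  rfl

/-- Whiskering an isomorphism of based functors on the right. -/
def whiskerRightIso {K L : 𝒜 ⥤ᵇ ℬ} (e : K ≅ L) (H : ℬ ⥤ᵇ 𝒵) :
    BasedFunctor.comp K H ≅ BasedFunctor.comp L H where
  hom := BasedCategory.whiskerRight e.hom H
  inv := BasedCategory.whiskerRight e.inv H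
  hom_inv_id := by
    apply BasedNatTrans.homCategory.ext
    ext a
    have h1 : e.hom.toNatTrans.app a ≫ e.inv.toNatTrans.app a = 𝟙 _ :=
      congrArg (fun t : K ⟶ K => t.toNatTrans.app a) e.hom_inv_id
    show H.toFunctor.map (e.hom.toNatTrans.app a) ≫ H.toFunctor.map (e.inv.toNatTrans.app a) = 𝟙 _
    rw [← H.toFunctor.map_comp, h1, H.toFunctor.map_id]
  inv_hom_id := by
    apply BasedNatTrans.homCategory.ext
    ext a
    have h1 : e.inv.toNatTrans.app a ≫ e.hom.toNatTrans.app a = 𝟙 _ :=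
      congrArg (fun t : L ⟶ L => t.toNatTrans.app a) e.inv_hom_id
    show H.toFunctor.map (e.inv.toNatTrans.app a) ≫ H.toFunctor.map (e.hom.toNatTrans.app a) = 𝟙 _
    rw [← H.toFunctor.map_comp, h1, H.toFunctor.map_id]

/-- Precomposition with an equivalence over the base is an equivalence of categories of based
functors. -/
theorem restr_isEquivalence_of_isEquivOver (K : 𝒜 ⥤ᵇ ℬ) (hK : FibCat.IsEquivOver K)
    (𝒵 : BasedCategory.{v₄, u₄} D) : (Stk.restr K 𝒵).IsEquivalence := by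
  obtain ⟨L, ⟨e1⟩, ⟨e2⟩⟩ := hK
  let i₁ : Stk.restr K 𝒵 ⋙ Stk.restr L 𝒵 ≅ 𝟭 (ℬ ⥤ᵇ 𝒵) :=
    NatIso.ofComponents (fun H => whiskerRightIso e2 H) (by
      intro H H' α
      apply BasedNatTrans.homCategory.ext
      ext b
      exact (α.toNatTrans.naturality (e2.hom.toNatTrans.app b)).symm)
  let i₂ : Stk.restr L 𝒵 ⋙ Stk.restr K 𝒵 ≅ 𝟭 (𝒜 ⥤ᵇ 𝒵) :=
    NatIso.ofComponents (fun H => whiskerRightIso e1 H) (by
      intro H H' α
      apply BasedNatTrans.homCategory.ext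
      ext b
      exact (α.toNatTrans.naturality (e1.hom.toNatTrans.app b)).symm)
  exact (CategoryTheory.Equivalence.mk (Stk.restr K 𝒵) (Stk.restr L 𝒵) i₁.symm
    i₂).isEquivalence_functor

/-- Based version of `exists_isoLift`. -/
theorem exists_isoLift_based (Q : 𝒵 ⥤ᵇ 𝒳) (hQ : FibCat.IsFibGrpd Q.toFunctor) (G : 𝒜 ⥤ᵇ 𝒵)
    (H : 𝒜 ⥤ᵇ 𝒳) (lam : H ⟶ BasedFunctor.comp G Q) :
    ∃ (G₁ : 𝒜 ⥤ᵇ 𝒵) (_ : G₁.toFunctor ⋙ Q.toFunctor = H.toFunctor) (c : G₁ ⟶ G),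
      ∀ a, Q.toFunctor.IsHomLift (lam.toNatTrans.app a) (c.toNatTrans.app a) := by
  obtain ⟨G₁f, h₁, cf, hcf⟩ :=
    exists_isoLift Q.toFunctor hQ G.toFunctor H.toFunctor lam.toNatTrans
  have hw : G₁f ⋙ 𝒵.p = 𝒜.p := by
    have e1 : G₁f ⋙ 𝒵.p = G₁f ⋙ (Q.toFunctor ⋙ 𝒳.p) :=
      congrArg (fun X => G₁f ⋙ X) Q.w.symm
    have e2 : (G₁f ⋙ Q.toFunctor) ⋙ 𝒳.p = H.toFunctor ⋙ 𝒳.p :=
      congrArg (fun X => X ⋙ 𝒳.p) h₁
    exact e1.trans (e2.trans H.w)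
  refine ⟨⟨G₁f, hw⟩, h₁, ⟨cf, ?_⟩, hcf⟩
  intro a
  have h1 := hcf a
  have h2 : 𝒳.p.IsHomLift (𝟙 (𝒜.p.obj a)) (lam.toNatTrans.app a) := lam.isHomLift' a
  have h3 := isHomLift_comp_of Q.toFunctor 𝒳.p (𝟙 (𝒜.p.obj a)) (lam.toNatTrans.app a)
    (cf.app a) h1 h2
  rw [Q.w] at h3
  exact h3

/-- Transport of a 2-morphism along lifts. -/
theorem exists_natLift (Q : 𝒵 ⥤ᵇ 𝒳) (h𝒵 : FibCat.IsFibGrpd 𝒵.p) (h𝒳 : FibCat.IsFibGrpd 𝒳.p)
    {H : 𝒜 ⥤ᵇ 𝒳} {G G' G₁ G₁' : 𝒜 ⥤ᵇ 𝒵} (lam : H ⟶ BasedFunctor.comp G Q)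
    (lam' : H ⟶ BasedFunctor.comp G' Q) (c : G₁ ⟶ G) (c' : G₁' ⟶ G') (θ : G ⟶ G')
    (hc : ∀ a, Q.toFunctor.IsHomLift (lam.toNatTrans.app a) (c.toNatTrans.app a))
    (hc' : ∀ a, Q.toFunctor.IsHomLift (lam'.toNatTrans.app a) (c'.toNatTrans.app a))
    (hlam : ∀ a, lam'.toNatTrans.app a =
      lam.toNatTrans.app a ≫ Q.toFunctor.map (θ.toNatTrans.app a)) :
    ∃ θh : G₁ ⟶ G₁', (∀ a, Q.toFunctor.IsHomLift (𝟙 (H.obj a)) (θh.toNatTrans.app a)) ∧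
      θh ≫ c' = c ≫ θ := by
  have hi : IsIso c' := isIso_of_isFibGrpd h𝒵 c'
  refine ⟨c ≫ θ ≫ CategoryTheory.inv c', ?_, by
    rw [Category.assoc, Category.assoc, IsIso.inv_hom_id, Category.comp_id]⟩
  intro a
  have i1 := hc a
  have i2 := hc' a
  have hci : IsIso (c'.toNatTrans.app a) := by
    have := c'.isHomLift' a
    exact IsFibGrpd.isIso_of_isHomLift_id 𝒵.p h𝒵 (S := 𝒜.p.obj a) (c'.toNatTrans.app a)
  have hli : IsIso (lam'.toNatTrans.app a) := by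
    have := lam'.isHomLift' a
    exact IsFibGrpd.isIso_of_isHomLift_id 𝒳.p h𝒳 (S := 𝒜.p.obj a) (lam'.toNatTrans.app a)
  have hinv : (CategoryTheory.inv c').toNatTrans.app a =
      CategoryTheory.inv (c'.toNatTrans.app a) := by
    apply IsIso.eq_inv_of_hom_inv_id
    exact congrArg (fun t : G₁' ⟶ G₁' => t.toNatTrans.app a) (IsIso.hom_inv_id c')
  have i4 : Q.toFunctor.IsHomLift (Q.toFunctor.map (θ.toNatTrans.app a)) (θ.toNatTrans.app a) :=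
    inferInstance
  have i6 := comp_inv_lift Q.toFunctor (lam.toNatTrans.app a) (lam'.toNatTrans.app a)
    (Q.toFunctor.map (θ.toNatTrans.app a)) hli (hlam a) (c.toNatTrans.app a)
    (θ.toNatTrans.app a) (c'.toNatTrans.app a) hci i1 i4 i2
  have e2 : (c ≫ θ ≫ CategoryTheory.inv c').toNatTrans.app a =
      c.toNatTrans.app a ≫ θ.toNatTrans.app a ≫ CategoryTheory.inv (c'.toNatTrans.app a) := by
    rw [← hinv]
    rfl
  rw [e2]
  exact i6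

end Based

section PushPull

variable {C : Type u} [Category.{v} C] {𝒳 : BasedCategory.{v₁, u₁} C}
variable {𝒟 : BasedCategory.{v₂, u₂} 𝒳.obj} {ℰ : BasedCategory.{v₃, u₃} 𝒳.obj}

/-- A category over `𝒳`, viewed over `C`. -/
abbrev push (𝒟 : BasedCategory.{v₂, u₂} 𝒳.obj) : BasedCategory.{v₂, u₂} C :=
  BasedCategory.ofFunctor (𝒟.p ⋙ 𝒳.p)

/-- A functor over `𝒳`, viewed over `C`. -/
def pushF (Φ : 𝒟 ⥤ᵇ ℰ) : push 𝒟 ⥤ᵇ push ℰ where
  toFunctor := Φ.toFunctor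
  w := congrArg (fun X => X ⋙ 𝒳.p) Φ.w

/-- The structure functor to `𝒳`, over `C`. -/
def pushQ (𝒟 : BasedCategory.{v₂, u₂} 𝒳.obj) : push 𝒟 ⥤ᵇ 𝒳 where
  toFunctor := 𝒟.p
  w := rfl

/-- A 2-morphism over `𝒳`, viewed over `C`. -/
def pushN {Φ Φ' : 𝒟 ⥤ᵇ ℰ} (μ : Φ ⟶ Φ') : pushF Φ ⟶ pushF Φ' where
  toNatTrans := μ.toNatTrans
  isHomLift' := fun a => isHomLift_comp_id ℰ.p 𝒳.p _ (μ.isHomLift' a)

/-- A functor over `C` commuting strictly with the projections to `𝒳` is a functor over `𝒳`. -/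
def pull (G : push 𝒟 ⥤ᵇ push ℰ) (h : G.toFunctor ⋙ ℰ.p = 𝒟.p) : 𝒟 ⥤ᵇ ℰ where
  toFunctor := G.toFunctor
  w := h

/-- A 2-morphism over `C` with components over identities of `𝒳` is a 2-morphism over `𝒳`. -/
def pullN {G G' : push 𝒟 ⥤ᵇ push ℰ} (h : G.toFunctor ⋙ ℰ.p = 𝒟.p)
    (h' : G'.toFunctor ⋙ ℰ.p = 𝒟.p) (μ : G ⟶ G')
    (hμ : ∀ a : 𝒟.obj, ℰ.p.IsHomLift (𝟙 (𝒟.p.obj a)) (μ.toNatTrans.app a)) :
    pull G h ⟶ pull G' h' where
  toNatTrans := μ.toNatTrans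
  isHomLift' := hμ

end PushPull

end Groth.Agent.Helper2.StkLib.PushPull
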