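import Mathlib
import Groth.Prelude.Def_AlgSt
import Groth.Prelude.Def_FibCat2
import Groth.Agent.Lib.Helper2.Stk.FullSub
import Groth.Agent.Lib.Helper2.FibCat.Yoneda

/-!
# Membership in a full substack is local (helper2)
-/

set_option autoImplicit false
open CategoryTheory CategoryTheory.Functor CategoryTheory.Limits

universe v₄ u₄ v u

namespace Groth.Agent.Helper2.StkLib

open Groth.Agent.Helper2 Groth.Agent.Helper2.FibCatLib

variable {C : Type u} [Category.{v} C] {𝒳 : BasedCategory.{v₄, u₄} C}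

/-- If a strictly full subcategory of a stack is a stack, then membership in it is local: an
object all of whose pullbacks along the arrows of a covering sieve belong to the subcategory
belongs to it. -/
theorem mem_of_local_of_isStack_subCat (J : GrothendieckTopology C) (h𝒳 : Stk.IsStack J 𝒳)
    (Q : ObjectProperty 𝒳.obj) (hQiso : Q.IsClosedUnderIsomorphisms)
    (hQ : Stk.IsStack J (subCat 𝒳 Q)) {U : C} (R : Sieve U) (hR : R ∈ J U) (x : 𝒳.obj)
    (hx : 𝒳.p.obj x = U)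
    (hloc : ∀ ⦃V : C⦄ (f : V ⟶ U), R f → ∀ (y : 𝒳.obj) (φ : y ⟶ x), 𝒳.p.IsHomLift f φ → Q y) :
    Q x := by
  haveI := isFibered_of_isFibGrpd 𝒳.p h𝒳.1
  let G : FibCat.overCat U ⥤ᵇ 𝒳 := yonedaFunctor hx
  obtain ⟨e, he⟩ := yonedaFunctor_obj_id_iso hx
  have hD : ∀ A : (Stk.sieveCat R).obj, Q ((BasedFunctor.comp (Stk.sieveIncl R) G).obj A) := by
    intro A
    have h1 : 𝒳.p.IsHomLift A.obj.hom (G.map (toId U A.obj)) :=
      isHomLift_map_over U G (toId U A.obj)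
    have h2 : 𝒳.p.IsHomLift A.obj.hom (G.map (toId U A.obj) ≫ e.hom) :=
      isHomLift_congr' 𝒳.p (Category.comp_id _) _
        (inferInstance : 𝒳.p.IsHomLift (A.obj.hom ≫ 𝟙 U) (G.map (toId U A.obj) ≫ e.hom))
    exact hloc A.obj.hom A.property _ _ h2
  let D' : Stk.sieveCat R ⥤ᵇ subCat 𝒳 Q :=
    { toFunctor := ObjectProperty.lift Q (BasedFunctor.comp (Stk.sieveIncl R) G).toFunctor hD
      w := (BasedFunctor.comp (Stk.sieveIncl R) G).w }
  haveI : (Stk.resSieve R (subCat 𝒳 Q)).IsEquivalence := hQ.2 R hR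
  haveI : (Stk.resSieve R 𝒳).IsEquivalence := h𝒳.2 R hR
  obtain ⟨G', ⟨ε⟩⟩ := Functor.EssSurj.mem_essImage (Stk.resSieve R (subCat 𝒳 Q)) D'
  let ζ : (Stk.resSieve R 𝒳).obj (BasedFunctor.comp G' (subIncl 𝒳 Q)) ⟶
      (Stk.resSieve R 𝒳).obj G :=
    BasedCategory.whiskerRight ε.hom (subIncl 𝒳 Q)
  obtain ⟨β, -⟩ := (Stk.resSieve R 𝒳).map_surjective ζ
  haveI : IsIso β := isIso_of_isFibGrpd h𝒳.1 β
  haveI : IsIso (β.toNatTrans.app (Over.mk (𝟙 U))) := by
    have := β.isHomLift' (Over.mk (𝟙 U))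
    exact IsFibGrpd.isIso_of_isHomLift_id 𝒳.p h𝒳.1 (S := (FibCat.overCat U).p.obj (Over.mk (𝟙 U)))
      (β.toNatTrans.app (Over.mk (𝟙 U)))
  exact hQiso.of_iso (asIso (β.toNatTrans.app (Over.mk (𝟙 U))) ≪≫ e)
    (G'.obj (Over.mk (𝟙 U))).property

end Groth.Agent.Helper2.StkLib
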