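import Mathlib
import Groth.Prelude.Def_AlgSt
import Groth.Prelude.Def_FibCat2
import Groth.Agent.Lib.Helper2.FibProd
import Groth.Agent.Lib.Helper2.Stk.Post
import Groth.Agent.Lib.Helper2.Stk.Yon

/-!
# Functors into a 2-fibre product; gluing in a 2-fibre product (helper2)
-/

set_option autoImplicit false
open CategoryTheory CategoryTheory.Functor CategoryTheory.Limits

universe v₆ u₆ v₅ u₅ v₄ u₄ v₃ u₃ v₂ u₂ v u

namespace Groth.Agent.Helper2.StkLib

open Groth.Agent.Helper2 Groth.Agent.Helper2.FibCatLib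

variable {C : Type u} [Category.{v} C]
variable {𝒜 : BasedCategory.{v₂, u₂} C} {ℬ : BasedCategory.{v₃, u₃} C}
  {𝒳 : BasedCategory.{v₄, u₄} C} {𝒴 : BasedCategory.{v₅, u₅} C} {𝒮 : BasedCategory.{v₆, u₆} C}
  (F : 𝒳 ⥤ᵇ 𝒮) (G : 𝒴 ⥤ᵇ 𝒮)

/-- 2-morphisms into the 2-fibre product are determined by their two projections. -/
theorem fp_nat_ext {H H' : 𝒜 ⥤ᵇ FibCat.fp F G} (α β : H ⟶ H')
    (h1 : ∀ a : 𝒜.obj, (α.toNatTrans.app a).hom.fst = (β.toNatTrans.app a).hom.fst)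
    (h2 : ∀ a : 𝒜.obj, (α.toNatTrans.app a).hom.snd = (β.toNatTrans.app a).hom.snd) : α = β := by
  apply BasedNatTrans.homCategory.ext
  ext a
  · exact h1 a
  · exact h2 a

/-- A compatible pair of 2-morphisms between the projections gives a 2-morphism into the 2-fibre
product. -/
theorem fp_nat_mk {H H' : 𝒜 ⥤ᵇ FibCat.fp F G}
    (γ₁ : BasedFunctor.comp H (FibCat.fpFst F G) ⟶ BasedFunctor.comp H' (FibCat.fpFst F G))
    (γ₂ : BasedFunctor.comp H (FibCat.fpSnd F G) ⟶ BasedFunctor.comp H' (FibCat.fpSnd F G))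
    (hc : ∀ a : 𝒜.obj, F.map (γ₁.toNatTrans.app a) ≫ (H'.obj a).obj.iso.hom =
      (H.obj a).obj.iso.hom ≫ G.map (γ₂.toNatTrans.app a)) :
    ∃ γ : H ⟶ H', (∀ a : 𝒜.obj, (γ.toNatTrans.app a).hom.fst = γ₁.toNatTrans.app a) ∧
      (∀ a : 𝒜.obj, (γ.toNatTrans.app a).hom.snd = γ₂.toNatTrans.app a) := by
  let c : ∀ a : 𝒜.obj, H.obj a ⟶ H'.obj a := fun a =>
    ObjectProperty.homMk
      { fst := γ₁.toNatTrans.app a
        snd := γ₂.toNatTrans.app a
        w := hc a }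
  refine ⟨{ toNatTrans := { app := c, naturality := ?_ }, isHomLift' := ?_ }, fun a => rfl,
    fun a => rfl⟩
  · intro a a' f
    apply ObjectProperty.hom_ext
    apply CategoricalPullback.hom_ext
    · exact γ₁.toNatTrans.naturality f
    · exact γ₂.toNatTrans.naturality f
  · intro a
    have h1 : 𝒳.p.IsHomLift (𝟙 (𝒜.p.obj a)) (γ₁.toNatTrans.app a) := γ₁.isHomLift' a
    have h2 : 𝒳.p.IsHomLift (𝟙 (𝒜.p.obj a)) ((FibCat.fpFst F G).map (c a)) := h1
    exact BasedFunctor.isHomLift_map (FibCat.fpFst F G) (𝟙 (𝒜.p.obj a)) (c a)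

variable (ι : 𝒜 ⥤ᵇ ℬ)

theorem restr_fp_faithful (h1 : (Stk.restr ι 𝒳).Faithful) (h2 : (Stk.restr ι 𝒴).Faithful) :
    (Stk.restr ι (FibCat.fp F G)).Faithful where
  map_injective {H H'} α β h := by
    have e1 : BasedCategory.whiskerRight α (FibCat.fpFst F G) =
        BasedCategory.whiskerRight β (FibCat.fpFst F G) := by
      apply h1.map_injective
      apply BasedNatTrans.homCategory.ext
      ext a
      have := congrArg (fun γ : (Stk.restr ι (FibCat.fp F G)).obj H ⟶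
        (Stk.restr ι (FibCat.fp F G)).obj H' => (γ.toNatTrans.app a).hom.fst) h
      exact this
    have e2 : BasedCategory.whiskerRight α (FibCat.fpSnd F G) =
        BasedCategory.whiskerRight β (FibCat.fpSnd F G) := by
      apply h2.map_injective
      apply BasedNatTrans.homCategory.ext
      ext a
      have := congrArg (fun γ : (Stk.restr ι (FibCat.fp F G)).obj H ⟶
        (Stk.restr ι (FibCat.fp F G)).obj H' => (γ.toNatTrans.app a).hom.snd) h
      exact this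
    apply fp_nat_ext
    · intro b
      have := congrArg (fun γ : BasedFunctor.comp H (FibCat.fpFst F G) ⟶
        BasedFunctor.comp H' (FibCat.fpFst F G) => γ.toNatTrans.app b) e1
      exact this
    · intro b
      have := congrArg (fun γ : BasedFunctor.comp H (FibCat.fpSnd F G) ⟶
        BasedFunctor.comp H' (FibCat.fpSnd F G) => γ.toNatTrans.app b) e2
      exact this

theorem restr_fp_full (h1 : (Stk.restr ι 𝒳).Full) (h2 : (Stk.restr ι 𝒴).Full)
    (h3 : (Stk.restr ι 𝒮).Faithful) : (Stk.restr ι (FibCat.fp F G)).Full where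
  map_surjective {H H'} γ := by
    -- the two projections of `γ`
    let γ₁ : (Stk.restr ι 𝒳).obj (BasedFunctor.comp H (FibCat.fpFst F G)) ⟶
        (Stk.restr ι 𝒳).obj (BasedFunctor.comp H' (FibCat.fpFst F G)) :=
      BasedCategory.whiskerRight γ (FibCat.fpFst F G)
    let γ₂ : (Stk.restr ι 𝒴).obj (BasedFunctor.comp H (FibCat.fpSnd F G)) ⟶
        (Stk.restr ι 𝒴).obj (BasedFunctor.comp H' (FibCat.fpSnd F G)) :=
      BasedCategory.whiskerRight γ (FibCat.fpSnd F G)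
    obtain ⟨δ₁, hδ₁⟩ := h1.map_surjective γ₁
    obtain ⟨δ₂, hδ₂⟩ := h2.map_surjective γ₂
    have hδ₁' : ∀ a : 𝒜.obj, δ₁.toNatTrans.app (ι.obj a) = (γ.toNatTrans.app a).hom.fst := by
      intro a
      have := congrArg (fun ρ : (Stk.restr ι 𝒳).obj (BasedFunctor.comp H (FibCat.fpFst F G)) ⟶
        (Stk.restr ι 𝒳).obj (BasedFunctor.comp H' (FibCat.fpFst F G)) => ρ.toNatTrans.app a) hδ₁
      exact this
    have hδ₂' : ∀ a : 𝒜.obj, δ₂.toNatTrans.app (ι.obj a) = (γ.toNatTrans.app a).hom.snd := by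
      intro a
      have := congrArg (fun ρ : (Stk.restr ι 𝒴).obj (BasedFunctor.comp H (FibCat.fpSnd F G)) ⟶
        (Stk.restr ι 𝒴).obj (BasedFunctor.comp H' (FibCat.fpSnd F G)) => ρ.toNatTrans.app a) hδ₂
      exact this
    -- the two composites to compare in `𝒮`
    let X : BasedFunctor.comp (BasedFunctor.comp H (FibCat.fpFst F G)) F ⟶
        BasedFunctor.comp (BasedFunctor.comp H' (FibCat.fpSnd F G)) G :=
      BasedCategory.whiskerRight δ₁ F ≫ BasedCategory.whiskerLeft H' (FibCat.fpIso F G).hom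
    let Y : BasedFunctor.comp (BasedFunctor.comp H (FibCat.fpFst F G)) F ⟶
        BasedFunctor.comp (BasedFunctor.comp H' (FibCat.fpSnd F G)) G :=
      BasedCategory.whiskerLeft H (FibCat.fpIso F G).hom ≫ BasedCategory.whiskerRight δ₂ G
    have hXY : X = Y := by
      apply h3.map_injective
      apply BasedNatTrans.homCategory.ext
      ext a
      change F.map (δ₁.toNatTrans.app (ι.obj a)) ≫ (H'.obj (ι.obj a)).obj.iso.hom =
        (H.obj (ι.obj a)).obj.iso.hom ≫ G.map (δ₂.toNatTrans.app (ι.obj a))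
      rw [hδ₁', hδ₂']
      exact (γ.toNatTrans.app a).hom.w
    have hc : ∀ b : ℬ.obj, F.map (δ₁.toNatTrans.app b) ≫ (H'.obj b).obj.iso.hom =
        (H.obj b).obj.iso.hom ≫ G.map (δ₂.toNatTrans.app b) := by
      intro b
      have := congrArg (fun ρ : BasedFunctor.comp (BasedFunctor.comp H (FibCat.fpFst F G)) F ⟶
        BasedFunctor.comp (BasedFunctor.comp H' (FibCat.fpSnd F G)) G => ρ.toNatTrans.app b) hXY
      exact this
    obtain ⟨δ, hδ1, hδ2⟩ := fp_nat_mk F G δ₁ δ₂ hc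
    refine ⟨δ, ?_⟩
    apply fp_nat_ext
    · intro a
      exact (hδ1 (ι.obj a)).trans (hδ₁' a)
    · intro a
      exact (hδ2 (ι.obj a)).trans (hδ₂' a)

theorem restr_fp_essSurj (h𝒫 : FibCat.IsFibGrpd (FibCat.fp F G).p) (h𝒮 : FibCat.IsFibGrpd 𝒮.p)
    (h1 : (Stk.restr ι 𝒳).EssSurj) (h2 : (Stk.restr ι 𝒴).EssSurj)
    (h3 : (Stk.restr ι 𝒮).Full) : (Stk.restr ι (FibCat.fp F G)).EssSurj where
  mem_essImage D := by
    obtain ⟨G₁, ⟨ε₁⟩⟩ := h1.mem_essImage (BasedFunctor.comp D (FibCat.fpFst F G))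
    obtain ⟨G₂, ⟨ε₂⟩⟩ := h2.mem_essImage (BasedFunctor.comp D (FibCat.fpSnd F G))
    let ζ : (Stk.restr ι 𝒮).obj (BasedFunctor.comp G₁ F) ⟶
        (Stk.restr ι 𝒮).obj (BasedFunctor.comp G₂ G) :=
      BasedCategory.whiskerRight ε₁.hom F ≫ BasedCategory.whiskerLeft D (FibCat.fpIso F G).hom ≫
        BasedCategory.whiskerRight ε₂.inv G
    obtain ⟨δ, hδ⟩ := h3.map_surjective ζ
    have hδi : IsIso δ := isIso_of_isFibGrpd h𝒮 δ
    let H : ℬ ⥤ᵇ FibCat.fp F G := FibCat.fpLift G₁ G₂ (@asIso _ _ _ _ δ hδi)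
    have hδ' : ∀ a : 𝒜.obj, δ.toNatTrans.app (ι.obj a) =
        F.map (ε₁.hom.toNatTrans.app a) ≫ (D.obj a).obj.iso.hom ≫
          G.map (ε₂.inv.toNatTrans.app a) := by
      intro a
      have := congrArg (fun ρ : (Stk.restr ι 𝒮).obj (BasedFunctor.comp G₁ F) ⟶
        (Stk.restr ι 𝒮).obj (BasedFunctor.comp G₂ G) => ρ.toNatTrans.app a) hδ
      exact this
    have hinv : ∀ a : 𝒜.obj, ε₂.inv.toNatTrans.app a ≫ ε₂.hom.toNatTrans.app a = 𝟙 _ := by
      intro a
      have := congrArg (fun ρ : BasedFunctor.comp D (FibCat.fpSnd F G) ⟶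
        BasedFunctor.comp D (FibCat.fpSnd F G) => ρ.toNatTrans.app a) ε₂.inv_hom_id
      exact this
    obtain ⟨γ, -, -⟩ := fp_nat_mk F G (H := BasedFunctor.comp ι H) (H' := D) ε₁.hom ε₂.hom (by
      intro a
      let e1 : G₁.obj (ι.obj a) ⟶ (D.obj a).obj.fst := ε₁.hom.toNatTrans.app a
      let e2 : G₂.obj (ι.obj a) ⟶ (D.obj a).obj.snd := ε₂.hom.toNatTrans.app a
      let e2i : (D.obj a).obj.snd ⟶ G₂.obj (ι.obj a) := ε₂.inv.toNatTrans.app a
      have hinv' : e2i ≫ e2 = 𝟙 _ := hinv a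
      let d : F.obj (G₁.obj (ι.obj a)) ⟶ G.obj (G₂.obj (ι.obj a)) := δ.toNatTrans.app (ι.obj a)
      have hd : d = F.map e1 ≫ (D.obj a).obj.iso.hom ≫ G.map e2i :=
        hδ' a
      change F.map e1 ≫ (D.obj a).obj.iso.hom = d ≫ G.map e2
      rw [hd, Category.assoc, Category.assoc, ← CategoryTheory.Functor.map_comp, hinv',
        CategoryTheory.Functor.map_id, Category.comp_id])
    have hγ : IsIso γ := isIso_of_isFibGrpd h𝒫 γ
    exact ⟨H, ⟨@asIso _ _ _ _ γ hγ⟩⟩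

theorem restr_fp_isEquivalence (h𝒫 : FibCat.IsFibGrpd (FibCat.fp F G).p)
    (h𝒮 : FibCat.IsFibGrpd 𝒮.p)
    (h1 : (Stk.restr ι 𝒳).IsEquivalence) (h2 : (Stk.restr ι 𝒴).IsEquivalence)
    (h3 : (Stk.restr ι 𝒮).Full) (h4 : (Stk.restr ι 𝒮).Faithful) :
    (Stk.restr ι (FibCat.fp F G)).IsEquivalence := by
  have := restr_fp_faithful F G ι h1.faithful h2.faithful
  have := restr_fp_full F G ι h1.full h2.full h4
  have := restr_fp_essSurj F G ι h𝒫 h𝒮 h1.essSurj h2.essSurj h3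
  exact { }

end Groth.Agent.Helper2.StkLib
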