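import Mathlib
import Groth.Prelude.Def_FibCat2
import Groth.Agent.Lib.Helper2.FibGrpd

/-!
# The topology inherited by a category fibred in groupoids (helper2)
-/

set_option autoImplicit false
open CategoryTheory CategoryTheory.Functor

universe v₂ u₂ v u

namespace Groth.Agent.Helper2.StkLib

open Groth.Agent.Helper2

variable {C : Type u} [Category.{v} C] {𝒳 : Type u₂} [Category.{v₂} 𝒳] (p : 𝒳 ⥤ C)

/-- The pushforward of a pulled-back sieve contains the pullback of the pushforward, for a category
fibred in groupoids. -/
theorem pullback_functorPushforward_le (hp : FibCat.IsFibGrpd p) {x y : 𝒳} (S : Sieve x)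
    (f : y ⟶ x) :
    (S.functorPushforward p).pullback (p.map f) ≤ (S.pullback f).functorPushforward p := by
  intro V g hg
  obtain ⟨z, φ, h, hφ, hfac⟩ := hg
  obtain ⟨w, k, e, hk⟩ := IsFibGrpd.exists_lift' p hp y g
  have hcomp : (eqToHom e ≫ h) ≫ p.map φ = p.map (k ≫ f) := by
    rw [Functor.map_comp, hk, Category.assoc, Category.assoc, hfac]
  obtain ⟨χ, ⟨-, hχ⟩, -⟩ := IsFibGrpd.existsUnique_lift p hp φ (k ≫ f) (eqToHom e ≫ h) hcomp
  refine ⟨w, k, eqToHom e.symm, ?_, ?_⟩
  · change S (k ≫ f)
    rw [← hχ]
    exact S.downward_closed hφ χ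
  · rw [hk]
    simp

/-- Membership in the inherited topology of a category fibred in groupoids. -/
theorem mem_restrictedTopology_iff (hp : FibCat.IsFibGrpd p) (J : GrothendieckTopology C) {x : 𝒳}
    (S : Sieve x) :
    S ∈ p.restrictedTopology J x ↔ S.functorPushforward p ∈ J (p.obj x) := by
  constructor
  · intro hS
    have hS' : (Precoverage.comap p J.toPrecoverage).Saturate x S := hS
    clear hS
    induction hS' with
    | of X R hR =>
      rw [Precoverage.mem_comap_iff, GrothendieckTopology.mem_toPrecoverage_iff,
        Sieve.generate_map_eq_functorPushforward] at hR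
      exact hR
    | top X =>
      rw [Sieve.functorPushforward_top]
      exact J.top_mem _
    | pullback X S _ Y f ih =>
      exact J.superset_covering (pullback_functorPushforward_le p hp S f)
        (J.pullback_stable (p.map f) ih)
    | transitive X S R hS hR ih1 ih2 =>
      apply J.transitive ih1
      intro V f hf
      obtain ⟨z, g, h, hg, hfac⟩ := hf
      have h2 : (R.pullback g).functorPushforward p ∈ J (p.obj z) := ih2 hg
      have h3 := J.pullback_stable h h2
      refine J.superset_covering ?_ h3
      intro W k hk
      obtain ⟨w, m, h'', hm, hfac'⟩ := hk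
      refine ⟨w, m ≫ g, h'', hm, ?_⟩
      rw [hfac, ← Category.assoc, hfac', Functor.map_comp, Category.assoc]
  · exact Functor.mem_restrictedTopology_of_functorPushforward_mem

end Groth.Agent.Helper2.StkLib
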