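import Mathlib
import Groth.Prelude.Def_FibCat2
import Groth.Agent.Lib.Helper2.FibGrpd
import Groth.Agent.Lib.Helper2.Stk.InhTop

/-!
# Slices of a category fibred in groupoids and the inherited topology (helper2)
-/

set_option autoImplicit false
open CategoryTheory CategoryTheory.Functor Opposite

universe v₂ u₂ v u

namespace Groth.Agent.Helper2.StkLib

open Groth.Agent.Helper2

variable {C : Type u} [Category.{v} C] {𝒳 : Type u₂} [Category.{v₂} 𝒳] (p : 𝒳 ⥤ C)

theorem overPost_faithful (hp : FibCat.IsFibGrpd p) (x : 𝒳) :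
    (Over.post p : Over x ⥤ Over (p.obj x)).Faithful where
  map_injective {a b} g g' h := by
    have h1 : p.map g.left = p.map g'.left := congrArg (fun φ => φ.left) h
    have hu := IsFibGrpd.existsUnique_lift p hp b.hom a.hom (p.map g.left)
      (by rw [← Functor.map_comp, Over.w g])
    apply Over.OverMorphism.ext
    apply hu.unique
    · exact ⟨rfl, Over.w g⟩
    · exact ⟨h1.symm, Over.w g'⟩

theorem overPost_full (hp : FibCat.IsFibGrpd p) (x : 𝒳) :
    (Over.post p : Over x ⥤ Over (p.obj x)).Full where
  map_surjective {a b} φ := by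
    have hw : φ.left ≫ p.map b.hom = p.map a.hom := Over.w φ
    obtain ⟨χ, ⟨h1, h2⟩, -⟩ := IsFibGrpd.existsUnique_lift p hp b.hom a.hom φ.left hw
    refine ⟨Over.homMk χ h2, ?_⟩
    apply Over.OverMorphism.ext
    exact h1

theorem overPost_essSurj (hp : FibCat.IsFibGrpd p) (x : 𝒳) :
    (Over.post p : Over x ⥤ Over (p.obj x)).EssSurj where
  mem_essImage c := by
    obtain ⟨y, ψ, e, hψ⟩ := IsFibGrpd.exists_lift' p hp x c.hom
    refine ⟨Over.mk ψ, ⟨Over.isoMk (eqToIso e) ?_⟩⟩
    change eqToHom e ≫ c.hom = p.map ψ
    exact hψ.symm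

theorem overPost_isEquivalence (hp : FibCat.IsFibGrpd p) (x : 𝒳) :
    (Over.post p : Over x ⥤ Over (p.obj x)).IsEquivalence := by
  have := overPost_faithful p hp x
  have := overPost_full p hp x
  have := overPost_essSurj p hp x
  exact { }

theorem overPost_forget (x : 𝒳) :
    (Over.post p : Over x ⥤ Over (p.obj x)) ⋙ Over.forget (p.obj x) = Over.forget x ⋙ p := rfl

theorem mem_over_restrictedTopology_iff (hp : FibCat.IsFibGrpd p) (J : GrothendieckTopology C)
    (x : 𝒳) (a : Over x) (S : Sieve a) :
    S ∈ (p.restrictedTopology J).over x a ↔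
      S.functorPushforward (Over.post p) ∈ (J.over (p.obj x)) ((Over.post p).obj a) := by
  rw [GrothendieckTopology.mem_over_iff, GrothendieckTopology.mem_over_iff,
    mem_restrictedTopology_iff p hp]
  have h1 : Sieve.overEquiv ((Over.post p).obj a) (S.functorPushforward (Over.post p)) =
      (Sieve.overEquiv a S).functorPushforward p := by
    change (S.functorPushforward (Over.post p)).functorPushforward (Over.forget (p.obj x)) =
      (S.functorPushforward (Over.forget x)).functorPushforward p
    rw [← Sieve.functorPushforward_comp, ← Sieve.functorPushforward_comp]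
    rfl
  rw [h1]
  rfl

end Groth.Agent.Helper2.StkLib
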