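import Mathlib
import Groth.Prelude.Def_AlgSt
import Groth.Prelude.Def_FibCat2
import Groth.Agent.Lib.Helper2.Stk.Post
import Groth.Agent.Lib.Helper2.Stk.Yon
import Groth.Agent.Lib.Helper2.Stk.LocAut

/-!
# Refinement of sieves and the gluing functor (helper2)
-/

set_option autoImplicit false
open CategoryTheory CategoryTheory.Functor Opposite

universe v₄ u₄ v u

namespace Groth.Agent.Helper2.StkLib

open Groth.Agent.Helper2 Groth.Agent.Helper2.FibCatLib

variable {C : Type u} [Category.{v} C] {𝒳 : BasedCategory.{v₄, u₄} C}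
variable {U : C}

section Functors

/-- The inclusion of a smaller sieve into a bigger one, as a functor over `C`. -/
def sieveInclLE {S R : Sieve U} (hSR : S ≤ R) : Stk.sieveCat S ⥤ᵇ Stk.sieveCat R where
  toFunctor :=
    { obj := fun b => ⟨b.obj, hSR _ b.property⟩
      map := fun {b b'} g => ObjectProperty.homMk g.hom
      map_id := fun b => rfl
      map_comp := fun g g' => rfl }
  w := rfl

/-- Composition with an arrow `f` of the sieve `R`, as a functor over `C` from `C/V` to `R`. -/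
def sieveComp (R : Sieve U) {V : C} (f : V ⟶ U) (hf : R f) :
    FibCat.overCat V ⥤ᵇ Stk.sieveCat R where
  toFunctor :=
    { obj := fun B => ⟨Over.mk (B.hom ≫ f), R.downward_closed hf B.hom⟩
      map := fun {B B'} g => ObjectProperty.homMk
        (Over.homMk g.left (by
          change g.left ≫ B'.hom ≫ f = B.hom ≫ f
          rw [← Category.assoc, Over.w g]))
      map_id := fun B => by
        apply ObjectProperty.hom_ext
        apply Over.OverMorphism.ext
        rfl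
      map_comp := fun g g' => by
        apply ObjectProperty.hom_ext
        apply Over.OverMorphism.ext
        rfl }
  w := rfl

/-- Composition with `f`, from the pulled-back sieve `f^*S` to `S`. -/
def sievePullbackComp (S : Sieve U) {V : C} (f : V ⟶ U) :
    Stk.sieveCat (S.pullback f) ⥤ᵇ Stk.sieveCat S where
  toFunctor :=
    { obj := fun t => ⟨Over.mk (t.obj.hom ≫ f), t.property⟩
      map := fun {t t'} g => ObjectProperty.homMk
        (Over.homMk g.hom.left (by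
          change g.hom.left ≫ t'.obj.hom ≫ f = t.obj.hom ≫ f
          rw [← Category.assoc, Over.w g.hom]))
      map_id := fun t => by
        apply ObjectProperty.hom_ext
        apply Over.OverMorphism.ext
        rfl
      map_comp := fun g g' => by
        apply ObjectProperty.hom_ext
        apply Over.OverMorphism.ext
        rfl }
  w := rfl

theorem sieveCat_hom_ext {R : Sieve U} {a b : (Stk.sieveCat R).obj} (g g' : a ⟶ b)
    (h : g.hom.left = g'.hom.left) : g = g' := by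
  apply ObjectProperty.hom_ext
  apply Over.OverMorphism.ext
  exact h

/-- The canonical morphism `⟨g ≫ f⟩ ⟶ ⟨f⟩` of a sieve given by `g`. -/
def sieveHom (R : Sieve U) {a b : (Stk.sieveCat R).obj} (g : a.obj.left ⟶ b.obj.left)
    (hg : g ≫ b.obj.hom = a.obj.hom) : a ⟶ b :=
  ObjectProperty.homMk (Over.homMk g hg)

end Functors

theorem ext_of_comp' (h𝒳 : FibCat.IsFibGrpd 𝒳.p) {R' R : C} (g : R' ⟶ R) {a b a' : 𝒳.obj}
    (φ : a ⟶ b) (ψ ψ' : a' ⟶ a) (h1 : 𝒳.p.IsHomLift g ψ) (h2 : 𝒳.p.IsHomLift g ψ')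
    (hc : ψ ≫ φ = ψ' ≫ φ) : ψ = ψ' :=
  IsFibGrpd.ext_of_comp 𝒳.p h𝒳 g φ hc

theorem chase {D : Type*} [Category D] {X0 X1 X2 X3 Y0 Y1 Y2 Y3 : D} (u1 : X0 ⟶ X1)
    (u2 : X1 ⟶ X2) (u3 : X2 ⟶ X3) (u3' : X3 ⟶ X2) (v1 : Y0 ⟶ Y1) (v2 : Y1 ⟶ Y2) (v3 : Y2 ⟶ Y3)
    (γ0 : X2 ⟶ Y2) (γB : X1 ⟶ Y1) (βb : X0 ⟶ Y0) (e1 : u3 ≫ u3' = 𝟙 _)
    (n1 : u2 ≫ γ0 = γB ≫ v2) (n2 : u1 ≫ γB = βb ≫ v1) :
    (u1 ≫ u2 ≫ u3) ≫ (u3' ≫ γ0 ≫ v3) = βb ≫ (v1 ≫ v2 ≫ v3) := by
  calc (u1 ≫ u2 ≫ u3) ≫ (u3' ≫ γ0 ≫ v3) = u1 ≫ u2 ≫ (u3 ≫ u3') ≫ γ0 ≫ v3 := by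
        simp only [Category.assoc]
    _ = u1 ≫ (u2 ≫ γ0) ≫ v3 := by rw [e1, Category.id_comp, Category.assoc]
    _ = (u1 ≫ γB) ≫ v2 ≫ v3 := by rw [n1]; simp only [Category.assoc]
    _ = βb ≫ (v1 ≫ v2 ≫ v3) := by rw [n2]; simp only [Category.assoc]

section Glue

variable (h𝒳 : FibCat.IsFibGrpd 𝒳.p) {S R : Sieve U} (hSR : S ≤ R)
  (hR : ∀ ⦃V : C⦄ (f : V ⟶ U), R f → Stk.IsPrestackFor (S.pullback f) 𝒳)

include h𝒳 hR

/-- Uniqueness of local extensions. -/
theorem ext_of_star {E E' : Stk.sieveCat R ⥤ᵇ 𝒳} (a : (Stk.sieveCat R).obj)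
    (m m' : E.obj a ⟶ E'.obj a) (hm : 𝒳.p.IsHomLift (𝟙 a.obj.left) m)
    (hm' : 𝒳.p.IsHomLift (𝟙 a.obj.left) m')
    (hstar : ∀ (b : (Stk.sieveCat S).obj) (h : (sieveInclLE hSR).obj b ⟶ a),
      E.map h ≫ m = E.map h ≫ m') : m = m' := by
  obtain ⟨-, hfaith⟩ := hR a.obj.hom a.property
  apply eq_of_locally_eq (S.pullback a.obj.hom) h𝒳 hfaith m m' hm hm'
  intro W g hg
  let b : (Stk.sieveCat S).obj := ⟨Over.mk (g ≫ a.obj.hom), hg⟩
  let h : (sieveInclLE hSR).obj b ⟶ a := ObjectProperty.homMk (Over.homMk g rfl)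
  have hl : 𝒳.p.IsHomLift g (E.map h) := by
    have : (Stk.sieveCat R).p.IsHomLift g h := IsHomLift.map (Stk.sieveCat R).p h
    exact BasedFunctor.preserves_isHomLift E g h
  exact ⟨E.obj ((sieveInclLE hSR).obj b), E.map h, hl, hstar b h⟩

/-- Existence of local extensions. -/
theorem exists_star {E E' : Stk.sieveCat R ⥤ᵇ 𝒳}
    (β : BasedFunctor.comp (sieveInclLE hSR) E ⟶ BasedFunctor.comp (sieveInclLE hSR) E')
    (a : (Stk.sieveCat R).obj) :
    ∃ m : E.obj a ⟶ E'.obj a, 𝒳.p.IsHomLift (𝟙 a.obj.left) m ∧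
      ∀ (b : (Stk.sieveCat S).obj) (h : (sieveInclLE hSR).obj b ⟶ a),
        E.map h ≫ m = β.toNatTrans.app b ≫ E'.map h := by
  obtain ⟨hfull, -⟩ := hR a.obj.hom a.property
  let V := a.obj.left
  let f : V ⟶ U := a.obj.hom
  let c := sieveComp R f a.property
  let d := sievePullbackComp S f
  -- the 2-morphism on the pulled-back sieve
  let β' : (Stk.resSieve (S.pullback f) 𝒳).obj (BasedFunctor.comp c E) ⟶
      (Stk.resSieve (S.pullback f) 𝒳).obj (BasedFunctor.comp c E') :=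
    BasedCategory.whiskerLeft d β
  obtain ⟨γ, hγ⟩ := hfull.map_surjective β'
  have hγ' : ∀ t : (Stk.sieveCat (S.pullback f)).obj,
      γ.toNatTrans.app t.obj = β.toNatTrans.app (d.obj t) := by
    intro t
    have := congrArg (fun ρ : (Stk.resSieve (S.pullback f) 𝒳).obj (BasedFunctor.comp c E) ⟶
      (Stk.resSieve (S.pullback f) 𝒳).obj (BasedFunctor.comp c E') => ρ.toNatTrans.app t) hγ
    exact this
  -- the isomorphism `c (𝟙 V) ≅ a`
  let i : c.obj (Over.mk (𝟙 V)) ⟶ a := sieveHom R (𝟙 V) (by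
    change 𝟙 V ≫ a.obj.hom = 𝟙 V ≫ f
    rfl)
  let i' : a ⟶ c.obj (Over.mk (𝟙 V)) := sieveHom R (𝟙 V) (by
    change 𝟙 V ≫ 𝟙 V ≫ f = a.obj.hom
    simp [f])
  have hii' : i' ≫ i = 𝟙 a := by
    apply sieveCat_hom_ext
    change 𝟙 V ≫ 𝟙 V = 𝟙 V
    simp
  have hi'i : i ≫ i' = 𝟙 _ := by
    apply sieveCat_hom_ext
    change 𝟙 V ≫ 𝟙 V = 𝟙 V
    simp
  let m : E.obj a ⟶ E'.obj a := E.map i' ≫ γ.toNatTrans.app (Over.mk (𝟙 V)) ≫ E'.map i
  have hi1 : 𝒳.p.IsHomLift (𝟙 V) (E.map i') := by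
    have : (Stk.sieveCat R).p.IsHomLift (𝟙 V) i' := IsHomLift.map (Stk.sieveCat R).p i'
    exact BasedFunctor.preserves_isHomLift E (𝟙 V) i'
  have hi2 : 𝒳.p.IsHomLift (𝟙 V) (E'.map i) := by
    have : (Stk.sieveCat R).p.IsHomLift (𝟙 V) i := IsHomLift.map (Stk.sieveCat R).p i
    exact BasedFunctor.preserves_isHomLift E' (𝟙 V) i
  have hγ1 : 𝒳.p.IsHomLift (𝟙 V) (γ.toNatTrans.app (Over.mk (𝟙 V))) :=
    γ.isHomLift' (Over.mk (𝟙 V))
  have h23 : 𝒳.p.IsHomLift (𝟙 V) (γ.toNatTrans.app (Over.mk (𝟙 V)) ≫ E'.map i) :=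
    isHomLift_comp_id_left 𝒳.p (𝟙 V) _ _ hγ1 hi2
  have hm : 𝒳.p.IsHomLift (𝟙 V) m := isHomLift_comp_id_left 𝒳.p (𝟙 V) _ _ hi1 h23
  refine ⟨m, hm, ?_⟩
  intro b h
  -- the arrow of `h`
  let g : b.obj.left ⟶ V := h.hom.left
  have hgw : g ≫ f = b.obj.hom := Over.w h.hom
  have hT : (S.pullback f) g := by
    change S (g ≫ f)
    rw [hgw]
    exact b.property
  let B : (FibCat.overCat V).obj := Over.mk g
  let t : (Stk.sieveCat (S.pullback f)).obj := ⟨B, hT⟩
  -- `d t ≅ b`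
  let j : b ⟶ d.obj t := sieveHom S (𝟙 _) (by
    change 𝟙 _ ≫ g ≫ f = b.obj.hom
    rw [Category.id_comp, hgw])
  -- `h = incl j ≫ c (toId B) ≫ i`
  have hh : h = (sieveInclLE hSR).map j ≫ c.map (toId V B) ≫ i := by
    apply sieveCat_hom_ext
    change g = 𝟙 _ ≫ g ≫ 𝟙 V
    simp
  have hnatγ := γ.toNatTrans.naturality (toId V B)
  have hnatβ := β.toNatTrans.naturality j
  have e1 : E.map i ≫ E.map i' = 𝟙 _ := by
    rw [← CategoryTheory.Functor.map_comp, hi'i, CategoryTheory.Functor.map_id]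
  have hγB : γ.toNatTrans.app B = β.toNatTrans.app (d.obj t) := hγ' t
  have f1 : E.map h = E.map ((sieveInclLE hSR).map j) ≫ E.map (c.map (toId V B)) ≫ E.map i := by
    rw [hh, CategoryTheory.Functor.map_comp, CategoryTheory.Functor.map_comp]
  have f2 : E'.map h = E'.map ((sieveInclLE hSR).map j) ≫ E'.map (c.map (toId V B)) ≫
      E'.map i := by
    rw [hh, CategoryTheory.Functor.map_comp, CategoryTheory.Functor.map_comp]
  change E.map h ≫ E.map i' ≫ γ.toNatTrans.app (Over.mk (𝟙 V)) ≫ E'.map i = _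
  rw [f1, f2]
  exact chase (E.map ((sieveInclLE hSR).map j)) (E.map (c.map (toId V B))) (E.map i) (E.map i')
    (E'.map ((sieveInclLE hSR).map j)) (E'.map (c.map (toId V B))) (E'.map i)
    (γ.toNatTrans.app (Over.mk (𝟙 V))) (β.toNatTrans.app (d.obj t)) (β.toNatTrans.app b) e1
    (hγB ▸ hnatγ) hnatβ

/-- Restriction from `R` to a smaller sieve `S` is full. -/
theorem restr_sieveInclLE_full : (Stk.restr (sieveInclLE hSR) 𝒳).Full where
  map_surjective {E E'} β := by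
    change BasedFunctor.comp (sieveInclLE hSR) E ⟶ BasedFunctor.comp (sieveInclLE hSR) E' at β
    choose m hm hstar using exists_star h𝒳 hSR hR β
    have hnat : ∀ {a a' : (Stk.sieveCat R).obj} (k : a ⟶ a'),
        E.map k ≫ m a' = m a ≫ E'.map k := by
      intro a a' k
      have hk : 𝒳.p.IsHomLift k.hom.left (E'.map k) := by
        have : (Stk.sieveCat R).p.IsHomLift k.hom.left k := IsHomLift.map (Stk.sieveCat R).p k
        exact BasedFunctor.preserves_isHomLift E' k.hom.left k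
      have hk2 : 𝒳.p.IsHomLift k.hom.left (E.map k) := by
        have : (Stk.sieveCat R).p.IsHomLift k.hom.left k := IsHomLift.map (Stk.sieveCat R).p k
        exact BasedFunctor.preserves_isHomLift E k.hom.left k
      have hma' := hm a'
      have hl : 𝒳.p.IsHomLift k.hom.left (E.map k ≫ m a') :=
        isHomLift_comp_id_right 𝒳.p k.hom.left _ _ hk2 hma'
      obtain ⟨n, ⟨hn1, hn2⟩, -⟩ := IsFibGrpd.existsUnique 𝒳.p h𝒳 (𝟙 a.obj.left) k.hom.left
        k.hom.left (Category.id_comp _).symm (E'.map k) (E.map k ≫ m a')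
      have hn : n = m a := by
        apply ext_of_star h𝒳 hSR hR a n (m a) hn1 (hm a)
        intro b h
        rw [hstar a b h]
        have hh1 : 𝒳.p.IsHomLift h.hom.left (E.map h) := by
          have : (Stk.sieveCat R).p.IsHomLift h.hom.left h := IsHomLift.map (Stk.sieveCat R).p h
          exact BasedFunctor.preserves_isHomLift E h.hom.left h
        have hh2 : 𝒳.p.IsHomLift h.hom.left (E'.map h) := by
          have : (Stk.sieveCat R).p.IsHomLift h.hom.left h := IsHomLift.map (Stk.sieveCat R).p h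
          exact BasedFunctor.preserves_isHomLift E' h.hom.left h
        have hβb : 𝒳.p.IsHomLift (𝟙 b.obj.left) (β.toNatTrans.app b) := β.isHomLift' b
        have l1 : 𝒳.p.IsHomLift h.hom.left (E.map h ≫ n) :=
          isHomLift_comp_id_right 𝒳.p h.hom.left _ _ hh1 hn1
        have l2 : 𝒳.p.IsHomLift h.hom.left (β.toNatTrans.app b ≫ E'.map h) :=
          isHomLift_comp_id_left 𝒳.p h.hom.left _ _ hβb hh2
        apply ext_of_comp' h𝒳 h.hom.left (E'.map k) _ _ l1 l2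
        have q1 : E.map (h ≫ k) ≫ m a' = β.toNatTrans.app b ≫ E'.map (h ≫ k) := hstar a' b (h ≫ k)
        rw [CategoryTheory.Functor.map_comp, CategoryTheory.Functor.map_comp] at q1
        calc (E.map h ≫ n) ≫ E'.map k = E.map h ≫ (n ≫ E'.map k) := Category.assoc _ _ _
          _ = E.map h ≫ E.map k ≫ m a' := by rw [hn2]
          _ = (E.map h ≫ E.map k) ≫ m a' := (Category.assoc _ _ _).symm
          _ = β.toNatTrans.app b ≫ E'.map h ≫ E'.map k := q1
          _ = (β.toNatTrans.app b ≫ E'.map h) ≫ E'.map k := (Category.assoc _ _ _).symm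
      rw [← hn2, hn]
    refine ⟨{ toNatTrans := { app := m, naturality := fun a a' k => hnat k }
              isHomLift' := fun a => hm a }, ?_⟩
    apply BasedNatTrans.homCategory.ext
    ext b
    have h1 := hstar ((sieveInclLE hSR).obj b) b (𝟙 _)
    rw [CategoryTheory.Functor.map_id, CategoryTheory.Functor.map_id] at h1
    exact (Category.id_comp _).symm.trans (h1.trans (Category.comp_id _))

/-- Restriction from `R` to a smaller sieve `S` is faithful. -/
theorem restr_sieveInclLE_faithful : (Stk.restr (sieveInclLE hSR) 𝒳).Faithful where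
  map_injective {E E'} α α' hαα' := by
    apply BasedNatTrans.homCategory.ext
    ext a
    apply ext_of_star h𝒳 hSR hR a _ _ (α.isHomLift' a) (α'.isHomLift' a)
    intro b h
    have h1 := α.toNatTrans.naturality h
    have h2 := α'.toNatTrans.naturality h
    have h3 : α.toNatTrans.app ((sieveInclLE hSR).obj b) =
        α'.toNatTrans.app ((sieveInclLE hSR).obj b) := by
      have := congrArg (fun ρ : (Stk.restr (sieveInclLE hSR) 𝒳).obj E ⟶
        (Stk.restr (sieveInclLE hSR) 𝒳).obj E' => ρ.toNatTrans.app b) hαα'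
      exact this
    rw [h1, h2, h3]

end Glue

/-- The gluing functor for a sieve `R` is an equivalence if it is for a smaller sieve `S` and
morphisms glue along the pullbacks of `S` to the arrows of `R`. -/
theorem isStackFor_of_le (h𝒳 : FibCat.IsFibGrpd 𝒳.p) {S R : Sieve U} (hSR : S ≤ R)
    (hS : Stk.IsStackFor S 𝒳)
    (hR : ∀ ⦃V : C⦄ (f : V ⟶ U), R f → Stk.IsPrestackFor (S.pullback f) 𝒳) :
    Stk.IsStackFor R 𝒳 := by
  have hS' : (Stk.resSieve S 𝒳).IsEquivalence := hS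
  have h1 := restr_sieveInclLE_full h𝒳 hSR hR
  have h2 := restr_sieveInclLE_faithful h𝒳 hSR hR
  have hcomp : Stk.resSieve R 𝒳 ⋙ Stk.restr (sieveInclLE hSR) 𝒳 = Stk.resSieve S 𝒳 := rfl
  have h3 : (Stk.resSieve R 𝒳 ⋙ Stk.restr (sieveInclLE hSR) 𝒳).IsEquivalence := by
    rw [hcomp]; exact hS'
  have h4 : (Stk.restr (sieveInclLE hSR) 𝒳).EssSurj := by
    refine ⟨fun D => ?_⟩
    obtain ⟨G, ⟨ε⟩⟩ := h3.essSurj.mem_essImage D
    exact ⟨(Stk.resSieve R 𝒳).obj G, ⟨ε⟩⟩
  have h5 : (Stk.restr (sieveInclLE hSR) 𝒳).IsEquivalence := { }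
  exact Functor.isEquivalence_of_comp_right (Stk.resSieve R 𝒳) (Stk.restr (sieveInclLE hSR) 𝒳)

end Groth.Agent.Helper2.StkLib
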