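import Mathlib
import Groth.Prelude.Def_AlgSt
import Groth.Prelude.Def_FibCat2
import Groth.Agent.Lib.Helper2.Stk.PushPull
import Groth.Agent.Lib.Helper2.Stk.InhTop
import Groth.Agent.Lib.Helper2.Stk.InhTopOver
import Groth.Agent.Lib.Helper2.Stk.Refine
import Groth.Agent.Lib.Helper2.FibCat.OverFun

/-!
# The slice of a category fibred in groupoids over a slice of the base (helper2)

For `x` over `U`, the functor `𝒳/x ⥤ C/U` is an equivalence over `C`, also on sieves.
-/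

set_option autoImplicit false
set_option synthInstance.maxHeartbeats 400000
set_option maxHeartbeats 1000000
set_option linter.style.haveILetI false
set_option linter.unusedSectionVars false
set_option linter.unusedVariables false
set_option linter.unusedSimpArgs false
set_option linter.unnecessarySimpa false

open CategoryTheory CategoryTheory.Functor

universe v₆ u₆ v₅ u₅ v₄ u₄ v₃ u₃ v₂ u₂ v₁ u₁ v u

namespace Groth.Agent.Helper2.StkLib.SlicePost

open Groth.Agent.Helper2 Groth.Agent.Helper2.FibCatLib Groth.Agent.Helper2.StkLib.PushPull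
open Groth.Agent.Helper2.FibCatLib.OverFun

variable {C : Type u} [Category.{v} C] {𝒳 : BasedCategory.{v₁, u₁} C}

theorem existsUnique' {𝒜 : Type u₂} [Category.{v₂} 𝒜] (p : 𝒜 ⥤ C) (h : FibCat.IsFibGrpd p)
    {R' R S : C} (g : R' ⟶ R) (f : R ⟶ S) (f' : R' ⟶ S) (hf' : f' = g ≫ f) {a b a' : 𝒜}
    (φ : a ⟶ b) (hφ : p.IsHomLift f φ) (φ' : a' ⟶ b) (hφ' : p.IsHomLift f' φ') :
    ∃! χ : a' ⟶ a, p.IsHomLift g χ ∧ χ ≫ φ = φ' :=
  IsFibGrpd.existsUnique p h g f f' hf' φ φ'

section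

variable (x : 𝒳.obj) {U : C} (hU : 𝒳.p.obj x = U)

/-- The slice of `𝒳` at `x`, over `C`. -/
abbrev sliceC : BasedCategory.{v₁, max u₁ v₁} C := push (FibCat.overCat x)

/-- The functor `𝒳/x ⥤ C/U` over `C`, for `x` over `U`. -/
def postU : sliceC x ⥤ᵇ FibCat.overCat U where
  toFunctor := Over.post 𝒳.p ⋙ Over.map (eqToHom hU)
  w := rfl

theorem postU_full (h𝒳 : FibCat.IsFibGrpd 𝒳.p) : (postU x hU).toFunctor.Full := by
  have := overPost_full 𝒳.p h𝒳 x
  show (Over.post 𝒳.p ⋙ Over.map (eqToHom hU)).Full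
  infer_instance

theorem postU_faithful (h𝒳 : FibCat.IsFibGrpd 𝒳.p) : (postU x hU).toFunctor.Faithful := by
  have := overPost_faithful 𝒳.p h𝒳 x
  show (Over.post 𝒳.p ⋙ Over.map (eqToHom hU)).Faithful
  infer_instance

theorem postU_exists_iso (h𝒳 : FibCat.IsFibGrpd 𝒳.p) (A : Over U) :
    ∃ (K : Over x) (e : (postU x hU).toFunctor.obj K ≅ A),
      (Over.forget U).IsHomLift (𝟙 A.left) e.hom := by
  obtain ⟨z, k, hz, hk⟩ := IsFibGrpd.exists_lift' 𝒳.p h𝒳 x (A.hom ≫ eqToHom hU.symm)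
  have hw : (eqToIso hz).hom ≫ A.hom = ((postU x hU).toFunctor.obj (Over.mk k)).hom := by
    show eqToHom hz ≫ A.hom = 𝒳.p.map k ≫ eqToHom hU
    rw [hk]
    simp
  refine ⟨Over.mk k, Over.isoMk (eqToIso hz) hw, ?_⟩
  exact over_isHomLift_id_of_left_eq _ hz (by simp)

theorem postU_isEquivOver (h𝒳 : FibCat.IsFibGrpd 𝒳.p) : FibCat.IsEquivOver (postU x hU) := by
  rw [isEquivOver_iff]
  exact ⟨⟨postU_full x hU h𝒳, postU_faithful x hU h𝒳⟩, fun A => postU_exists_iso x hU h𝒳 A⟩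

variable (R : Sieve U)

/-- The sieve on `x` of the arrows whose image belongs to `R`. -/
abbrev Sx : Sieve x := (R.pullback (eqToHom hU)).functorPullback 𝒳.p

theorem Sx_iff {z : 𝒳.obj} (k : z ⟶ x) : (Sx x hU R) k ↔ R (𝒳.p.map k ≫ eqToHom hU) := Iff.rfl

theorem Sx_mem (h𝒳 : FibCat.IsFibGrpd 𝒳.p) (J : GrothendieckTopology C) (hR : R ∈ J U) :
    Sx x hU R ∈ 𝒳.p.restrictedTopology J x := by
  rw [mem_restrictedTopology_iff 𝒳.p h𝒳 J]
  have h1 : R.pullback (eqToHom hU) ∈ J (𝒳.p.obj x) := J.pullback_stable _ hR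
  refine J.superset_covering ?_ h1
  intro V g hg
  obtain ⟨z, k, hz, hk⟩ := IsFibGrpd.exists_lift' 𝒳.p h𝒳 x g
  refine ⟨z, k, eqToHom hz.symm, ?_, ?_⟩
  · show R (𝒳.p.map k ≫ eqToHom hU)
    rw [hk, Category.assoc]
    exact R.downward_closed hg _
  · rw [hk]
    simp

/-- The functor on sieves induced by `postU`. -/
def postS : push (Stk.sieveCat (Sx x hU R)) ⥤ᵇ Stk.sieveCat R where
  toFunctor :=
    { obj := fun b => ⟨(postU x hU).toFunctor.obj b.obj, b.property⟩
      map := fun {b b'} g => ObjectProperty.homMk ((postU x hU).toFunctor.map g.hom)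
      map_id := fun b => by
        apply ObjectProperty.hom_ext
        exact (postU x hU).toFunctor.map_id _
      map_comp := fun g g' => by
        apply ObjectProperty.hom_ext
        exact (postU x hU).toFunctor.map_comp _ _ }
  w := rfl

theorem square : BasedFunctor.comp (pushF (Stk.sieveIncl (Sx x hU R))) (postU x hU) =
    BasedFunctor.comp (postS x hU R) (Stk.sieveIncl R) := rfl

theorem postS_isEquivOver (h𝒳 : FibCat.IsFibGrpd 𝒳.p) : FibCat.IsEquivOver (postS x hU R) := by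
  have hfu := postU_full x hU h𝒳
  have hfa := postU_faithful x hU h𝒳
  rw [isEquivOver_iff]
  refine ⟨⟨⟨?_⟩, ⟨?_⟩⟩, fun A => ?_⟩
  · intro b b' φ
    obtain ⟨g, hg⟩ := hfu.map_surjective φ.hom
    exact ⟨ObjectProperty.homMk g, by apply ObjectProperty.hom_ext; exact hg⟩
  · intro b b' g g' h
    apply ObjectProperty.hom_ext
    apply hfa.map_injective
    exact congrArg (fun t => t.hom) h
  · obtain ⟨K, e, he⟩ := postU_exists_iso x hU h𝒳 A.obj
    have hK : R ((postU x hU).toFunctor.obj K).hom := by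
      have := Over.w e.hom
      rw [← this]
      exact R.downward_closed A.property _
    let ξ : (Stk.sieveCat (Sx x hU R)).obj := ⟨K, hK⟩
    let E : (postS x hU R).toFunctor.obj ξ ≅ A := ObjectProperty.isoMk _ e
    refine ⟨ξ, E, ?_⟩
    have h1 : (ObjectProperty.ι _).IsHomLift e.hom E.hom :=
      inferInstanceAs ((ObjectProperty.ι _).IsHomLift ((ObjectProperty.ι _).map E.hom) E.hom)
    exact isHomLift_comp_of (ObjectProperty.ι _) (Over.forget U) (𝟙 A.obj.left) e.hom E.hom h1 he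

end

theorem mem_iff_map_mem_functorPushforward (h𝒳 : FibCat.IsFibGrpd 𝒳.p) {x : 𝒳.obj} (S : Sieve x)
    {z : 𝒳.obj} (k : z ⟶ x) : S k ↔ (S.functorPushforward 𝒳.p) (𝒳.p.map k) := by
  constructor
  · intro hk
    exact ⟨z, k, 𝟙 _, hk, (Category.id_comp _).symm⟩
  · rintro ⟨z', g, h, hg, hfac⟩
    obtain ⟨χ, ⟨-, h2⟩, -⟩ := IsFibGrpd.existsUnique_lift 𝒳.p h𝒳 g k h hfac.symm
    rw [← h2]
    exact S.downward_closed hg χ

theorem Sx_functorPushforward (h𝒳 : FibCat.IsFibGrpd 𝒳.p) {x : 𝒳.obj} (S : Sieve x) :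
    Sx x rfl (S.functorPushforward 𝒳.p) = S := by
  ext z k
  show (S.functorPushforward 𝒳.p) (𝒳.p.map k ≫ eqToHom rfl) ↔ S k
  rw [eqToHom_refl, Category.comp_id]
  exact (mem_iff_map_mem_functorPushforward h𝒳 S k).symm

/-- A comparison 2-morphism from the projection of the slice to the composite with a functor
`C/U ⟶ 𝒳` whose value at the identity is `x`. -/
theorem exists_lam0 (h𝒳 : FibCat.IsFibGrpd 𝒳.p) {U : C} (G₀ : FibCat.overCat U ⥤ᵇ 𝒳) (x : 𝒳.obj)
    (hx : x = G₀.obj (Over.mk (𝟙 U))) (hU : 𝒳.p.obj x = U) :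
    Nonempty (pushQ (FibCat.overCat x) ⟶ BasedFunctor.comp (postU x hU) G₀) := by
  subst hx
  have key : ∀ K : Over (G₀.obj (Over.mk (𝟙 U))),
      ∃ l : K.left ⟶ G₀.obj ((postU _ hU).toFunctor.obj K),
        𝒳.p.IsHomLift (𝟙 (𝒳.p.obj K.left)) l ∧
          l ≫ G₀.map (toId U ((postU _ hU).toFunctor.obj K)) = K.hom := by
    intro K
    have i1 : 𝒳.p.IsHomLift ((postU _ hU).toFunctor.obj K).hom
        (G₀.map (toId U ((postU _ hU).toFunctor.obj K))) :=
      isHomLift_map_over U G₀ (toId U ((postU _ hU).toFunctor.obj K))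
    have i2 : 𝒳.p.IsHomLift (𝒳.p.map K.hom ≫ eqToHom hU) K.hom := inferInstance
    obtain ⟨l, hl, -⟩ := existsUnique' 𝒳.p h𝒳 (𝟙 (𝒳.p.obj K.left))
      ((postU _ hU).toFunctor.obj K).hom (𝒳.p.map K.hom ≫ eqToHom hU) (Category.id_comp _).symm
      (G₀.map (toId U ((postU _ hU).toFunctor.obj K))) i1 K.hom i2
    exact ⟨l, hl⟩
  choose l hl using key
  refine ⟨{ toNatTrans := { app := l, naturality := ?_ }, isHomLift' := fun K => (hl K).1 }⟩
  intro K K' g
  show g.left ≫ l K' = l K ≫ G₀.map ((postU _ hU).toFunctor.map g)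
  have i3 := (hl K).1
  have i4 := (hl K').1
  have i5 : 𝒳.p.IsHomLift (𝒳.p.map g.left) (G₀.map ((postU _ hU).toFunctor.map g)) :=
    isHomLift_map_over U G₀ ((postU _ hU).toFunctor.map g)
  have i6 : 𝒳.p.IsHomLift (𝒳.p.map g.left) (g.left ≫ l K') :=
    isHomLift_congr' 𝒳.p (Category.comp_id _) _
      (inferInstance : 𝒳.p.IsHomLift (𝒳.p.map g.left ≫ 𝟙 _) (g.left ≫ l K'))
  have i7 : 𝒳.p.IsHomLift (𝒳.p.map g.left) (l K ≫ G₀.map ((postU _ hU).toFunctor.map g)) :=
    isHomLift_congr' 𝒳.p (Category.id_comp _) _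
      (inferInstance : 𝒳.p.IsHomLift (𝟙 (𝒳.p.obj K.left) ≫ 𝒳.p.map g.left)
        (l K ≫ G₀.map ((postU _ hU).toFunctor.map g)))
  have e1 : G₀.map ((postU _ hU).toFunctor.map g) ≫
      G₀.map (toId U ((postU _ hU).toFunctor.obj K')) =
      G₀.map (toId U ((postU _ hU).toFunctor.obj K)) :=
    map_comp_toId U G₀ ((postU _ hU).toFunctor.map g)
  have hc : (g.left ≫ l K') ≫ G₀.map (toId U ((postU _ hU).toFunctor.obj K')) =
      (l K ≫ G₀.map ((postU _ hU).toFunctor.map g)) ≫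
        G₀.map (toId U ((postU _ hU).toFunctor.obj K')) := by
    calc (g.left ≫ l K') ≫ G₀.map (toId U ((postU _ hU).toFunctor.obj K'))
        = g.left ≫ (l K' ≫ G₀.map (toId U ((postU _ hU).toFunctor.obj K'))) :=
          Category.assoc _ _ _
      _ = g.left ≫ K'.hom := congrArg (fun t => g.left ≫ t) (hl K').2
      _ = K.hom := Over.w g
      _ = l K ≫ G₀.map (toId U ((postU _ hU).toFunctor.obj K)) := ((hl K).2).symm
      _ = l K ≫ (G₀.map ((postU _ hU).toFunctor.map g) ≫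
            G₀.map (toId U ((postU _ hU).toFunctor.obj K'))) :=
          congrArg (fun t => l K ≫ t) e1.symm
      _ = (l K ≫ G₀.map ((postU _ hU).toFunctor.map g)) ≫
            G₀.map (toId U ((postU _ hU).toFunctor.obj K')) := (Category.assoc _ _ _).symm
  exact ext_of_comp' h𝒳 (𝒳.p.map g.left)
    (G₀.map (toId U ((postU _ hU).toFunctor.obj K'))) _ _ i6 i7 hc

end Groth.Agent.Helper2.StkLib.SlicePost
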