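import Mathlib
import Groth.Prelude.Def_AlgSt
import Groth.Prelude.Def_FibCat2
import Groth.Agent.Lib.Helper2.Stk.SlicePost

/-!
# Restriction along functors with weak products in their comma categories (helper2)

Let `ν : 𝒜 ⟶ ℬ` be a functor over `D` such that every object `b` of `ℬ` maps to an object in the
image of `ν` and the comma categories `b ↓ ν` have weak binary products.  Then restriction along `ν`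
is an equivalence on functors over `D` into any category fibred in groupoids.
-/

set_option autoImplicit false
set_option synthInstance.maxHeartbeats 400000
set_option maxHeartbeats 1000000
set_option linter.style.haveILetI false
set_option linter.unusedSectionVars false
set_option linter.unusedVariables false
set_option linter.unusedSimpArgs false
set_option linter.unnecessarySimpa false

open CategoryTheory CategoryTheory.Functor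

universe v₆ u₆ v₅ u₅ v₄ u₄ v₃ u₃ v₂ u₂ v₁ u₁ v u

namespace Groth.Agent.Helper2.StkLib.FinRestr

open Groth.Agent.Helper2 Groth.Agent.Helper2.FibCatLib Groth.Agent.Helper2.StkLib.PushPull
open Groth.Agent.Helper2.StkLib.SlicePost

section Plain

variable {𝒜 : Type u₁} [Category.{v₁} 𝒜] {ℬ : Type u₂} [Category.{v₂} ℬ]

theorem hl_eq (p : 𝒜 ⥤ ℬ) {R S : ℬ} {f f' : R ⟶ S} (e : f = f') {a b : 𝒜} (φ : a ⟶ b)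
    (h : p.IsHomLift f φ) : p.IsHomLift f' φ := by
  subst e; exact h

theorem hl_comp (p : 𝒜 ⥤ ℬ) {R S T : ℬ} {a b c : 𝒜} (f : R ⟶ S) (g : S ⟶ T)
    (φ : a ⟶ b) (ψ : b ⟶ c) (h1 : p.IsHomLift f φ) (h2 : p.IsHomLift g ψ) :
    p.IsHomLift (f ≫ g) (φ ≫ ψ) := inferInstance

theorem hl_id_congr (p : 𝒜 ⥤ ℬ) {S S' : ℬ} (e : S = S') {a b : 𝒜} (φ : a ⟶ b)
    (h : p.IsHomLift (𝟙 S) φ) : p.IsHomLift (𝟙 S') φ := by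
  subst e; exact h

theorem hl_comp_id_right (p : 𝒜 ⥤ ℬ) {S T : ℬ} (f : S ⟶ T) {a b c : 𝒜} (φ : a ⟶ b)
    (ψ : b ⟶ c) (h1 : p.IsHomLift f φ) (h2 : p.IsHomLift (𝟙 T) ψ) : p.IsHomLift f (φ ≫ ψ) :=
  hl_eq p (Category.comp_id f) _ (hl_comp p f (𝟙 T) φ ψ h1 h2)

theorem hl_comp_id_left (p : 𝒜 ⥤ ℬ) {S T : ℬ} (f : S ⟶ T) {a b c : 𝒜} (φ : a ⟶ b)
    (ψ : b ⟶ c) (h1 : p.IsHomLift (𝟙 S) φ) (h2 : p.IsHomLift f ψ) : p.IsHomLift f (φ ≫ ψ) :=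
  hl_eq p (Category.id_comp f) _ (hl_comp p (𝟙 S) f φ ψ h1 h2)

theorem hl_id_of_map_eq (p : 𝒜 ⥤ ℬ) {a b : 𝒜} (φ : a ⟶ b) {S : ℬ} (ha : p.obj a = S)
    (hb : p.obj b = S) (h : p.map φ = eqToHom (ha.trans hb.symm)) : p.IsHomLift (𝟙 S) φ := by
  apply IsHomLift.of_fac' p (𝟙 S) φ ha hb
  rw [h]; simp

theorem hl_map_eq_of_id (p : 𝒜 ⥤ ℬ) {a b : 𝒜} (φ : a ⟶ b) {S : ℬ}
    (h : p.IsHomLift (𝟙 S) φ) (ha : p.obj a = S) (hb : p.obj b = S) :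
    p.map φ = eqToHom (ha.trans hb.symm) := by
  rw [IsHomLift.fac' p (𝟙 S) φ]; simp

theorem hl_id_of_eqToHom (p : 𝒜 ⥤ ℬ) {a b : 𝒜} (φ : a ⟶ b) {R R' : ℬ} (g : R ⟶ R')
    (h : R = R') (hg : g = eqToHom h) (H : p.IsHomLift g φ) :
    p.IsHomLift (𝟙 R') φ := by
  subst h
  subst hg
  exact H

end Plain

section Fin

variable {D : Type u} [Category.{v} D]
variable {𝒜 : BasedCategory.{v₂, u₂} D} {ℬ : BasedCategory.{v₃, u₃} D} (ν : 𝒜 ⥤ᵇ ℬ)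
variable {𝒮 : BasedCategory.{v₄, u₄} D}

/-- Every object of `ℬ` maps to an object in the image of `ν`. -/
def HasDom : Prop := ∀ b : ℬ.obj, ∃ a : 𝒜.obj, Nonempty (b ⟶ ν.obj a)

/-- Weak binary products in the comma categories `b ↓ ν`. -/
def HasWP : Prop :=
  ∀ (b : ℬ.obj) (a₁ a₂ : 𝒜.obj) (h₁ : b ⟶ ν.obj a₁) (h₂ : b ⟶ ν.obj a₂),
    ∃ (a₃ : 𝒜.obj) (h₃ : b ⟶ ν.obj a₃) (π₁ : a₃ ⟶ a₁) (π₂ : a₃ ⟶ a₂),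
      h₃ ≫ ν.map π₁ = h₁ ∧ h₃ ≫ ν.map π₂ = h₂ ∧
      ∀ (a₄ : 𝒜.obj) (h₄ : b ⟶ ν.obj a₄) (n₁ : a₄ ⟶ a₁) (n₂ : a₄ ⟶ a₂),
        h₄ ≫ ν.map n₁ = h₁ → h₄ ≫ ν.map n₂ = h₂ →
        ∃ t : a₄ ⟶ a₃, t ≫ π₁ = n₁ ∧ t ≫ π₂ = n₂ ∧ h₄ ≫ ν.map t = h₃

/-- The morphism of the base under `h : b ⟶ ν a`, with target `𝒜.p a`. -/
def bm {b : ℬ.obj} {a : 𝒜.obj} (h : b ⟶ ν.obj a) : ℬ.p.obj b ⟶ 𝒜.p.obj a :=
  ℬ.p.map h ≫ eqToHom (ν.w_obj a)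

theorem bm_comp {b : ℬ.obj} {a a' : 𝒜.obj} (h : b ⟶ ν.obj a) (m : a ⟶ a') :
    bm ν (h ≫ ν.map m) = bm ν h ≫ 𝒜.p.map m := by
  have e : ℬ.p.map (ν.map m) =
      eqToHom (ν.w_obj a) ≫ 𝒜.p.map m ≫ eqToHom (ν.w_obj a').symm :=
    CategoryTheory.Functor.congr_hom ν.w m
  unfold bm
  rw [CategoryTheory.Functor.map_comp, e]
  simp

theorem bm_precomp {b' b : ℬ.obj} {a : 𝒜.obj} (k : b' ⟶ b) (h : b ⟶ ν.obj a) :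
    bm ν (k ≫ h) = ℬ.p.map k ≫ bm ν h := by
  unfold bm
  rw [CategoryTheory.Functor.map_comp, Category.assoc]

theorem bm_id (a : 𝒜.obj) : bm ν (𝟙 (ν.obj a)) = eqToHom (ν.w_obj a) := by
  unfold bm
  rw [CategoryTheory.Functor.map_id, Category.id_comp]

theorem hl_map (H : 𝒜 ⥤ᵇ 𝒮) {a a' : 𝒜.obj} (m : a ⟶ a') :
    𝒮.p.IsHomLift (𝒜.p.map m) (H.map m) := inferInstance

/-- A vertex over `b` with compatible maps to all `H a` for `b ⟶ ν a`. -/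
structure Cone (H : 𝒜 ⥤ᵇ 𝒮) (b : ℬ.obj) where
  pt : 𝒮.obj
  pt_eq : 𝒮.p.obj pt = ℬ.p.obj b
  χ : ∀ (a : 𝒜.obj), (b ⟶ ν.obj a) → (pt ⟶ H.obj a)
  lift : ∀ (a : 𝒜.obj) (h : b ⟶ ν.obj a), 𝒮.p.IsHomLift (bm ν h) (χ a h)
  comp : ∀ {a a' : 𝒜.obj} (h : b ⟶ ν.obj a) (m : a ⟶ a'),
    χ a h ≫ H.map m = χ a' (h ≫ ν.map m)

variable {ν}

theorem Cone.existsUnique (h𝒮 : FibCat.IsFibGrpd 𝒮.p) (hi : HasDom ν) (hwp : HasWP ν)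
    {H : 𝒜 ⥤ᵇ 𝒮} {b b' : ℬ.obj} (K : Cone ν H b) (K' : Cone ν H b') (k : b ⟶ b') :
    ∃! κ : K.pt ⟶ K'.pt, 𝒮.p.IsHomLift (ℬ.p.map k) κ ∧
      ∀ (a : 𝒜.obj) (h : b' ⟶ ν.obj a), κ ≫ K'.χ a h = K.χ a (k ≫ h) := by
  obtain ⟨a₀, ⟨h₀⟩⟩ := hi b'
  obtain ⟨κ, ⟨hκ1, hκ2⟩, huniq⟩ := existsUnique' 𝒮.p h𝒮 (ℬ.p.map k) (bm ν h₀) (bm ν (k ≫ h₀))
    (bm_precomp ν k h₀) (K'.χ a₀ h₀) (K'.lift a₀ h₀) (K.χ a₀ (k ≫ h₀)) (K.lift a₀ (k ≫ h₀))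
  refine ⟨κ, ⟨hκ1, fun a h => ?_⟩, fun κ' hκ' => huniq κ' ⟨hκ'.1, hκ'.2 a₀ h₀⟩⟩
  obtain ⟨a₃, h₃, π₁, π₂, e₁, e₂, -⟩ := hwp b' a₀ a h₀ h
  have hA : κ ≫ K'.χ a₃ h₃ = K.χ a₃ (k ≫ h₃) := by
    have l1 : 𝒮.p.IsHomLift (bm ν (k ≫ h₃)) (κ ≫ K'.χ a₃ h₃) :=
      hl_eq 𝒮.p (bm_precomp ν k h₃).symm _
        (hl_comp 𝒮.p _ _ κ (K'.χ a₃ h₃) hκ1 (K'.lift a₃ h₃))
    have l2 : 𝒮.p.IsHomLift (bm ν (k ≫ h₃)) (K.χ a₃ (k ≫ h₃)) := K.lift a₃ (k ≫ h₃)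
    refine ext_of_comp' h𝒮 (bm ν (k ≫ h₃)) (H.map π₁) _ _ l1 l2 ?_
    have t1 : (κ ≫ K'.χ a₃ h₃) ≫ H.map π₁ = κ ≫ K'.χ a₀ h₀ := by
      rw [Category.assoc, K'.comp h₃ π₁, e₁]
    have t2 : K.χ a₃ (k ≫ h₃) ≫ H.map π₁ = K.χ a₀ (k ≫ h₀) := by
      rw [K.comp (k ≫ h₃) π₁, Category.assoc, e₁]
    rw [t1, t2]
    exact hκ2
  have s1 : K'.χ a h = K'.χ a₃ h₃ ≫ H.map π₂ := by
    rw [K'.comp h₃ π₂, e₂]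
  have s2 : K.χ a (k ≫ h) = K.χ a₃ (k ≫ h₃) ≫ H.map π₂ := by
    rw [K.comp (k ≫ h₃) π₂, Category.assoc, e₂]
  rw [s1, s2, ← Category.assoc, hA]

variable (ν)

/-- The candidate maps out of the chosen vertex. -/
def IsChi (H : 𝒜 ⥤ᵇ 𝒮) {b : ℬ.obj} {a₀ : 𝒜.obj} (h₀ : b ⟶ ν.obj a₀) {s : 𝒮.obj}
    (c₀ : s ⟶ H.obj a₀) (a : 𝒜.obj) (h : b ⟶ ν.obj a) (χ : s ⟶ H.obj a) : Prop :=
  ∃ (a₃ : 𝒜.obj) (h₃ : b ⟶ ν.obj a₃) (π₁ : a₃ ⟶ a₀) (π₂ : a₃ ⟶ a) (ξ : s ⟶ H.obj a₃),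
    h₃ ≫ ν.map π₁ = h₀ ∧ h₃ ≫ ν.map π₂ = h ∧ 𝒮.p.IsHomLift (bm ν h₃) ξ ∧
    ξ ≫ H.map π₁ = c₀ ∧ χ = ξ ≫ H.map π₂

variable {ν}

theorem isChi_exists (h𝒮 : FibCat.IsFibGrpd 𝒮.p) (hwp : HasWP ν) (H : 𝒜 ⥤ᵇ 𝒮) {b : ℬ.obj}
    {a₀ : 𝒜.obj} (h₀ : b ⟶ ν.obj a₀) {s : 𝒮.obj} (c₀ : s ⟶ H.obj a₀)
    (hc₀ : 𝒮.p.IsHomLift (bm ν h₀) c₀) (a : 𝒜.obj) (h : b ⟶ ν.obj a) :
    ∃ χ : s ⟶ H.obj a, IsChi ν H h₀ c₀ a h χ := by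
  obtain ⟨a₃, h₃, π₁, π₂, e₁, e₂, -⟩ := hwp b a₀ a h₀ h
  have hf' : bm ν h₀ = bm ν h₃ ≫ 𝒜.p.map π₁ := by
    rw [← bm_comp, e₁]
  obtain ⟨ξ, ⟨hξ1, hξ2⟩, -⟩ := existsUnique' 𝒮.p h𝒮 (bm ν h₃) (𝒜.p.map π₁) (bm ν h₀) hf'
    (H.map π₁) (hl_map H π₁) c₀ hc₀
  exact ⟨ξ ≫ H.map π₂, a₃, h₃, π₁, π₂, ξ, e₁, e₂, hξ1, hξ2, rfl⟩

theorem isChi_lift (H : 𝒜 ⥤ᵇ 𝒮) {b : ℬ.obj} {a₀ : 𝒜.obj} (h₀ : b ⟶ ν.obj a₀) {s : 𝒮.obj}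
    (c₀ : s ⟶ H.obj a₀) {a : 𝒜.obj} {h : b ⟶ ν.obj a} {χ : s ⟶ H.obj a}
    (hχ : IsChi ν H h₀ c₀ a h χ) : 𝒮.p.IsHomLift (bm ν h) χ := by
  obtain ⟨a₃, h₃, π₁, π₂, ξ, e₁, e₂, hξ, hξc, rfl⟩ := hχ
  have h1 := hl_comp 𝒮.p (bm ν h₃) (𝒜.p.map π₂) ξ (H.map π₂) hξ (hl_map H π₂)
  have e : bm ν h₃ ≫ 𝒜.p.map π₂ = bm ν h := by
    rw [← bm_comp, e₂]
  exact hl_eq 𝒮.p e _ h1

theorem isChi_comp (H : 𝒜 ⥤ᵇ 𝒮) {b : ℬ.obj} {a₀ : 𝒜.obj} (h₀ : b ⟶ ν.obj a₀) {s : 𝒮.obj}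
    (c₀ : s ⟶ H.obj a₀) {a a' : 𝒜.obj} {h : b ⟶ ν.obj a} {χ : s ⟶ H.obj a}
    (hχ : IsChi ν H h₀ c₀ a h χ) (m : a ⟶ a') :
    IsChi ν H h₀ c₀ a' (h ≫ ν.map m) (χ ≫ H.map m) := by
  obtain ⟨a₃, h₃, π₁, π₂, ξ, e₁, e₂, hξ, hξc, rfl⟩ := hχ
  refine ⟨a₃, h₃, π₁, π₂ ≫ m, ξ, e₁, ?_, hξ, hξc, ?_⟩
  · rw [CategoryTheory.Functor.map_comp, ← Category.assoc, e₂]
  · rw [Category.assoc, ← CategoryTheory.Functor.map_comp]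

theorem isChi_unique (h𝒮 : FibCat.IsFibGrpd 𝒮.p) (hwp : HasWP ν) (H : 𝒜 ⥤ᵇ 𝒮) {b : ℬ.obj}
    {a₀ : 𝒜.obj} (h₀ : b ⟶ ν.obj a₀) {s : 𝒮.obj} (c₀ : s ⟶ H.obj a₀) {a : 𝒜.obj}
    {h : b ⟶ ν.obj a} {χ χ' : s ⟶ H.obj a} (hχ : IsChi ν H h₀ c₀ a h χ)
    (hχ' : IsChi ν H h₀ c₀ a h χ') : χ = χ' := by
  obtain ⟨aP, hP, ϖ₁, ϖ₂, eP1, eP2, univ⟩ := hwp b a₀ a h₀ h
  have key : ∀ {χ : s ⟶ H.obj a}, IsChi ν H h₀ c₀ a h χ →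
      ∃ ζ : s ⟶ H.obj aP, 𝒮.p.IsHomLift (bm ν hP) ζ ∧ ζ ≫ H.map ϖ₁ = c₀ ∧
        χ = ζ ≫ H.map ϖ₂ := by
    rintro χ ⟨a₃, h₃, π₁, π₂, ξ, e₁, e₂, hξ, hξc, rfl⟩
    obtain ⟨t, t1, t2, t3⟩ := univ a₃ h₃ π₁ π₂ e₁ e₂
    refine ⟨ξ ≫ H.map t, ?_, ?_, ?_⟩
    · have h1 := hl_comp 𝒮.p (bm ν h₃) (𝒜.p.map t) ξ (H.map t) hξ (hl_map H t)
      have e : bm ν h₃ ≫ 𝒜.p.map t = bm ν hP := by
        rw [← bm_comp, t3]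
      exact hl_eq 𝒮.p e _ h1
    · rw [Category.assoc, ← CategoryTheory.Functor.map_comp, t1]
      exact hξc
    · rw [Category.assoc, ← CategoryTheory.Functor.map_comp, t2]
  obtain ⟨ζ, z1, z2, z3⟩ := key hχ
  obtain ⟨ζ', z1', z2', z3'⟩ := key hχ'
  have hζ : ζ = ζ' := ext_of_comp' h𝒮 (bm ν hP) (H.map ϖ₁) ζ ζ' z1 z1' (z2.trans z2'.symm)
  rw [z3, z3', hζ]

theorem exists_cone (h𝒮 : FibCat.IsFibGrpd 𝒮.p) (hi : HasDom ν) (hwp : HasWP ν)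
    (H : 𝒜 ⥤ᵇ 𝒮) (b : ℬ.obj) : Nonempty (Cone ν H b) := by
  obtain ⟨a₀, ⟨h₀⟩⟩ := hi b
  obtain ⟨s, c₀, hc₀⟩ := IsFibGrpd.exists_lift_of_eq 𝒮.p h𝒮 (H.w_obj a₀) (bm ν h₀)
  have hex : ∀ (a : 𝒜.obj) (h : b ⟶ ν.obj a), ∃ χ : s ⟶ H.obj a, IsChi ν H h₀ c₀ a h χ :=
    fun a h => isChi_exists h𝒮 hwp H h₀ c₀ hc₀ a h
  choose χ hχ using hex
  have i0 := hc₀
  exact ⟨{ pt := s
           pt_eq := IsHomLift.domain_eq 𝒮.p (bm ν h₀) c₀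
           χ := χ
           lift := fun a h => isChi_lift H h₀ c₀ (hχ a h)
           comp := fun {a a'} h m =>
             isChi_unique h𝒮 hwp H h₀ c₀ (isChi_comp H h₀ c₀ (hχ a h) m)
               (hχ a' (h ≫ ν.map m)) }⟩

variable (ν)

theorem restr_faithful (h𝒮 : FibCat.IsFibGrpd 𝒮.p) (hi : HasDom ν) :
    (Stk.restr ν 𝒮).Faithful := ⟨by
  intro G G' α β heq
  apply BasedNatTrans.homCategory.ext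
  ext b
  obtain ⟨a, ⟨h⟩⟩ := hi b
  have e : α.toNatTrans.app (ν.obj a) = β.toNatTrans.app (ν.obj a) :=
    congrArg (fun t : (Stk.restr ν 𝒮).obj G ⟶ (Stk.restr ν 𝒮).obj G' => t.toNatTrans.app a) heq
  have n1 : G.map h ≫ α.toNatTrans.app (ν.obj a) = α.toNatTrans.app b ≫ G'.map h :=
    α.toNatTrans.naturality h
  have n2 : G.map h ≫ β.toNatTrans.app (ν.obj a) = β.toNatTrans.app b ≫ G'.map h :=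
    β.toNatTrans.naturality h
  have l1 : 𝒮.p.IsHomLift (𝟙 (ℬ.p.obj b)) (α.toNatTrans.app b) := α.isHomLift' b
  have l2 : 𝒮.p.IsHomLift (𝟙 (ℬ.p.obj b)) (β.toNatTrans.app b) := β.isHomLift' b
  refine ext_of_comp' h𝒮 (𝟙 (ℬ.p.obj b)) (G'.map h) _ _ l1 l2 ?_
  rw [← n1, ← n2, e]⟩

theorem restr_full (h𝒮 : FibCat.IsFibGrpd 𝒮.p) (hi : HasDom ν) (hwp : HasWP ν) :
    (Stk.restr ν 𝒮).Full := ⟨by
  intro G G' γ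
  have hgex : ∃ g : ∀ a : 𝒜.obj, G.obj (ν.obj a) ⟶ G'.obj (ν.obj a),
      ∀ a, g a = γ.toNatTrans.app a := ⟨fun a => γ.toNatTrans.app a, fun a => rfl⟩
  obtain ⟨g, hg⟩ := hgex
  have lγ : ∀ a : 𝒜.obj, 𝒮.p.IsHomLift (𝟙 (ℬ.p.obj (ν.obj a))) (g a) := fun a => by
    rw [hg a]
    exact hl_id_congr 𝒮.p (ν.w_obj a).symm _ (γ.isHomLift' a)
  have lG : ∀ {b b' : ℬ.obj} (h : b ⟶ b'), 𝒮.p.IsHomLift (ℬ.p.map h) (G.map h) :=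
    fun h => inferInstance
  have lG' : ∀ {b b' : ℬ.obj} (h : b ⟶ b'), 𝒮.p.IsHomLift (ℬ.p.map h) (G'.map h) :=
    fun h => inferInstance
  have lr : ∀ {b : ℬ.obj} (a : 𝒜.obj) (h : b ⟶ ν.obj a),
      𝒮.p.IsHomLift (ℬ.p.map h) (G.map h ≫ g a) :=
    fun a h => hl_comp_id_right 𝒮.p (ℬ.p.map h) (G.map h) (g a) (lG h) (lγ a)
  have nγ : ∀ {x y : 𝒜.obj} (t : x ⟶ y), G.map (ν.map t) ≫ g y =
      g x ≫ G'.map (ν.map t) := fun {x y} t => by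
    rw [hg x, hg y]
    exact γ.toNatTrans.naturality t
  have key : ∀ b : ℬ.obj, ∃ m : G.obj b ⟶ G'.obj b, 𝒮.p.IsHomLift (𝟙 (ℬ.p.obj b)) m ∧
      ∀ (a : 𝒜.obj) (h : b ⟶ ν.obj a), m ≫ G'.map h = G.map h ≫ g a := by
    intro b
    obtain ⟨a₀, ⟨h₀⟩⟩ := hi b
    obtain ⟨m, ⟨hm1, hm2⟩, -⟩ := existsUnique' 𝒮.p h𝒮 (𝟙 (ℬ.p.obj b)) (ℬ.p.map h₀)
      (ℬ.p.map h₀) (Category.id_comp _).symm (G'.map h₀) (lG' h₀)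
      (G.map h₀ ≫ g a₀) (lr a₀ h₀)
    refine ⟨m, hm1, fun a h => ?_⟩
    obtain ⟨a₃, h₃, π₁, π₂, e₁, e₂, -⟩ := hwp b a₀ a h₀ h
    have hA : m ≫ G'.map h₃ = G.map h₃ ≫ g a₃ := by
      have l1 : 𝒮.p.IsHomLift (ℬ.p.map h₃) (m ≫ G'.map h₃) :=
        hl_comp_id_left 𝒮.p (ℬ.p.map h₃) m (G'.map h₃) hm1 (lG' h₃)
      refine ext_of_comp' h𝒮 (ℬ.p.map h₃) (G'.map (ν.map π₁)) _ _ l1 (lr a₃ h₃) ?_
      have t1 : (m ≫ G'.map h₃) ≫ G'.map (ν.map π₁) = m ≫ G'.map h₀ := by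
        rw [Category.assoc, ← G'.toFunctor.map_comp, e₁]
      have t2 : (G.map h₃ ≫ g a₃) ≫ G'.map (ν.map π₁) = G.map h₀ ≫ g a₀ := by
        rw [Category.assoc, ← nγ π₁, ← Category.assoc, ← G.toFunctor.map_comp, e₁]
      rw [t1, t2]
      exact hm2
    subst e₂
    rw [G'.toFunctor.map_comp, G.toFunctor.map_comp, ← Category.assoc, hA]
    simp only [Category.assoc]
    rw [nγ π₂]
  choose mp hmp1 hmp2 using key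
  have hnat : ∀ {b b' : ℬ.obj} (k : b ⟶ b'), G.map k ≫ mp b' = mp b ≫ G'.map k := by
    intro b b' k
    obtain ⟨a, ⟨h⟩⟩ := hi b'
    have l1 : 𝒮.p.IsHomLift (ℬ.p.map k) (G.map k ≫ mp b') :=
      hl_comp_id_right 𝒮.p (ℬ.p.map k) (G.map k) (mp b') (lG k) (hmp1 b')
    have l2 : 𝒮.p.IsHomLift (ℬ.p.map k) (mp b ≫ G'.map k) :=
      hl_comp_id_left 𝒮.p (ℬ.p.map k) (mp b) (G'.map k) (hmp1 b) (lG' k)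
    refine ext_of_comp' h𝒮 (ℬ.p.map k) (G'.map h) _ _ l1 l2 ?_
    have t1 : (G.map k ≫ mp b') ≫ G'.map h = G.map (k ≫ h) ≫ g a := by
      rw [Category.assoc, hmp2 b' a h, ← Category.assoc, ← G.toFunctor.map_comp]
    have t2 : (mp b ≫ G'.map k) ≫ G'.map h = G.map (k ≫ h) ≫ g a := by
      rw [Category.assoc, ← G'.toFunctor.map_comp, hmp2 b a (k ≫ h)]
    rw [t1, t2]
  let α : G ⟶ G' :=
    { toNatTrans :=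
        { app := mp
          naturality := fun b b' k => hnat k }
      isHomLift' := hmp1 }
  refine ⟨α, ?_⟩
  apply BasedNatTrans.homCategory.ext
  ext a
  have h := hmp2 (ν.obj a) a (𝟙 (ν.obj a))
  rw [G'.toFunctor.map_id, G.toFunctor.map_id, Category.comp_id, Category.id_comp] at h
  exact h.trans (hg a)⟩

theorem restr_essSurj (h𝒮 : FibCat.IsFibGrpd 𝒮.p) (hi : HasDom ν) (hwp : HasWP ν) :
    (Stk.restr ν 𝒮).EssSurj := ⟨by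
  intro H
  have hK' : ∀ b : ℬ.obj, ∃ K : Cone ν H b, True := fun b =>
    ⟨(exists_cone h𝒮 hi hwp H b).some, trivial⟩
  choose K _hK using hK'
  have hmall : ∀ (b b' : ℬ.obj) (k : b ⟶ b'), ∃ κ : (K b).pt ⟶ (K b').pt,
      (𝒮.p.IsHomLift (ℬ.p.map k) κ ∧
        ∀ (a : 𝒜.obj) (h : b' ⟶ ν.obj a), κ ≫ (K b').χ a h = (K b).χ a (k ≫ h)) ∧
      ∀ κ' : (K b).pt ⟶ (K b').pt, (𝒮.p.IsHomLift (ℬ.p.map k) κ' ∧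
        ∀ (a : 𝒜.obj) (h : b' ⟶ ν.obj a), κ' ≫ (K b').χ a h = (K b).χ a (k ≫ h)) →
        κ' = κ := by
    intro b b' k
    obtain ⟨κ, h1, h2⟩ := Cone.existsUnique h𝒮 hi hwp (K b) (K b') k
    exact ⟨κ, h1, h2⟩
  choose mp hmp hmpu using hmall
  have hid : ∀ b : ℬ.obj, mp b b (𝟙 b) = 𝟙 (K b).pt := by
    intro b
    symm
    apply hmpu
    refine ⟨?_, fun a h => ?_⟩
    · have h1 : 𝒮.p.IsHomLift (𝟙 (ℬ.p.obj b)) (𝟙 (K b).pt) := IsHomLift.id (K b).pt_eq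
      exact hl_eq 𝒮.p (ℬ.p.map_id b).symm _ h1
    · rw [Category.id_comp, Category.id_comp]
  have hcomp : ∀ {b b' b'' : ℬ.obj} (k : b ⟶ b') (k' : b' ⟶ b''),
      mp b b'' (k ≫ k') = mp b b' k ≫ mp b' b'' k' := by
    intro b b' b'' k k'
    symm
    apply hmpu
    refine ⟨?_, fun a h => ?_⟩
    · have h1 := hl_comp 𝒮.p _ _ _ _ (hmp b b' k).1 (hmp b' b'' k').1
      exact hl_eq 𝒮.p (ℬ.p.map_comp k k').symm _ h1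
    · rw [Category.assoc, (hmp b' b'' k').2, (hmp b b' k).2, Category.assoc]
  let G₀ : ℬ.obj ⥤ 𝒮.obj :=
    { obj := fun b => (K b).pt
      map := fun {b b'} k => mp b b' k
      map_id := hid
      map_comp := fun k k' => hcomp k k' }
  have hG₀ : G₀ ⋙ 𝒮.p = ℬ.p := by
    refine CategoryTheory.Functor.ext (fun b => (K b).pt_eq) ?_
    intro b b' k
    have i1 := (hmp b b' k).1
    exact IsHomLift.fac' 𝒮.p (ℬ.p.map k) (mp b b' k)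
  let G : ℬ ⥤ᵇ 𝒮 := { toFunctor := G₀, w := hG₀ }
  let θ : (Stk.restr ν 𝒮).obj G ⟶ H :=
    { toNatTrans :=
        { app := fun a => (K (ν.obj a)).χ a (𝟙 (ν.obj a))
          naturality := fun a a' m => by
            change mp (ν.obj a) (ν.obj a') (ν.map m) ≫ (K (ν.obj a')).χ a' (𝟙 (ν.obj a')) =
              (K (ν.obj a)).χ a (𝟙 (ν.obj a)) ≫ H.map m
            rw [(hmp _ _ (ν.map m)).2, (K (ν.obj a)).comp (𝟙 (ν.obj a)) m, Category.comp_id,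
              Category.id_comp] }
      isHomLift' := fun a =>
        hl_id_of_eqToHom 𝒮.p _ (bm ν (𝟙 (ν.obj a))) (ν.w_obj a) (bm_id ν a)
          ((K (ν.obj a)).lift a (𝟙 (ν.obj a))) }
  have hI : IsIso θ := isIso_of_isFibGrpd h𝒮 θ
  exact ⟨G, ⟨@asIso _ _ _ _ θ hI⟩⟩⟩

/-- Restriction along `ν` is an equivalence on functors into a category fibred in groupoids. -/
theorem restr_isEquivalence (h𝒮 : FibCat.IsFibGrpd 𝒮.p) (hi : HasDom ν) (hwp : HasWP ν) :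
    (Stk.restr ν 𝒮).IsEquivalence :=
  { faithful := restr_faithful ν h𝒮 hi
    full := restr_full ν h𝒮 hi hwp
    essSurj := restr_essSurj ν h𝒮 hi hwp }

end Fin

end Groth.Agent.Helper2.StkLib.FinRestr
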