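import Mathlib
import Groth.Prelude.Def_AlgSt
import Groth.Prelude.Def_FibCat2
import Groth.Agent.Lib.Helper2.Stk.FinRestr

/-!
# The 2-fibre product `C ×_D 𝒮` along a functor `u : C ⥤ D` (helper2)

Fibredness in groupoids of the first projection, and the equivalence between functors over `C`
into `C ×_D 𝒮` and functors over `D` out of the pushed-forward category.
-/

set_option autoImplicit false
set_option synthInstance.maxHeartbeats 400000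
set_option maxHeartbeats 1000000
set_option linter.style.haveILetI false
set_option linter.unusedSectionVars false
set_option linter.unusedVariables false
set_option linter.unusedSimpArgs false
set_option linter.unnecessarySimpa false

open CategoryTheory CategoryTheory.Functor CategoryTheory.Limits

universe v₆ u₆ v₅ u₅ v₄ u₄ v₃ u₃ v₂ u₂ v₁ u₁ v u

namespace Groth.Agent.Helper2.StkLib.CatPb

open Groth.Agent.Helper2 Groth.Agent.Helper2.FibCatLib Groth.Agent.Helper2.StkLib.PushPull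
open Groth.Agent.Helper2.StkLib.SlicePost Groth.Agent.Helper2.StkLib.FinRestr

variable {C : Type u} [Category.{v} C] {D : Type u₂} [Category.{v₂} D] (u : C ⥤ D)

/-- A category over `C`, regarded over `D` through `u`. -/
abbrev lower (𝒜 : BasedCategory.{v₄, u₄} C) : BasedCategory.{v₄, u₄} D :=
  BasedCategory.ofFunctor (𝒜.p ⋙ u)

/-- A functor over `C`, regarded over `D`. -/
def lowerF {𝒜 : BasedCategory.{v₄, u₄} C} {ℬ : BasedCategory.{v₅, u₅} C} (ι : 𝒜 ⥤ᵇ ℬ) :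
    lower u 𝒜 ⥤ᵇ lower u ℬ where
  toFunctor := ι.toFunctor
  w := congrArg (fun F => F ⋙ u) ι.w

variable (𝒮 : BasedCategory.{v₃, u₃} D)

/-- The 2-fibre product `C ×_D 𝒮` over `C`. -/
abbrev pb := BasedCategory.ofFunctor (CategoricalPullback.π₁ u 𝒮.p)

theorem pb_h1 (h𝒮 : FibCat.IsFibGrpd 𝒮.p) (x : CategoricalPullback u 𝒮.p) {V : C}
    (f : V ⟶ x.fst) :
    ∃ (y : CategoricalPullback u 𝒮.p) (φ : y ⟶ x) (e : y.fst = V), φ.fst = eqToHom e ≫ f := by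
  obtain ⟨s', γ, e, hγ⟩ := IsFibGrpd.exists_lift' 𝒮.p h𝒮 x.snd (u.map f ≫ x.iso.hom)
  have hw : u.map f ≫ x.iso.hom = (eqToIso e.symm).hom ≫ 𝒮.p.map γ := by
    rw [hγ]; simp
  let y : CategoricalPullback u 𝒮.p := ⟨V, s', eqToIso e.symm⟩
  let φ : y ⟶ x := ⟨f, γ, hw⟩
  exact ⟨y, φ, rfl, (Category.id_comp f).symm⟩

theorem pb_h2 (h𝒮 : FibCat.IsFibGrpd 𝒮.p) {y x z : CategoricalPullback u 𝒮.p} (φ : y ⟶ x)
    (ψ : z ⟶ x) (g : z.fst ⟶ y.fst) (hg : g ≫ φ.fst = ψ.fst) :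
    ∃! χ : z ⟶ y, χ.fst = g ∧ χ ≫ φ = ψ := by
  have hg₂ : (z.iso.inv ≫ u.map g ≫ y.iso.hom) ≫ 𝒮.p.map φ.snd = 𝒮.p.map ψ.snd := by
    have h1 := φ.w
    have h2 := ψ.w
    rw [Category.assoc, Category.assoc, ← h1, ← Category.assoc (u.map g), ← u.map_comp, hg, h2,
      Iso.inv_hom_id_assoc]
  obtain ⟨χ₂, ⟨hχ1, hχ2⟩, hχu⟩ := IsFibGrpd.existsUnique_lift 𝒮.p h𝒮 φ.snd ψ.snd
    (z.iso.inv ≫ u.map g ≫ y.iso.hom) hg₂
  have hχw : u.map g ≫ y.iso.hom = z.iso.hom ≫ 𝒮.p.map χ₂ := by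
    rw [hχ1, Iso.hom_inv_id_assoc]
  refine ⟨⟨g, χ₂, hχw⟩, ⟨rfl, ?_⟩, ?_⟩
  · exact CategoricalPullback.hom_ext hg hχ2
  · rintro χ' ⟨h1, h2⟩
    have hs : 𝒮.p.map χ'.snd = z.iso.inv ≫ u.map g ≫ y.iso.hom := by
      have w := χ'.w
      rw [h1] at w
      rw [w, Iso.inv_hom_id_assoc]
    have hc : χ'.snd ≫ φ.snd = ψ.snd := congrArg (fun t : z ⟶ x => t.snd) h2
    exact CategoricalPullback.hom_ext h1 (hχu χ'.snd ⟨hs, hc⟩)

/-- The first projection of `C ×_D 𝒮` is fibred in groupoids when `𝒮` is. -/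
theorem isFibGrpd_π₁ (h𝒮 : FibCat.IsFibGrpd 𝒮.p) :
    FibCat.IsFibGrpd (CategoricalPullback.π₁ u 𝒮.p) := by
  apply IsFibGrpd.mk'
  · intro x V f
    exact pb_h1 u 𝒮 h𝒮 x f
  · intro y x z φ ψ g hg
    exact pb_h2 u 𝒮 h𝒮 φ ψ g hg

section Psi

variable {𝒜 : BasedCategory.{v₄, u₄} C}

theorem lower_w_obj (H : lower u 𝒜 ⥤ᵇ 𝒮) (a : 𝒜.obj) :
    𝒮.p.obj (H.obj a) = u.obj (𝒜.p.obj a) := H.w_obj a

theorem psi_w (H : lower u 𝒜 ⥤ᵇ 𝒮) {a a' : 𝒜.obj} (m : a ⟶ a') :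
    u.map (𝒜.p.map m) ≫ (eqToIso (lower_w_obj u 𝒮 H a').symm).hom =
      (eqToIso (lower_w_obj u 𝒮 H a).symm).hom ≫ 𝒮.p.map (H.map m) := by
  have e : 𝒮.p.map (H.map m) = eqToHom (lower_w_obj u 𝒮 H a) ≫ u.map (𝒜.p.map m) ≫
      eqToHom (lower_w_obj u 𝒮 H a').symm :=
    CategoryTheory.Functor.congr_hom H.w m
  rw [e]; simp

/-- The object `(p a, H a, =)` of `C ×_D 𝒮`. -/
def psiPt (H : lower u 𝒜 ⥤ᵇ 𝒮) (a : 𝒜.obj) : CategoricalPullback u 𝒮.p :=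
  ⟨𝒜.p.obj a, H.obj a, eqToIso (lower_w_obj u 𝒮 H a).symm⟩

/-- The morphism `(p m, H m)` of `C ×_D 𝒮`. -/
def psiHom (H : lower u 𝒜 ⥤ᵇ 𝒮) {a a' : 𝒜.obj} (m : a ⟶ a') :
    psiPt u 𝒮 H a ⟶ psiPt u 𝒮 H a' :=
  ⟨𝒜.p.map m, H.map m, psi_w u 𝒮 H m⟩

/-- `Ψ` on objects. -/
def psiObj (H : lower u 𝒜 ⥤ᵇ 𝒮) : 𝒜 ⥤ᵇ pb u 𝒮 where
  toFunctor :=
    { obj := fun a => psiPt u 𝒮 H a
      map := fun {a a'} m => psiHom u 𝒮 H m
      map_id := fun a => by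
        apply CategoricalPullback.hom_ext
        · exact 𝒜.p.map_id a
        · exact H.toFunctor.map_id a
      map_comp := fun {a a' a''} m m' => by
        apply CategoricalPullback.hom_ext
        · exact 𝒜.p.map_comp m m'
        · exact H.toFunctor.map_comp m m' }
  w := rfl

theorem psiMap_w {H H' : lower u 𝒜 ⥤ᵇ 𝒮} (θ : H ⟶ H') (a : 𝒜.obj) :
    u.map (𝟙 (𝒜.p.obj a)) ≫ eqToHom (lower_w_obj u 𝒮 H' a).symm =
      eqToHom (lower_w_obj u 𝒮 H a).symm ≫ 𝒮.p.map (θ.toNatTrans.app a) := by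
  have e : 𝒮.p.map (θ.toNatTrans.app a) =
      eqToHom ((lower_w_obj u 𝒮 H a).trans (lower_w_obj u 𝒮 H' a).symm) :=
    hl_map_eq_of_id 𝒮.p _ (θ.isHomLift' a) (lower_w_obj u 𝒮 H a) (lower_w_obj u 𝒮 H' a)
  rw [e]
  simp

/-- `Ψ` on morphisms. -/
def psiMap {H H' : lower u 𝒜 ⥤ᵇ 𝒮} (θ : H ⟶ H') : psiObj u 𝒮 H ⟶ psiObj u 𝒮 H' where
  toNatTrans :=
    { app := fun a => (⟨𝟙 (𝒜.p.obj a), θ.toNatTrans.app a, psiMap_w u 𝒮 θ a⟩ :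
        psiPt u 𝒮 H a ⟶ psiPt u 𝒮 H' a)
      naturality := fun a a' m => by
        apply CategoricalPullback.hom_ext
        · change 𝒜.p.map m ≫ 𝟙 _ = 𝟙 _ ≫ 𝒜.p.map m
          rw [Category.comp_id, Category.id_comp]
        · exact θ.toNatTrans.naturality m }
  isHomLift' := fun a =>
    hl_id_of_map_eq (CategoricalPullback.π₁ u 𝒮.p) _ rfl rfl (eqToHom_refl _ _).symm

variable (𝒜)

/-- The functor `Ψ` from functors `u_! 𝒜 ⟶ 𝒮` over `D` to functors `𝒜 ⟶ C ×_D 𝒮` over `C`. -/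
def psi : (lower u 𝒜 ⥤ᵇ 𝒮) ⥤ (𝒜 ⥤ᵇ pb u 𝒮) where
  obj := fun H => psiObj u 𝒮 H
  map := fun θ => psiMap u 𝒮 θ
  map_id := fun H => by
    apply BasedNatTrans.homCategory.ext
    ext a
    apply CategoricalPullback.hom_ext
    · rfl
    · rfl
  map_comp := fun θ θ' => by
    apply BasedNatTrans.homCategory.ext
    ext a
    apply CategoricalPullback.hom_ext
    · change 𝟙 (𝒜.p.obj a) = 𝟙 (𝒜.p.obj a) ≫ 𝟙 (𝒜.p.obj a)
      rw [Category.id_comp]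
    · rfl

theorem psi_faithful : (psi u 𝒮 𝒜).Faithful := ⟨by
  intro H H' θ θ' heq
  apply BasedNatTrans.homCategory.ext
  ext a
  exact congrArg (fun t : psiObj u 𝒮 H ⟶ psiObj u 𝒮 H' =>
    CategoricalPullback.Hom.snd (t.toNatTrans.app a)) heq⟩

variable {𝒜}

theorem map_eq_of_w {X : C} {s s' : 𝒮.obj} (hs : 𝒮.p.obj s = u.obj X)
    (hs' : 𝒮.p.obj s' = u.obj X) (k : s ⟶ s') (f : X ⟶ X) (hf : f = 𝟙 X)
    (w : u.map f ≫ eqToHom hs'.symm = eqToHom hs.symm ≫ 𝒮.p.map k) :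
    𝒮.p.map k = eqToHom (hs.trans hs'.symm) := by
  subst hf
  have h1 : 𝒮.p.map k = eqToHom hs ≫ (eqToHom hs.symm ≫ 𝒮.p.map k) := by simp
  rw [h1, ← w]
  simp

theorem psi_full_aux {H H' : lower u 𝒜 ⥤ᵇ 𝒮} (a : 𝒜.obj)
    (t : psiPt u 𝒮 H a ⟶ psiPt u 𝒮 H' a)
    (ht : (CategoricalPullback.π₁ u 𝒮.p).IsHomLift (𝟙 (𝒜.p.obj a)) t) :
    t.fst = 𝟙 (𝒜.p.obj a) ∧ 𝒮.p.IsHomLift (𝟙 (u.obj (𝒜.p.obj a))) t.snd := by
  have hf : t.fst = 𝟙 (𝒜.p.obj a) :=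
    (hl_map_eq_of_id (CategoricalPullback.π₁ u 𝒮.p) t ht rfl rfl).trans (eqToHom_refl _ _)
  refine ⟨hf, ?_⟩
  have e : 𝒮.p.map t.snd =
      eqToHom ((lower_w_obj u 𝒮 H a).trans (lower_w_obj u 𝒮 H' a).symm) :=
    map_eq_of_w u 𝒮 (lower_w_obj u 𝒮 H a) (lower_w_obj u 𝒮 H' a) t.snd t.fst hf t.w
  exact hl_id_of_map_eq 𝒮.p t.snd (lower_w_obj u 𝒮 H a) (lower_w_obj u 𝒮 H' a) e

variable (𝒜)

theorem psi_full : (psi u 𝒮 𝒜).Full := ⟨by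
  intro H H' τ
  let θ : H ⟶ H' :=
    { toNatTrans :=
        { app := fun a => CategoricalPullback.Hom.snd (τ.toNatTrans.app a)
          naturality := fun a a' m =>
            congrArg (fun t : psiPt u 𝒮 H a ⟶ psiPt u 𝒮 H' a' => t.snd)
              (τ.toNatTrans.naturality m) }
      isHomLift' := fun a =>
        (psi_full_aux u 𝒮 a (τ.toNatTrans.app a) (τ.isHomLift' a)).2 }
  refine ⟨θ, ?_⟩
  apply BasedNatTrans.homCategory.ext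
  ext a
  apply CategoricalPullback.hom_ext
  · exact (psi_full_aux u 𝒮 a (τ.toNatTrans.app a) (τ.isHomLift' a)).1.symm
  · rfl⟩

variable {𝒜}

theorem essLam_nat {X X' Y Y' : C} (hX : Y = X) (hX' : Y' = X') (f : X ⟶ X') (g : Y ⟶ Y')
    (hg : g = eqToHom hX ≫ f ≫ eqToHom hX'.symm) {Z Z' : D} (i : u.obj Y ⟶ Z)
    (i' : u.obj Y' ⟶ Z') (k : Z ⟶ Z') (w : u.map g ≫ i' = i ≫ k) :
    u.map f ≫ eqToHom (congrArg u.obj hX'.symm) ≫ i' =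
      (eqToHom (congrArg u.obj hX.symm) ≫ i) ≫ k := by
  subst hX
  subst hX'
  have hg' : g = f := by rw [hg]; simp
  subst hg'
  simp only [eqToHom_refl, Category.id_comp]
  exact w

/-- The comparison used to strictify a functor into `C ×_D 𝒮`. -/
def essLam (E₀ : 𝒜.obj ⥤ CategoricalPullback u 𝒮.p)
    (hw : E₀ ⋙ CategoricalPullback.π₁ u 𝒮.p = 𝒜.p) :
    𝒜.p ⋙ u ⟶ (E₀ ⋙ CategoricalPullback.π₂ u 𝒮.p) ⋙ 𝒮.p where
  app := fun a => eqToHom (congrArg u.obj (CategoryTheory.Functor.congr_obj hw a).symm) ≫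
    (E₀.obj a).iso.hom
  naturality := fun a a' m =>
    essLam_nat u (CategoryTheory.Functor.congr_obj hw a) (CategoryTheory.Functor.congr_obj hw a')
      (𝒜.p.map m) (E₀.map m).fst (CategoryTheory.Functor.congr_hom hw m) (E₀.obj a).iso.hom
      (E₀.obj a').iso.hom (𝒮.p.map (E₀.map m).snd) (E₀.map m).w

theorem essLam_w {s t : 𝒮.obj} (φ : s ⟶ t) {X Y : C} (hXY : Y = X) (i : u.obj Y ⟶ 𝒮.p.obj t)
    (hl : 𝒮.p.IsHomLift (eqToHom (congrArg u.obj hXY.symm) ≫ i) φ)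
    (hs : 𝒮.p.obj s = u.obj X) :
    u.map (eqToHom hXY.symm) ≫ i = eqToHom hs.symm ≫ 𝒮.p.map φ := by
  subst hXY
  have i1 := hl
  rw [IsHomLift.fac' 𝒮.p (eqToHom (congrArg u.obj (Eq.refl Y).symm) ≫ i) φ]
  simp

theorem psi_essSurj_aux (h𝒮 : FibCat.IsFibGrpd 𝒮.p)
    (E₀ : 𝒜.obj ⥤ CategoricalPullback u 𝒮.p)
    (hw : E₀ ⋙ CategoricalPullback.π₁ u 𝒮.p = 𝒜.p) :
    ∃ (H : lower u 𝒜 ⥤ᵇ 𝒮) (τ : (psiObj u 𝒮 H).toFunctor ⟶ E₀),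
      ∀ a : 𝒜.obj, (τ.app a).fst = eqToHom (CategoryTheory.Functor.congr_obj hw a).symm := by
  obtain ⟨G₁, h₁, c, hc⟩ := exists_isoLift 𝒮.p h𝒮 (E₀ ⋙ CategoricalPullback.π₂ u 𝒮.p)
    (𝒜.p ⋙ u) (essLam u 𝒮 E₀ hw)
  let H : lower u 𝒜 ⥤ᵇ 𝒮 := { toFunctor := G₁, w := h₁ }
  have e1 : ∀ a : 𝒜.obj, (E₀.obj a).fst = 𝒜.p.obj a := fun a =>
    CategoryTheory.Functor.congr_obj hw a
  have e2 : ∀ {a a' : 𝒜.obj} (m : a ⟶ a'), (E₀.map m).fst =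
      eqToHom (e1 a) ≫ 𝒜.p.map m ≫ eqToHom (e1 a').symm :=
    fun m => CategoryTheory.Functor.congr_hom hw m
  have hwc : ∀ a : 𝒜.obj, u.map (eqToHom (e1 a).symm) ≫ (E₀.obj a).iso.hom =
      (psiPt u 𝒮 H a).iso.hom ≫ 𝒮.p.map (c.app a) := fun a =>
    essLam_w u 𝒮 (c.app a) (e1 a) (E₀.obj a).iso.hom (hc a) (lower_w_obj u 𝒮 H a)
  let τ : (psiObj u 𝒮 H).toFunctor ⟶ E₀ :=
    { app := fun a => (⟨eqToHom (e1 a).symm, c.app a, hwc a⟩ : psiPt u 𝒮 H a ⟶ E₀.obj a)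
      naturality := fun a a' m => by
        apply CategoricalPullback.hom_ext
        · change 𝒜.p.map m ≫ eqToHom (e1 a').symm = eqToHom (e1 a).symm ≫ (E₀.map m).fst
          rw [e2 m]; simp
        · exact c.naturality m }
  exact ⟨H, τ, fun a => rfl⟩

variable (𝒜)

theorem psi_essSurj (h𝒮 : FibCat.IsFibGrpd 𝒮.p) : (psi u 𝒮 𝒜).EssSurj := ⟨by
  intro E
  obtain ⟨H, τ, hτ⟩ := psi_essSurj_aux u 𝒮 h𝒮 E.toFunctor E.w
  let τb : psiObj u 𝒮 H ⟶ E :=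
    { toNatTrans := τ
      isHomLift' := fun a =>
        hl_id_of_map_eq (CategoricalPullback.π₁ u 𝒮.p) (τ.app a) rfl (E.w_obj a) (hτ a) }
  have hfib : FibCat.IsFibGrpd (pb u 𝒮).p := isFibGrpd_π₁ u 𝒮 h𝒮
  have hI : IsIso τb := isIso_of_isFibGrpd hfib τb
  exact ⟨H, ⟨@asIso _ _ _ _ τb hI⟩⟩⟩

/-- `Ψ` is an equivalence of categories. -/
theorem psi_isEquivalence (h𝒮 : FibCat.IsFibGrpd 𝒮.p) : (psi u 𝒮 𝒜).IsEquivalence :=
  { faithful := psi_faithful u 𝒮 𝒜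
    full := psi_full u 𝒮 𝒜
    essSurj := psi_essSurj u 𝒮 𝒜 h𝒮 }

end Psi

end Groth.Agent.Helper2.StkLib.CatPb
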