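import Mathlib
import Groth.Prelude.Def_AlgSt
import Groth.Prelude.Def_FibCat2
import Groth.Agent.Lib.Helper2.Stk.CatPb

/-!
# `C ×_D 𝒮` is a stack when `𝒮` is and `u : C ⥤ D` is cover-preserving (helper2)
-/

set_option autoImplicit false
set_option synthInstance.maxHeartbeats 400000
set_option maxHeartbeats 1000000
set_option linter.style.haveILetI false
set_option linter.unusedSectionVars false
set_option linter.unusedVariables false
set_option linter.unusedSimpArgs false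
set_option linter.unnecessarySimpa false

open CategoryTheory CategoryTheory.Functor CategoryTheory.Limits

universe v₆ u₆ v₅ u₅ v₄ u₄ v₃ u₃ v₂ u₂ v₁ u₁ v u

namespace Groth.Agent.Helper2.StkLib.CatPb

open Groth.Agent.Helper2 Groth.Agent.Helper2.FibCatLib Groth.Agent.Helper2.StkLib.PushPull
open Groth.Agent.Helper2.StkLib.SlicePost Groth.Agent.Helper2.StkLib.FinRestr

variable {C : Type u} [Category.{v} C] {D : Type u₂} [Category.{v₂} D] (u : C ⥤ D)

theorem pbfac [HasPullbacks C] [PreservesLimitsOfShape WalkingCospan u] {U V₁ V₂ : C}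
    (f₁ : V₁ ⟶ U) (f₂ : V₂ ⟶ U) {W : D} (g₁ : W ⟶ u.obj V₁) (g₂ : W ⟶ u.obj V₂)
    (hg : g₁ ≫ u.map f₁ = g₂ ≫ u.map f₂) :
    ∃ g₃ : W ⟶ u.obj (pullback f₁ f₂), g₃ ≫ u.map (pullback.fst f₁ f₂) = g₁ ∧
      g₃ ≫ u.map (pullback.snd f₁ f₂) = g₂ ∧
      ∀ g' : W ⟶ u.obj (pullback f₁ f₂), g' ≫ u.map (pullback.fst f₁ f₂) = g₁ →
        g' ≫ u.map (pullback.snd f₁ f₂) = g₂ → g' = g₃ := by
  have isPb : IsPullback (u.map (pullback.fst f₁ f₂)) (u.map (pullback.snd f₁ f₂)) (u.map f₁)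
      (u.map f₂) := (IsPullback.of_hasPullback f₁ f₂).map u
  refine ⟨isPb.lift g₁ g₂ hg, isPb.lift_fst _ _ _, isPb.lift_snd _ _ _, fun g' e1 e2 => ?_⟩
  apply isPb.hom_ext
  · rw [e1, isPb.lift_fst]
  · rw [e2, isPb.lift_snd]

theorem comp_lift_eq {W : D} {V₄ P V₁ : C} (g₄ : W ⟶ u.obj V₄) (l : V₄ ⟶ P) (p : P ⟶ V₁)
    (n : V₄ ⟶ V₁) (hl : l ≫ p = n) (g₁ : W ⟶ u.obj V₁) (hn : g₄ ≫ u.map n = g₁) :
    (g₄ ≫ u.map l) ≫ u.map p = g₁ := by
  rw [Category.assoc, ← u.map_comp, hl]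
  exact hn

variable {U : C}

/-- `u_!(C/U) ⟶ D/uU`. -/
def nuU (U : C) : lower u (FibCat.overCat U) ⥤ᵇ FibCat.overCat (u.obj U) where
  toFunctor := Over.post u
  w := rfl

/-- `u_!(R) ⟶ u_* R` for a sieve `R`. -/
def nuR (R : Sieve U) : lower u (Stk.sieveCat R) ⥤ᵇ Stk.sieveCat (R.functorPushforward u) where
  toFunctor :=
    { obj := fun a => ⟨(Over.post u).obj a.obj, Sieve.image_mem_functorPushforward u R a.property⟩
      map := fun {a a'} g => ObjectProperty.homMk ((Over.post u).map g.hom)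
      map_id := fun a => by
        apply ObjectProperty.hom_ext
        exact (Over.post u).map_id a.obj
      map_comp := fun {a a' a''} g g' => by
        apply ObjectProperty.hom_ext
        exact (Over.post u).map_comp g.hom g'.hom }
  w := rfl

theorem nu_square (R : Sieve U) :
    BasedFunctor.comp (lowerF u (Stk.sieveIncl R)) (nuU u U) =
      BasedFunctor.comp (nuR u R) (Stk.sieveIncl (R.functorPushforward u)) := rfl

theorem hasDom_nuU (U : C) : HasDom (nuU u U) := by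
  intro b
  refine ⟨Over.mk (𝟙 U), ⟨?_⟩⟩
  exact (Over.homMk b.hom (by
    change b.hom ≫ u.map (𝟙 U) = b.hom
    rw [u.map_id, Category.comp_id]) : b ⟶ (Over.post u).obj (Over.mk (𝟙 U)))

theorem hasDom_nuR (R : Sieve U) : HasDom (nuR u R) := by
  intro b
  obtain ⟨Z, g, h, hg, hf'⟩ := b.property
  refine ⟨⟨Over.mk g, hg⟩, ⟨?_⟩⟩
  exact ObjectProperty.homMk (Over.homMk h hf'.symm : b.obj ⟶ (Over.post u).obj (Over.mk g))

variable [HasPullbacks C] [PreservesLimitsOfShape WalkingCospan u]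

theorem hasWP_nuU (U : C) : HasWP (nuU u U) := by
  intro b a₁ a₂ h₁ h₂
  obtain ⟨g₃, e1, e2, uniq⟩ := pbfac u a₁.hom a₂.hom h₁.left h₂.left
    ((Over.w h₁).trans (Over.w h₂).symm)
  let a₃ : Over U := Over.mk (pullback.fst a₁.hom a₂.hom ≫ a₁.hom)
  let π₁ : a₃ ⟶ a₁ := Over.homMk (pullback.fst a₁.hom a₂.hom) rfl
  let π₂ : a₃ ⟶ a₂ := Over.homMk (pullback.snd a₁.hom a₂.hom) pullback.condition.symm
  have hw₃ : g₃ ≫ u.map (pullback.fst a₁.hom a₂.hom ≫ a₁.hom) = b.hom := by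
    rw [u.map_comp, ← Category.assoc, e1]
    exact Over.w h₁
  let h₃ : b ⟶ (Over.post u).obj a₃ := Over.homMk g₃ hw₃
  refine ⟨a₃, h₃, π₁, π₂, ?_, ?_, ?_⟩
  · apply Over.OverMorphism.ext
    exact e1
  · apply Over.OverMorphism.ext
    exact e2
  · intro a₄ h₄ n₁ n₂ hn₁ hn₂
    have hl : n₁.left ≫ a₁.hom = n₂.left ≫ a₂.hom := (Over.w n₁).trans (Over.w n₂).symm
    have ht : pullback.lift n₁.left n₂.left hl ≫ a₃.hom = a₄.hom := by
      change pullback.lift n₁.left n₂.left hl ≫ pullback.fst a₁.hom a₂.hom ≫ a₁.hom = a₄.hom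
      rw [← Category.assoc, pullback.lift_fst]
      exact Over.w n₁
    let t : a₄ ⟶ a₃ := Over.homMk (pullback.lift n₁.left n₂.left hl) ht
    refine ⟨t, ?_, ?_, ?_⟩
    · apply Over.OverMorphism.ext
      exact pullback.lift_fst _ _ _
    · apply Over.OverMorphism.ext
      exact pullback.lift_snd _ _ _
    · apply Over.OverMorphism.ext
      change h₄.left ≫ u.map (pullback.lift n₁.left n₂.left hl) = g₃
      apply uniq
      · exact comp_lift_eq u _ _ _ _ (pullback.lift_fst _ _ _) _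
          (congrArg (fun t : b ⟶ (Over.post u).obj a₁ => t.left) hn₁)
      · exact comp_lift_eq u _ _ _ _ (pullback.lift_snd _ _ _) _
          (congrArg (fun t : b ⟶ (Over.post u).obj a₂ => t.left) hn₂)

theorem hasWP_nuR (R : Sieve U) : HasWP (nuR u R) := by
  intro b a₁ a₂ h₁ h₂
  obtain ⟨g₃, e1, e2, uniq⟩ := pbfac u a₁.obj.hom a₂.obj.hom h₁.hom.left h₂.hom.left
    ((Over.w h₁.hom).trans (Over.w h₂.hom).symm)
  let a₃ : (Stk.sieveCat R).obj := ⟨Over.mk (pullback.fst a₁.obj.hom a₂.obj.hom ≫ a₁.obj.hom),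
    R.downward_closed a₁.property _⟩
  let π₁ : a₃ ⟶ a₁ := sieveHom R (pullback.fst a₁.obj.hom a₂.obj.hom) rfl
  let π₂ : a₃ ⟶ a₂ := sieveHom R (pullback.snd a₁.obj.hom a₂.obj.hom) pullback.condition.symm
  have hw₃ : g₃ ≫ u.map (pullback.fst a₁.obj.hom a₂.obj.hom ≫ a₁.obj.hom) = b.obj.hom := by
    rw [u.map_comp, ← Category.assoc, e1]
    exact Over.w h₁.hom
  let h₃ : b ⟶ (nuR u R).obj a₃ :=
    ObjectProperty.homMk (Over.homMk g₃ hw₃ : b.obj ⟶ (Over.post u).obj a₃.obj)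
  refine ⟨a₃, h₃, π₁, π₂, ?_, ?_, ?_⟩
  · exact sieveCat_hom_ext _ _ e1
  · exact sieveCat_hom_ext _ _ e2
  · intro a₄ h₄ n₁ n₂ hn₁ hn₂
    have hl : n₁.hom.left ≫ a₁.obj.hom = n₂.hom.left ≫ a₂.obj.hom :=
      (Over.w n₁.hom).trans (Over.w n₂.hom).symm
    have ht : pullback.lift n₁.hom.left n₂.hom.left hl ≫ a₃.obj.hom = a₄.obj.hom := by
      change pullback.lift n₁.hom.left n₂.hom.left hl ≫
        pullback.fst a₁.obj.hom a₂.obj.hom ≫ a₁.obj.hom = a₄.obj.hom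
      rw [← Category.assoc, pullback.lift_fst]
      exact Over.w n₁.hom
    let t : a₄ ⟶ a₃ := sieveHom R (pullback.lift n₁.hom.left n₂.hom.left hl) ht
    refine ⟨t, ?_, ?_, ?_⟩
    · exact sieveCat_hom_ext _ _ (pullback.lift_fst _ _ _)
    · exact sieveCat_hom_ext _ _ (pullback.lift_snd _ _ _)
    · apply sieveCat_hom_ext
      change h₄.hom.left ≫ u.map (pullback.lift n₁.hom.left n₂.hom.left hl) = g₃
      apply uniq
      · exact comp_lift_eq u _ _ _ _ (pullback.lift_fst _ _ _) _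
          (congrArg (fun t : b ⟶ (nuR u R).obj a₁ => t.hom.left) hn₁)
      · exact comp_lift_eq u _ _ _ _ (pullback.lift_snd _ _ _) _
          (congrArg (fun t : b ⟶ (nuR u R).obj a₂ => t.hom.left) hn₂)

/-- The 2-fibre product `C ×_D 𝒮` along a cover-preserving, pullback-preserving functor is a
stack in groupoids when `𝒮` is. -/
theorem main (J : GrothendieckTopology C) (K : GrothendieckTopology D)
    (hu : CoverPreserving J K u) (𝒮 : BasedCategory.{v₃, u₃} D) (h𝒮 : Stk.IsStack K 𝒮) :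
    Stk.IsStack J (BasedCategory.ofFunctor (CategoricalPullback.π₁ u 𝒮.p)) := by
  refine ⟨isFibGrpd_π₁ u 𝒮 h𝒮.1, fun U R hR => ?_⟩
  have hR' : R.functorPushforward u ∈ K (u.obj U) := hu.cover_preserve hR
  have hσ : (Stk.restr (Stk.sieveIncl (R.functorPushforward u)) 𝒮).IsEquivalence :=
    h𝒮.2 _ hR'
  have hβ₁ : (Stk.restr (nuU u U) 𝒮).IsEquivalence :=
    restr_isEquivalence (nuU u U) h𝒮.1 (hasDom_nuU u U) (hasWP_nuU u U)
  have hβ₂ : (Stk.restr (nuR u R) 𝒮).IsEquivalence :=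
    restr_isEquivalence (nuR u R) h𝒮.1 (hasDom_nuR u R) (hasWP_nuR u R)
  have hρ : (Stk.restr (lowerF u (Stk.sieveIncl R)) 𝒮).IsEquivalence := by
    have h0 : (Stk.restr (Stk.sieveIncl (R.functorPushforward u)) 𝒮 ⋙
        Stk.restr (nuR u R) 𝒮).IsEquivalence := inferInstance
    have hcomp : (Stk.restr (nuU u U) 𝒮 ⋙
        Stk.restr (lowerF u (Stk.sieveIncl R)) 𝒮).IsEquivalence := h0
    exact Functor.isEquivalence_of_comp_left (Stk.restr (nuU u U) 𝒮) _
  have hΨ₁ : (psi u 𝒮 (FibCat.overCat U)).IsEquivalence := psi_isEquivalence u 𝒮 _ h𝒮.1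
  have hΨ₂ : (psi u 𝒮 (Stk.sieveCat R)).IsEquivalence := psi_isEquivalence u 𝒮 _ h𝒮.1
  have h1 : (Stk.restr (lowerF u (Stk.sieveIncl R)) 𝒮 ⋙
      psi u 𝒮 (Stk.sieveCat R)).IsEquivalence := inferInstance
  have h2 : (psi u 𝒮 (FibCat.overCat U) ⋙
      Stk.restr (Stk.sieveIncl R) (pb u 𝒮)).IsEquivalence := h1
  exact Functor.isEquivalence_of_comp_left (psi u 𝒮 (FibCat.overCat U)) _

end Groth.Agent.Helper2.StkLib.CatPb
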