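import Mathlib
import Groth.Prelude.Def_AlgSt
import Groth.Prelude.Def_FibCat2
import Groth.Agent.Lib.Helper2.Stk.SlicePost

/-!
# Transitivity of stacks, converse direction (helper2)

If `𝒳` is a stack in groupoids over `C`, `𝒴` is fibred in groupoids over `𝒳` and the composite
`𝒴 ⟶ 𝒳 ⟶ C` is a stack in groupoids over `C`, then `𝒴` is a stack in groupoids over `𝒳` for the
inherited topology.
-/

set_option autoImplicit false
set_option synthInstance.maxHeartbeats 400000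
set_option maxHeartbeats 1000000
set_option linter.style.haveILetI false
set_option linter.unusedSectionVars false
set_option linter.unusedVariables false
set_option linter.unusedSimpArgs false
set_option linter.unnecessarySimpa false

open CategoryTheory CategoryTheory.Functor

universe v₆ u₆ v₅ u₅ v₄ u₄ v₃ u₃ v₂ u₂ v₁ u₁ v u

namespace Groth.Agent.Helper2.StkLib.Trans2

open Groth.Agent.Helper2 Groth.Agent.Helper2.FibCatLib Groth.Agent.Helper2.StkLib.PushPull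
open Groth.Agent.Helper2.StkLib.SlicePost

section Plain

variable {𝒜 : Type u₁} [Category.{v₁} 𝒜] {ℬ : Type u₂} [Category.{v₂} ℬ]

theorem isHomLift_id_of_map_eq (p : 𝒜 ⥤ ℬ) {a b : 𝒜} (φ : a ⟶ b) {S : ℬ} (ha : p.obj a = S)
    (hb : p.obj b = S) (h : p.map φ = eqToHom (ha.trans hb.symm)) : p.IsHomLift (𝟙 S) φ := by
  apply IsHomLift.of_fac' p (𝟙 S) φ ha hb
  rw [h]; simp

theorem map_eq_of_isHomLift_id (p : 𝒜 ⥤ ℬ) {a b : 𝒜} (φ : a ⟶ b) {S : ℬ}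
    (h : p.IsHomLift (𝟙 S) φ) (ha : p.obj a = S) (hb : p.obj b = S) :
    p.map φ = eqToHom (ha.trans hb.symm) := by
  rw [IsHomLift.fac' p (𝟙 S) φ]; simp

theorem isHomLift_id_of_eqToHom' (p : 𝒜 ⥤ ℬ) {a b : 𝒜} (φ : a ⟶ b) {R R' S : ℬ} (g : R ⟶ R')
    (h : R = R') (hg : g = eqToHom h) (H : p.IsHomLift g φ) (hS : R = S) :
    p.IsHomLift (𝟙 S) φ := by
  subst hS
  subst h
  subst hg
  exact H

theorem isHomLift_comp' (p : 𝒜 ⥤ ℬ) {R S T : ℬ} {a b c : 𝒜} (f : R ⟶ S) (g : S ⟶ T)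
    (φ : a ⟶ b) (ψ : b ⟶ c) (h1 : p.IsHomLift f φ) (h2 : p.IsHomLift g ψ) :
    p.IsHomLift (f ≫ g) (φ ≫ ψ) := inferInstance

end Plain

section Q

variable {C : Type u} [Category.{v} C] {𝒳 : BasedCategory.{v₁, u₁} C}
  {𝒴 : BasedCategory.{v₂, u₂} 𝒳.obj} {𝒜 : BasedCategory.{v₃, u₃} 𝒳.obj}
  {ℬ : BasedCategory.{v₄, u₄} 𝒳.obj} (ι : ℬ ⥤ᵇ 𝒜)

theorem Q_faithful (hZfa : (Stk.restr (pushF ι) (push 𝒴)).Faithful) :
    (Stk.restr ι 𝒴).Faithful := ⟨by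
  intro Φ Φ' μ μ' heq
  have h : pushN μ = pushN μ' := by
    apply hZfa.map_injective
    apply BasedNatTrans.homCategory.ext
    ext b
    exact congrArg (fun t : (Stk.restr ι 𝒴).obj Φ ⟶ (Stk.restr ι 𝒴).obj Φ' =>
      t.toNatTrans.app b) heq
  apply BasedNatTrans.homCategory.ext
  exact congrArg (fun t : pushF Φ ⟶ pushF Φ' => t.toNatTrans) h⟩

theorem Q_full (hZfu : (Stk.restr (pushF ι) (push 𝒴)).Full)
    (hXfa : (Stk.restr (pushF ι) 𝒳).Faithful) : (Stk.restr ι 𝒴).Full := ⟨by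
  intro Φ Φ' ν
  let ν' : (Stk.restr (pushF ι) (push 𝒴)).obj (pushF Φ) ⟶
      (Stk.restr (pushF ι) (push 𝒴)).obj (pushF Φ') :=
    { toNatTrans := ν.toNatTrans
      isHomLift' := fun b => isHomLift_comp_id 𝒴.p 𝒳.p _ (ν.isHomLift' b) }
  obtain ⟨μ, hμ⟩ := hZfu.map_surjective ν'
  have hμb : ∀ b : ℬ.obj, μ.toNatTrans.app (ι.obj b) = ν.toNatTrans.app b := fun b =>
    congrArg (fun t : (Stk.restr (pushF ι) (push 𝒴)).obj (pushF Φ) ⟶
      (Stk.restr (pushF ι) (push 𝒴)).obj (pushF Φ') => t.toNatTrans.app b) hμ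
  have e : BasedFunctor.comp (pushF Φ) (pushQ 𝒴) = pushQ 𝒜 := basedFunctor_ext Φ.w
  have e' : BasedFunctor.comp (pushF Φ') (pushQ 𝒴) = pushQ 𝒜 := basedFunctor_ext Φ'.w
  have hn : BasedCategory.whiskerRight μ (pushQ 𝒴) = eqToHom (e.trans e'.symm) := by
    apply hXfa.map_injective
    apply BasedNatTrans.homCategory.ext
    ext b
    have h1 : 𝒴.p.map (μ.toNatTrans.app (ι.obj b)) = 𝒴.p.map (ν.toNatTrans.app b) :=
      congrArg (fun t => 𝒴.p.map t) (hμb b)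
    have h2 : 𝒴.p.map (ν.toNatTrans.app b) =
        eqToHom (((BasedFunctor.comp ι Φ).w_obj b).trans ((BasedFunctor.comp ι Φ').w_obj b).symm) :=
      map_eq_of_isHomLift_id 𝒴.p _ (ν.isHomLift' b) ((BasedFunctor.comp ι Φ).w_obj b)
        ((BasedFunctor.comp ι Φ').w_obj b)
    have h3 := eqToHom_app (e.trans e'.symm) (ι.obj b)
    exact (h1.trans h2).trans h3.symm
  have hμ' : ∀ a : 𝒜.obj, 𝒴.p.IsHomLift (𝟙 (𝒜.p.obj a)) (μ.toNatTrans.app a) := fun a => by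
    have h2 : 𝒴.p.map (μ.toNatTrans.app a) =
        (eqToHom (e.trans e'.symm) : BasedFunctor.comp (pushF Φ) (pushQ 𝒴) ⟶
          BasedFunctor.comp (pushF Φ') (pushQ 𝒴)).toNatTrans.app a :=
      congrArg (fun t : BasedFunctor.comp (pushF Φ) (pushQ 𝒴) ⟶
        BasedFunctor.comp (pushF Φ') (pushQ 𝒴) => t.toNatTrans.app a) hn
    have h3 : 𝒴.p.map (μ.toNatTrans.app a) = eqToHom ((Φ.w_obj a).trans (Φ'.w_obj a).symm) :=
      h2.trans (eqToHom_app (e.trans e'.symm) a)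
    exact isHomLift_id_of_map_eq 𝒴.p _ (Φ.w_obj a) (Φ'.w_obj a) h3
  refine ⟨⟨μ.toNatTrans, hμ'⟩, ?_⟩
  apply BasedNatTrans.homCategory.ext
  ext b
  exact hμb b⟩

theorem Q_essSurj (h𝒴 : FibCat.IsFibGrpd 𝒴.p)
    (hZes : (Stk.restr (pushF ι) (push 𝒴)).EssSurj)
    (hXfu : (Stk.restr (pushF ι) 𝒳).Full) : (Stk.restr ι 𝒴).EssSurj := ⟨by
  intro E
  obtain ⟨G, ⟨θ⟩⟩ := hZes.mem_essImage (pushF E)
  have hQ : FibCat.IsFibGrpd (pushQ 𝒴).toFunctor := h𝒴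
  have e : (Stk.restr (pushF ι) 𝒳).obj (pushQ 𝒜) = BasedFunctor.comp (pushF E) (pushQ 𝒴) :=
    basedFunctor_ext (ι.w.trans E.w.symm)
  let wr : BasedFunctor.comp (pushF E) (pushQ 𝒴) ⟶
      (Stk.restr (pushF ι) 𝒳).obj (BasedFunctor.comp G (pushQ 𝒴)) :=
    BasedCategory.whiskerRight θ.inv (pushQ 𝒴)
  let ξ : (Stk.restr (pushF ι) 𝒳).obj (pushQ 𝒜) ⟶
      (Stk.restr (pushF ι) 𝒳).obj (BasedFunctor.comp G (pushQ 𝒴)) :=
    eqToHom e ≫ wr
  obtain ⟨Ξ, hΞ⟩ := hXfu.map_surjective ξ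
  obtain ⟨G₁, h₁, c, hc⟩ := exists_isoLift_based (pushQ 𝒴) hQ G (pushQ 𝒜) Ξ
  have hτ : ∀ b : ℬ.obj, 𝒴.p.IsHomLift (𝟙 (ℬ.p.obj b))
      (c.toNatTrans.app (ι.obj b) ≫ θ.hom.toNatTrans.app b) := fun b => by
    have hh0 : 𝒜.p.obj (ι.obj b) = 𝒴.p.obj (E.obj b) := (ι.w_obj b).trans (E.w_obj b).symm
    have hΞb : Ξ.toNatTrans.app (ι.obj b) = ξ.toNatTrans.app b :=
      congrArg (fun t : (Stk.restr (pushF ι) 𝒳).obj (pushQ 𝒜) ⟶
        (Stk.restr (pushF ι) 𝒳).obj (BasedFunctor.comp G (pushQ 𝒴)) => t.toNatTrans.app b) hΞ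
    have hξb : ξ.toNatTrans.app b = eqToHom hh0 ≫ 𝒴.p.map (θ.inv.toNatTrans.app b) :=
      congrArg (fun t => t ≫ 𝒴.p.map (θ.inv.toNatTrans.app b)) (eqToHom_app e b)
    have hinv : θ.inv.toNatTrans.app b ≫ θ.hom.toNatTrans.app b = 𝟙 (E.obj b) :=
      congrArg (fun t : pushF E ⟶ pushF E => t.toNatTrans.app b) θ.inv_hom_id
    have h1 : 𝒴.p.IsHomLift (Ξ.toNatTrans.app (ι.obj b)) (c.toNatTrans.app (ι.obj b)) :=
      hc (ι.obj b)
    have h3 : 𝒴.p.IsHomLift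
        (Ξ.toNatTrans.app (ι.obj b) ≫ 𝒴.p.map (θ.hom.toNatTrans.app b))
        (c.toNatTrans.app (ι.obj b) ≫ θ.hom.toNatTrans.app b) :=
      isHomLift_comp' 𝒴.p (Ξ.toNatTrans.app (ι.obj b)) (𝒴.p.map (θ.hom.toNatTrans.app b))
        (c.toNatTrans.app (ι.obj b)) (θ.hom.toNatTrans.app b) h1
        (Functor.IsHomLift.map (θ.hom.toNatTrans.app b))
    have step1 : Ξ.toNatTrans.app (ι.obj b) ≫ 𝒴.p.map (θ.hom.toNatTrans.app b) =
        (eqToHom hh0 ≫ 𝒴.p.map (θ.inv.toNatTrans.app b)) ≫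
          𝒴.p.map (θ.hom.toNatTrans.app b) :=
      congrArg (fun t => t ≫ 𝒴.p.map (θ.hom.toNatTrans.app b)) (hΞb.trans hξb)
    have step2 : (eqToHom hh0 ≫ 𝒴.p.map (θ.inv.toNatTrans.app b)) ≫
          𝒴.p.map (θ.hom.toNatTrans.app b) = eqToHom hh0 :=
      (Category.assoc _ _ _).trans
        ((congrArg (fun t => eqToHom hh0 ≫ t)
          ((𝒴.p.map_comp _ _).symm.trans ((congrArg (fun t => 𝒴.p.map t) hinv).trans
            (𝒴.p.map_id _)))).trans (Category.comp_id _))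
    exact isHomLift_id_of_eqToHom' 𝒴.p _ _ hh0 (step1.trans step2) h3 (ι.w_obj b)
  let wl : BasedFunctor.comp (pushF ι) G₁ ⟶ (Stk.restr (pushF ι) (push 𝒴)).obj G :=
    BasedCategory.whiskerLeft (pushF ι) c
  let τ : (Stk.restr ι 𝒴).obj (pull G₁ h₁) ⟶ E :=
    { toNatTrans := (wl ≫ θ.hom).toNatTrans
      isHomLift' := hτ }
  have hτI : IsIso τ := isIso_of_isFibGrpd h𝒴 τ
  exact ⟨pull G₁ h₁, ⟨@asIso _ _ _ _ τ hτI⟩⟩⟩

end Q

section Transfer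

variable {C : Type u} [Category.{v} C] {𝒳 : BasedCategory.{v₁, u₁} C}
variable (h𝒳 : FibCat.IsFibGrpd 𝒳.p)
variable (x : 𝒳.obj) {U : C} (hU : 𝒳.p.obj x = U) (R : Sieve U)

include h𝒳 in
theorem transfer_equiv (𝒲 : BasedCategory.{v₅, u₅} C)
    (h : (Stk.restr (Stk.sieveIncl R) 𝒲).IsEquivalence) :
    (Stk.restr (pushF (Stk.sieveIncl (Sx x hU R))) 𝒲).IsEquivalence := by
  have heU := restr_isEquivalence_of_isEquivOver (postU x hU) (postU_isEquivOver x hU h𝒳) 𝒲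
  have heS := restr_isEquivalence_of_isEquivOver (postS x hU R) (postS_isEquivOver x hU R h𝒳) 𝒲
  have h0 : (Stk.restr (Stk.sieveIncl R) 𝒲 ⋙ Stk.restr (postS x hU R) 𝒲).IsEquivalence :=
    inferInstance
  have hcomp : (Stk.restr (postU x hU) 𝒲 ⋙
      Stk.restr (pushF (Stk.sieveIncl (Sx x hU R))) 𝒲).IsEquivalence := h0
  exact Functor.isEquivalence_of_comp_left (Stk.restr (postU x hU) 𝒲) _

end Transfer

/-- If `𝒳` and the composite `𝒴 ⟶ 𝒳 ⟶ C` are stacks in groupoids over `C` and `𝒴` is fibred in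
groupoids over `𝒳`, then `𝒴` is a stack in groupoids over `𝒳` for the inherited topology. -/
theorem main_T2 {C : Type u} [Category.{v} C] (J : GrothendieckTopology C)
    {𝒳 : BasedCategory.{v, max u v} C} (h𝒳 : Stk.IsStack J 𝒳)
    (𝒴 : BasedCategory.{v, max u v} 𝒳.obj) (h𝒴 : FibCat.IsFibGrpd 𝒴.p)
    (h𝒵 : Stk.IsStack J (push 𝒴)) : Stk.IsStack (𝒳.p.restrictedTopology J) 𝒴 := by
  refine ⟨h𝒴, fun x S₀ hS₀ => ?_⟩
  have hR0 : S₀.functorPushforward 𝒳.p ∈ J (𝒳.p.obj x) :=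
    (mem_restrictedTopology_iff 𝒳.p h𝒳.1 J S₀).1 hS₀
  obtain ⟨R, hR, rfl⟩ : ∃ R : Sieve (𝒳.p.obj x), R ∈ J (𝒳.p.obj x) ∧ Sx x rfl R = S₀ :=
    ⟨_, hR0, Sx_functorPushforward h𝒳.1 S₀⟩
  have hZ : (Stk.restr (pushF (Stk.sieveIncl (Sx x rfl R))) (push 𝒴)).IsEquivalence :=
    transfer_equiv h𝒳.1 x rfl R (push 𝒴) (h𝒵.2 R hR)
  have hXe : (Stk.restr (pushF (Stk.sieveIncl (Sx x rfl R))) 𝒳).IsEquivalence :=
    transfer_equiv h𝒳.1 x rfl R 𝒳 (h𝒳.2 R hR)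
  have h1 : (Stk.restr (Stk.sieveIncl (Sx x rfl R)) 𝒴).Faithful :=
    Q_faithful (Stk.sieveIncl (Sx x rfl R)) hZ.faithful
  have h2 : (Stk.restr (Stk.sieveIncl (Sx x rfl R)) 𝒴).Full :=
    Q_full (Stk.sieveIncl (Sx x rfl R)) hZ.full hXe.faithful
  have h3 : (Stk.restr (Stk.sieveIncl (Sx x rfl R)) 𝒴).EssSurj :=
    Q_essSurj (Stk.sieveIncl (Sx x rfl R)) h𝒴 hZ.essSurj hXe.full
  have key : (Stk.restr (Stk.sieveIncl (Sx x rfl R)) 𝒴).IsEquivalence := { }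
  exact key

/-- A morphism of stacks in groupoids which is fibred in groupoids makes the source a stack in
groupoids over the target, for the inherited topology. -/
theorem main12804 {C : Type u} [Category.{v} C] (J : GrothendieckTopology C)
    {𝒳 𝒴 : BasedCategory.{v, max u v} C} (h𝒳 : Stk.IsStack J 𝒳) (h𝒴 : Stk.IsStack J 𝒴)
    (F : 𝒳 ⥤ᵇ 𝒴) (hF : FibCat.IsFibGrpd F.toFunctor) :
    Stk.IsStack (𝒴.p.restrictedTopology J) (BasedCategory.ofFunctor F.toFunctor) := by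
  apply main_T2 J h𝒴 (BasedCategory.ofFunctor F.toFunctor) hF
  have e : BasedCategory.ofFunctor (F.toFunctor ⋙ 𝒴.p) = 𝒳 :=
    congrArg (fun q => BasedCategory.ofFunctor q) F.w
  show Stk.IsStack J (BasedCategory.ofFunctor (F.toFunctor ⋙ 𝒴.p))
  rw [e]
  exact h𝒳

end Groth.Agent.Helper2.StkLib.Trans2
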