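import Mathlib
import Groth.Prelude.Def_AlgSt
import Groth.Prelude.Def_FibCat2
import Groth.Prelude.Def_StGerb
import Groth.Agent.Lib.Helper2.Stk.Trans2

/-!
# A gerbe over a stack is a gerbe over the site of that stack (helper2)
-/

set_option autoImplicit false
set_option synthInstance.maxHeartbeats 400000
set_option maxHeartbeats 1000000
set_option linter.style.haveILetI false
set_option linter.unusedSectionVars false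
set_option linter.unusedVariables false
set_option linter.unusedSimpArgs false
set_option linter.unnecessarySimpa false

open CategoryTheory CategoryTheory.Functor

universe v₆ u₆ v₅ u₅ v₄ u₄ v₃ u₃ v₂ u₂ v₁ u₁ v u

namespace Groth.Agent.Helper2.StkLib.GerbeInh

open Groth.Agent.Helper2 Groth.Agent.Helper2.FibCatLib Groth.Agent.Helper2.StkLib.PushPull
open Groth.Agent.Helper2.StkLib.SlicePost Groth.Agent.Helper2.StkLib.Trans2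

section Plain

variable {𝒜 : Type u₁} [Category.{v₁} 𝒜] {ℬ : Type u₂} [Category.{v₂} ℬ]
  {𝒞 : Type u₃} [Category.{v₃} 𝒞]

theorem isHomLift_id_congr (p : 𝒜 ⥤ ℬ) {S S' : ℬ} (e : S = S') {a b : 𝒜} (φ : a ⟶ b)
    (h : p.IsHomLift (𝟙 S) φ) : p.IsHomLift (𝟙 S') φ := by
  subst e; exact h

theorem isHomLift_of_eq (p : 𝒜 ⥤ ℬ) {R S : ℬ} {f f' : R ⟶ S} (e : f = f') {a b : 𝒜} (φ : a ⟶ b)
    (h : p.IsHomLift f φ) : p.IsHomLift f' φ := by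
  subst e; exact h

theorem isHomLift_id_comp' (p : 𝒜 ⥤ ℬ) (R : ℬ) {a b c : 𝒜} (φ : a ⟶ b) (ψ : b ⟶ c)
    (h1 : p.IsHomLift (𝟙 R) φ) (h2 : p.IsHomLift (𝟙 R) ψ) : p.IsHomLift (𝟙 R) (φ ≫ ψ) :=
  inferInstance

theorem isHomLift_comp_id_right' (p : 𝒜 ⥤ ℬ) {S T : ℬ} (f : S ⟶ T) {a b c : 𝒜} (φ : a ⟶ b)
    (ψ : b ⟶ c) (h1 : p.IsHomLift f φ) (h2 : p.IsHomLift (𝟙 T) ψ) : p.IsHomLift f (φ ≫ ψ) :=
  inferInstance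

/-- Given `g : q x ⟶ y` and `f : z ⟶ y` over the same morphism of the base, factor `f` through `g`
and lift the factor along `q`. -/
theorem exists_lift_factor (q : 𝒜 ⥤ ℬ) (p : ℬ ⥤ 𝒞) (hq : FibCat.IsFibGrpd q)
    (hp : FibCat.IsFibGrpd p) {x : 𝒜} {y z : ℬ} (g : q.obj x ⟶ y) (f : z ⟶ y) {V U : 𝒞}
    (u : V ⟶ U) (hg : p.IsHomLift u g) (hf : p.IsHomLift u f) :
    ∃ (x₀ : 𝒜) (κ : x₀ ⟶ x) (χ : z ⟶ q.obj x), q.IsHomLift χ κ ∧ χ ≫ g = f := by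
  obtain ⟨χ, ⟨hχ1, hχ2⟩, -⟩ :=
    existsUnique' p hp (𝟙 V) u u (Category.id_comp u).symm g hg f hf
  obtain ⟨x₀, κ, hκ⟩ := hq.exists_lift χ
  exact ⟨x₀, κ, χ, hκ, hχ2⟩

end Plain

section Gerbe

variable {C : Type u} [Category.{v} C] (J : GrothendieckTopology C)
  {𝒳 : BasedCategory.{v₁, u₁} C} {𝒴 : BasedCategory.{v₂, u₂} C} {𝒳' : BasedCategory.{v₃, u₃} C}

theorem based_preserves {𝒜 : BasedCategory.{v₄, u₄} C} {ℬ : BasedCategory.{v₅, u₅} C}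
    (F : 𝒜 ⥤ᵇ ℬ) {R S : C} {a b : 𝒜.obj} (f : R ⟶ S) (φ : a ⟶ b) (h : 𝒜.p.IsHomLift f φ) :
    ℬ.p.IsHomLift f (F.map φ) := inferInstance

theorem locSurjObj_aux (h𝒴 : FibCat.IsFibGrpd 𝒴.p) (a : 𝒳 ⥤ᵇ 𝒳') (F' : 𝒳' ⥤ᵇ 𝒴)
    (hF' : FibCat.IsFibGrpd F'.toFunctor)
    (h : Gerb.LocSurjObj J (BasedFunctor.comp a F')) (y : 𝒴.obj) :
    ∃ S ∈ 𝒴.p.restrictedTopology J y, ∀ ⦃z : 𝒴.obj⦄ (f : z ⟶ y), S f →
      ∃ (x : 𝒳'.obj) (g : F'.obj x ⟶ y), (𝟭 𝒴.obj).IsHomLift f g := by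
  obtain ⟨R, hR, hR'⟩ := h y
  refine ⟨Sx y rfl R, Sx_mem y rfl R h𝒴 J hR, fun z f hf => ?_⟩
  obtain ⟨x, g, hg⟩ := hR' (𝒴.p.map f ≫ eqToHom rfl) hf
  have hf' : 𝒴.p.IsHomLift (𝒴.p.map f ≫ eqToHom rfl) f := inferInstance
  obtain ⟨x₀, κ, χ, hκ, hχ⟩ := exists_lift_factor F'.toFunctor 𝒴.p hF' h𝒴 (x := a.obj x) g f _
    hg hf'
  have hz : F'.obj x₀ = z := IsHomLift.domain_eq F'.toFunctor χ κ
  refine ⟨x₀, eqToHom hz ≫ f, ?_⟩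
  have h0 : (𝟭 𝒴.obj).IsHomLift f f := Functor.IsHomLift.map (p := 𝟭 𝒴.obj) f
  infer_instance

theorem locSurjObj (h𝒴 : FibCat.IsFibGrpd 𝒴.p) (a : 𝒳 ⥤ᵇ 𝒳') (F' : 𝒳' ⥤ᵇ 𝒴)
    (hF' : FibCat.IsFibGrpd F'.toFunctor)
    (h : Gerb.LocSurjObj J (BasedFunctor.comp a F')) :
    Gerb.LocSurjObj (𝒴.p.restrictedTopology J)
      (FibCat.toSelf (BasedCategory.ofFunctor F'.toFunctor)) :=
  fun y => locSurjObj_aux J h𝒴 a F' hF' h y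

theorem locSurjHom_aux (h𝒴 : FibCat.IsFibGrpd 𝒴.p) (a : 𝒳 ⥤ᵇ 𝒳') (ha : FibCat.IsEquivOver a)
    (F' : 𝒳' ⥤ᵇ 𝒴) (hF' : FibCat.IsFibGrpd F'.toFunctor)
    (h : Gerb.LocSurjHom J (BasedFunctor.comp a F')) (x₁ x₂ : 𝒳'.obj)
    (b : F'.obj x₁ ⟶ F'.obj x₂) (hb : (𝟭 𝒴.obj).IsHomLift (𝟙 (F'.obj x₁)) b) :
    ∃ S ∈ 𝒴.p.restrictedTopology J (F'.obj x₁), ∀ ⦃z : 𝒴.obj⦄ (f : z ⟶ F'.obj x₁), S f →
      ∃ (x₀ : 𝒳'.obj) (φ : x₀ ⟶ x₁) (ψ : x₀ ⟶ x₂),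
        F'.toFunctor.IsHomLift f φ ∧ F'.toFunctor.IsHomLift f ψ ∧ F'.map φ ≫ b = F'.map ψ := by
  obtain ⟨G, -, ⟨η⟩⟩ := ha
  have hb2 : F'.obj x₂ = F'.obj x₁ := IsHomLift.codomain_eq (𝟭 𝒴.obj) (𝟙 (F'.obj x₁)) b
  have hbe : b = eqToHom hb2.symm := map_eq_of_isHomLift_id (𝟭 𝒴.obj) b hb rfl hb2
  have hU : 𝒴.p.obj (F'.obj x₁) = 𝒳.p.obj (G.obj x₁) := (F'.w_obj x₁).trans (G.w_obj x₁).symm
  have hU₂ : 𝒴.p.obj (F'.obj x₂) = 𝒳.p.obj (G.obj x₁) := (congrArg 𝒴.p.obj hb2).trans hU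
  let η₁ : a.obj (G.obj x₁) ⟶ x₁ := η.hom.toNatTrans.app x₁
  let η₂ : a.obj (G.obj x₂) ⟶ x₂ := η.hom.toNatTrans.app x₂
  let η₂i : x₂ ⟶ a.obj (G.obj x₂) := η.inv.toNatTrans.app x₂
  have hη₂ : η₂i ≫ η₂ = 𝟙 x₂ :=
    congrArg (fun t : BasedFunctor.id 𝒳' ⟶ BasedFunctor.id 𝒳' => t.toNatTrans.app x₂)
      η.inv_hom_id
  have hη₁l : 𝒳'.p.IsHomLift (𝟙 (𝒳.p.obj (G.obj x₁))) η₁ :=
    isHomLift_id_congr 𝒳'.p (G.w_obj x₁).symm η₁ (η.hom.isHomLift' x₁)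
  have hη₂il : 𝒳'.p.IsHomLift (𝟙 (𝒳.p.obj (G.obj x₁))) η₂i :=
    isHomLift_id_congr 𝒳'.p ((F'.w_obj x₂).symm.trans hU₂) η₂i (η.inv.isHomLift' x₂)
  have hbl : 𝒴.p.IsHomLift (𝟙 (𝒳.p.obj (G.obj x₁))) b := by
    rw [hbe]
    exact IsHomLift.eqToHom_codomain_lift_id hb2.symm hU₂
  let b₀ : F'.obj (a.obj (G.obj x₁)) ⟶ F'.obj (a.obj (G.obj x₂)) :=
    F'.map η₁ ≫ b ≫ F'.map η₂i
  have hb₀ : 𝒴.p.IsHomLift (𝟙 (𝒳.p.obj (G.obj x₁))) b₀ :=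
    isHomLift_id_comp' 𝒴.p _ _ _ (based_preserves F' _ η₁ hη₁l)
      (isHomLift_id_comp' 𝒴.p _ _ _ hbl (based_preserves F' _ η₂i hη₂il))
  obtain ⟨R, hR, hR'⟩ := h (G.obj x₁) (G.obj x₂) b₀ hb₀
  refine ⟨Sx (F'.obj x₁) hU R, Sx_mem (F'.obj x₁) hU R h𝒴 J hR, fun z f hf => ?_⟩
  obtain ⟨x₀, φ, ψ, hφ, hψ, hφψ⟩ := hR' (𝒴.p.map f ≫ eqToHom hU) hf
  let m₁ : a.obj x₀ ⟶ x₁ := a.map φ ≫ η₁
  let m₂ : a.obj x₀ ⟶ x₂ := a.map ψ ≫ η₂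
  have hm₁ : 𝒴.p.IsHomLift (𝒴.p.map f ≫ eqToHom hU) (F'.map m₁) :=
    based_preserves F' _ m₁
      (isHomLift_comp_id_right' 𝒳'.p _ (a.map φ) η₁ (based_preserves a _ φ hφ) hη₁l)
  have hf' : 𝒴.p.IsHomLift (𝒴.p.map f ≫ eqToHom hU) f := inferInstance
  obtain ⟨x₀', κ, χ, hκ, hχ⟩ := exists_lift_factor F'.toFunctor 𝒴.p hF' h𝒴 (x := a.obj x₀)
    (F'.map m₁) f _ hm₁ hf'
  have hφψ' : F'.map (a.map φ) ≫ F'.map η₁ ≫ b ≫ F'.map η₂i = F'.map (a.map ψ) := hφψ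
  have key : F'.map m₂ = F'.map m₁ ≫ b := by
    show F'.map (a.map ψ ≫ η₂) = F'.map (a.map φ ≫ η₁) ≫ b
    rw [CategoryTheory.Functor.map_comp, CategoryTheory.Functor.map_comp, ← hφψ']
    simp only [Category.assoc]
    rw [← CategoryTheory.Functor.map_comp, hη₂, CategoryTheory.Functor.map_id, Category.comp_id]
  refine ⟨x₀', κ ≫ m₁, κ ≫ m₂, ?_, ?_, ?_⟩
  · exact isHomLift_of_eq F'.toFunctor hχ _
      (isHomLift_comp' F'.toFunctor χ (F'.map m₁) κ m₁ hκ (Functor.IsHomLift.map m₁))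
  · have e2 : χ ≫ F'.map m₂ = f ≫ eqToHom hb2.symm := by
      rw [key, ← Category.assoc, hχ, hbe]
    have h3 : F'.toFunctor.IsHomLift (f ≫ eqToHom hb2.symm) (κ ≫ m₂) :=
      isHomLift_of_eq F'.toFunctor e2 _
        (isHomLift_comp' F'.toFunctor χ (F'.map m₂) κ m₂ hκ (Functor.IsHomLift.map m₂))
    exact (IsHomLift.lift_comp_eqToHom_iff F'.toFunctor f (κ ≫ m₂) hb2.symm).1 h3
  · show F'.map (κ ≫ m₁) ≫ b = F'.map (κ ≫ m₂)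
    rw [F'.toFunctor.map_comp κ m₁, F'.toFunctor.map_comp κ m₂, key, Category.assoc]

theorem locSurjHom (h𝒴 : FibCat.IsFibGrpd 𝒴.p) (a : 𝒳 ⥤ᵇ 𝒳') (ha : FibCat.IsEquivOver a)
    (F' : 𝒳' ⥤ᵇ 𝒴) (hF' : FibCat.IsFibGrpd F'.toFunctor)
    (h : Gerb.LocSurjHom J (BasedFunctor.comp a F')) :
    Gerb.LocSurjHom (𝒴.p.restrictedTopology J)
      (FibCat.toSelf (BasedCategory.ofFunctor F'.toFunctor)) :=
  fun x₁ x₂ b hb => locSurjHom_aux J h𝒴 a ha F' hF' h x₁ x₂ b hb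

end Gerbe

/-- A gerbe `𝒳 ⟶ 𝒴` over a stack `𝒴`, replaced by an equivalent category fibred in groupoids over
`𝒴`, is a gerbe over the site `𝒴` with the inherited topology. -/
theorem main16886 {C : Type u} [Category.{v} C]
    (J : GrothendieckTopology C) {𝒳 𝒴 𝒳' : BasedCategory.{v, max u v} C}
    (h𝒳 : Stk.IsStack J 𝒳) (h𝒴 : Stk.IsStack J 𝒴) (F : 𝒳 ⥤ᵇ 𝒴) (hF : Gerb.IsGerbeOver J F)
    (a : 𝒳 ⥤ᵇ 𝒳') (ha : FibCat.IsEquivOver a) (F' : 𝒳' ⥤ᵇ 𝒴)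
    (hF' : FibCat.IsFibGrpd F'.toFunctor) (hfac : BasedFunctor.comp a F' = F) :
    Gerb.IsGerbe (𝒴.p.restrictedTopology J) (BasedCategory.ofFunctor F'.toFunctor) := by
  subst hfac
  have h𝒳' : Stk.IsStack J 𝒳' := (isStack_iff_of_isEquivOver J a ha).1 h𝒳
  exact And.intro (main12804 J h𝒳' h𝒴 F' hF')
    (And.intro (locSurjObj J h𝒴.1 a F' hF' hF.1) (locSurjHom J h𝒴.1 a ha F' hF' hF.2))

end Groth.Agent.Helper2.StkLib.GerbeInh
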