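import Mathlib
import Groth.Prelude.Def_FibCat2
import Groth.Agent.Lib.Helper2.FibGrpd
import Groth.Agent.Lib.Helper2.Stk.InhTop

/-!
# Functors over `C` between categories fibred in groupoids and the inherited topologies (helper2)
-/

set_option autoImplicit false
open CategoryTheory CategoryTheory.Functor Opposite

universe w v₃ u₃ v₂ u₂ v u

namespace Groth.Agent.Helper2.StkLib

open Groth.Agent.Helper2

variable {C : Type u} [Category.{v} C] (J : GrothendieckTopology C)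
variable {𝒳 : BasedCategory.{v₂, u₂} C} {𝒴 : BasedCategory.{v₃, u₃} C}

theorem based_map_eq (F : 𝒳 ⥤ᵇ 𝒴) {a b : 𝒳.obj} (k : a ⟶ b) :
    𝒴.p.map (F.map k) = eqToHom (F.w_obj a) ≫ 𝒳.p.map k ≫ eqToHom (F.w_obj b).symm :=
  Functor.congr_hom F.w k

theorem coverPreserving_based (h𝒳 : FibCat.IsFibGrpd 𝒳.p) (h𝒴 : FibCat.IsFibGrpd 𝒴.p)
    (F : 𝒳 ⥤ᵇ 𝒴) :
    CoverPreserving (𝒳.p.restrictedTopology J) (𝒴.p.restrictedTopology J) F.toFunctor where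
  cover_preserve {x S} hS := by
    rw [mem_restrictedTopology_iff 𝒴.p h𝒴, ← Sieve.functorPushforward_comp]
    have key : ∀ (q : 𝒳.obj ⥤ C), q = 𝒳.p → S.functorPushforward q ∈ J (q.obj x) := by
      intro q hq
      subst hq
      exact (mem_restrictedTopology_iff 𝒳.p h𝒳 J S).1 hS
    exact key _ F.w

theorem isCocontinuous_based (h𝒳 : FibCat.IsFibGrpd 𝒳.p) (h𝒴 : FibCat.IsFibGrpd 𝒴.p)
    (F : 𝒳 ⥤ᵇ 𝒴) :
    F.toFunctor.IsCocontinuous (𝒳.p.restrictedTopology J) (𝒴.p.restrictedTopology J) where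
  cover_lift {x S} hS := by
    rw [mem_restrictedTopology_iff 𝒳.p h𝒳]
    have h1 := (mem_restrictedTopology_iff 𝒴.p h𝒴 J S).1 hS
    have e : 𝒴.p.obj (F.obj x) = 𝒳.p.obj x := F.w_obj x
    have h2 := J.pullback_stable (eqToHom e.symm) h1
    refine J.superset_covering ?_ h2
    intro V f hf
    obtain ⟨z, g, h, hg, hfac⟩ := hf
    obtain ⟨w, k, ew, hk⟩ := IsFibGrpd.exists_lift' 𝒳.p h𝒳 x f
    have hcomp : (eqToHom ((F.w_obj w).trans ew) ≫ h) ≫ 𝒴.p.map g = 𝒴.p.map (F.map k) := by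
      rw [based_map_eq F k, hk, Category.assoc, ← hfac]
      simp
    obtain ⟨χ, ⟨-, hχ⟩, -⟩ := IsFibGrpd.existsUnique_lift 𝒴.p h𝒴 g (F.map k)
      (eqToHom ((F.w_obj w).trans ew) ≫ h) hcomp
    refine ⟨w, k, eqToHom ew.symm, ?_, ?_⟩
    · change S (F.map k)
      rw [← hχ]
      exact S.downward_closed hg χ
    · rw [hk]
      simp

theorem compatiblePreserving_based (h𝒳 : FibCat.IsFibGrpd 𝒳.p) (h𝒴 : FibCat.IsFibGrpd 𝒴.p)
    (F : 𝒳 ⥤ᵇ 𝒴) (K : GrothendieckTopology 𝒴.obj) :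
    CompatiblePreserving.{w} K F.toFunctor where
  compatible ℱ {Z T x} hx {Y₁ Y₂ X} f₁ f₂ {g₁ g₂} hg₁ hg₂ hfg := by
    -- lifts of the base morphisms of `f₁`, `f₂`
    obtain ⟨W₁, k₁, e₁, hk₁⟩ := IsFibGrpd.exists_lift' 𝒳.p h𝒳 Y₁
      (𝒴.p.map f₁ ≫ eqToHom (F.w_obj Y₁))
    obtain ⟨W₂, k₂, e₂, hk₂⟩ := IsFibGrpd.exists_lift' 𝒳.p h𝒳 Y₂
      (𝒴.p.map f₂ ≫ eqToHom (F.w_obj Y₂))
    have hc₁ : eqToHom (e₁.symm.trans (F.w_obj W₁).symm) ≫ 𝒴.p.map (F.map k₁) = 𝒴.p.map f₁ := by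
      rw [based_map_eq F k₁, hk₁]
      simp
    have hc₂ : eqToHom (e₂.symm.trans (F.w_obj W₂).symm) ≫ 𝒴.p.map (F.map k₂) = 𝒴.p.map f₂ := by
      rw [based_map_eq F k₂, hk₂]
      simp
    obtain ⟨θ₁, ⟨hθ₁p, hθ₁⟩, -⟩ := IsFibGrpd.existsUnique_lift 𝒴.p h𝒴 (F.map k₁) f₁ _ hc₁
    obtain ⟨θ₂, ⟨hθ₂p, hθ₂⟩, -⟩ := IsFibGrpd.existsUnique_lift 𝒴.p h𝒴 (F.map k₂) f₂ _ hc₂
    -- the base morphisms agree
    have hbase : 𝒴.p.map f₁ ≫ eqToHom (F.w_obj Y₁) ≫ 𝒳.p.map g₁ =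
        𝒴.p.map f₂ ≫ eqToHom (F.w_obj Y₂) ≫ 𝒳.p.map g₂ := by
      have h1 := congrArg 𝒴.p.map hfg
      rw [Functor.map_comp, Functor.map_comp, based_map_eq F g₁, based_map_eq F g₂] at h1
      have h2 := congrArg (fun t => t ≫ eqToHom (F.w_obj Z)) h1
      simpa using h2
    have hm : eqToHom (e₁.trans e₂.symm) ≫ 𝒳.p.map (k₂ ≫ g₂) = 𝒳.p.map (k₁ ≫ g₁) := by
      rw [Functor.map_comp, Functor.map_comp, hk₁, hk₂]
      simp only [Category.assoc]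
      rw [hbase]
      simp
    obtain ⟨m, ⟨hmp, hmfac⟩, -⟩ := IsFibGrpd.existsUnique_lift 𝒳.p h𝒳 (k₂ ≫ g₂) (k₁ ≫ g₁) _ hm
    -- `θ₁ ≫ F m = θ₂`
    have hcomp₂ : eqToHom (e₂.symm.trans (F.w_obj W₂).symm) ≫ 𝒴.p.map (F.map (k₂ ≫ g₂)) =
        𝒴.p.map (f₂ ≫ F.map g₂) := by
      rw [Functor.map_comp, Functor.map_comp, ← Category.assoc, hc₂, Functor.map_comp]
    have huniq := IsFibGrpd.existsUnique_lift 𝒴.p h𝒴 (F.map (k₂ ≫ g₂)) (f₂ ≫ F.map g₂) _ hcomp₂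
    have hθm : θ₁ ≫ F.map m = θ₂ := by
      apply huniq.unique
      · refine ⟨?_, ?_⟩
        · rw [Functor.map_comp, hθ₁p, based_map_eq F m, hmp]
          simp
        · rw [Category.assoc, ← Functor.map_comp, hmfac, Functor.map_comp, ← Category.assoc, hθ₁,
            hfg]
      · refine ⟨hθ₂p, ?_⟩
        rw [Functor.map_comp, ← Category.assoc, hθ₂]
    -- conclude by compatibility
    have hcompat := hx k₁ (m ≫ k₂) hg₁ hg₂ (by rw [Category.assoc, hmfac])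
    have h3 := congrArg (ℱ.obj.map θ₁.op) hcompat
    change ℱ.obj.map θ₁.op (ℱ.obj.map (F.map k₁).op (x g₁ hg₁)) =
      ℱ.obj.map θ₁.op (ℱ.obj.map (F.map (m ≫ k₂)).op (x g₂ hg₂)) at h3
    rw [← Functor.map_comp_apply, ← Functor.map_comp_apply, ← op_comp, ← op_comp, hθ₁,
      Functor.map_comp, ← Category.assoc, hθm, hθ₂] at h3
    exact h3

theorem isContinuous_based (h𝒳 : FibCat.IsFibGrpd 𝒳.p) (h𝒴 : FibCat.IsFibGrpd 𝒴.p)
    (F : 𝒳 ⥤ᵇ 𝒴) :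
    F.toFunctor.IsContinuous (𝒳.p.restrictedTopology J) (𝒴.p.restrictedTopology J) :=
  Functor.isContinuous_of_coverPreserving (compatiblePreserving_based h𝒳 h𝒴 F _)
    (coverPreserving_based J h𝒳 h𝒴 F)

end Groth.Agent.Helper2.StkLib
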