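import Mathlib
import Groth.Prelude.Def_AlgSt
import Groth.Prelude.Def_FibCat2
import Groth.Prelude.Def_StGerb
import Groth.Prelude.Def_StGerb2
import Groth.Agent.Lib.Helper2.Stk.OfPsh

/-!
# The presheaf of isomorphism classes of a gerbe over a presheaf (helper2)

If `π : 𝒳 ⟶ ofPsh P` makes `𝒳` a gerbe over (the category fibred in sets of) a presheaf `P`, then
the map from the presheaf of isomorphism classes of `𝒳` to `P` is locally bijective.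
-/

set_option autoImplicit false
set_option synthInstance.maxHeartbeats 400000
set_option maxHeartbeats 1000000
set_option linter.style.haveILetI false
set_option linter.unusedSectionVars false
set_option linter.unusedVariables false
set_option linter.unusedSimpArgs false
set_option linter.unnecessarySimpa false

open CategoryTheory CategoryTheory.Functor Opposite

universe w v₃ u₃ v₂ u₂ v u

namespace Groth.Agent.Helper2.StkLib.IsoClGerbe

open Groth.Agent.Helper2 Groth.Agent.Helper2.StkLib Groth.Agent.Helper2.StkLib.PshSec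

variable {C : Type u} [Category.{v} C] {𝒳 : BasedCategory.{v₂, u₂} C} {P : Cᵒᵖ ⥤ Type u₂}
  (π : 𝒳 ⥤ᵇ Stk.ofPsh P)

/-- The section of `P` over `U` attached to an object of the fibre of `𝒳` over `U`. -/
def sig {U : C} (a : 𝒳.p.Fiber U) : P.obj (op U) :=
  PshSec.tr (P := P) (a.2.symm.trans (π.w_obj a.1).symm) (π.obj a.1).sec

theorem sig_eq_of_hom {U V : C} (a : 𝒳.p.Fiber U) (b : 𝒳.p.Fiber V) (f : V ⟶ U) (φ : b.1 ⟶ a.1)
    (hφ : 𝒳.p.IsHomLift f φ) : sig π b = P.map f.op (sig π a) := by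
  obtain ⟨x, hx⟩ := a
  obtain ⟨y, hy⟩ := b
  subst hx hy
  have hf : f = 𝒳.p.map φ := IsHomLift.eq_of_isHomLift 𝒳.p f φ
  subst hf
  have hfg := Functor.congr_hom π.w.symm φ
  have h1 := PshSec.map_tr (P := P) (π.w_obj y).symm (π.w_obj x).symm (𝒳.p.map φ) (π.map φ).hom hfg
    (π.obj x).sec
  have h2 : P.map (π.map φ).hom.op (π.obj x).sec = (π.obj y).sec := (π.map φ).map_sec
  exact (h1.trans (congrArg (fun t => PshSec.tr (P := P) (π.w_obj y).symm t) h2)).symm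

variable [FibCat.IsFibGrpd 𝒳.p]

theorem sig_pullFib {U V : C} (f : V ⟶ U) (a : 𝒳.p.Fiber U) :
    sig π (Gerb.pullFib 𝒳 f a) = P.map f.op (sig π a) := by
  apply sig_eq_of_hom π a (Gerb.pullFib 𝒳 f a) f (Gerb.pullHom 𝒳 a.1 (f ≫ eqToHom a.2.symm))
  exact (IsHomLift.lift_comp_eqToHom_iff 𝒳.p f _ a.2.symm).1
    (Gerb.pullHom_isHomLift 𝒳 a.1 (f ≫ eqToHom a.2.symm))

/-- The map on classes. -/
def cApp (U : C) : Gerb.IsoCl 𝒳 U → P.obj (op U) :=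
  Quot.lift (fun a => sig π a) (fun a a' h => by
    obtain ⟨φ⟩ := h
    have := sig_eq_of_hom π a' a (𝟙 U) φ.1 φ.2
    simpa using this)

/-- The map from the presheaf of isomorphism classes to `P`. -/
noncomputable def c : Gerb.isoClPsh 𝒳 ⟶ P where
  app U := TypeCat.ofHom (cApp π U.unop)
  naturality U V f := by
    apply ConcreteCategory.hom_ext
    intro z
    obtain ⟨a⟩ := z
    exact sig_pullFib π f.unop a

theorem c_fib (x : 𝒳.obj) : (c π).app (op (𝒳.p.obj x)) (Quot.mk _ (Gerb.fib x)) =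
    P.map (eqToHom (π.w_obj x).symm).op (π.obj x).sec := rfl

theorem c_locSurj (J : GrothendieckTopology C) (h : Gerb.LocSurjObj J π) :
    Presheaf.IsLocallySurjective J (c π) := ⟨by
  intro U s
  let y : (Stk.ofPsh P).obj := ⟨U, s⟩
  obtain ⟨R, hR, hR'⟩ := h y
  refine J.superset_covering ?_ hR
  intro V f hf
  obtain ⟨x, g, hg⟩ := hR' f hf
  have hV : (π.obj x).base = V := @IsHomLift.domain_eq _ _ _ _ (Stk.ofPsh P).p _ _ _ _ f g hg
  subst hV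
  have hfg : f = g.hom := @IsHomLift.eq_of_isHomLift _ _ _ _ (Stk.ofPsh P).p (π.obj x) y f g hg
  subst hfg
  have hx : 𝒳.p.obj x = (π.obj x).base := (π.w_obj x).symm
  refine ⟨Quot.mk _ ⟨x, hx⟩, ?_⟩
  show sig π ⟨x, hx⟩ = P.map g.hom.op s
  exact (PshSec.tr_rfl (P := P) _).trans g.map_sec.symm⟩

theorem equalizer_mem (J : GrothendieckTopology C) (h : Gerb.LocSurjHom J π) {U : C}
    (a a' : 𝒳.p.Fiber U) (hσ : sig π a = sig π a') :
    Presheaf.equalizerSieve (F := Gerb.isoClPsh 𝒳) (X := op U)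
      (Quot.mk (Gerb.IsoRel 𝒳 U) a) (Quot.mk (Gerb.IsoRel 𝒳 U) a') ∈ J U := by
  obtain ⟨x, hx⟩ := a
  obtain ⟨x', hx'⟩ := a'
  subst hx
  have h1 : 𝒳.p.obj x = (π.obj x).base := (π.w_obj x).symm
  have hbase : (π.obj x).base = (π.obj x').base :=
    (π.w_obj x).trans (hx'.symm.trans (π.w_obj x').symm)
  have hsec : P.map (eqToHom hbase).op (π.obj x').sec = (π.obj x).sec :=
    PshSec.tr_injective (P := P) h1 ((PshSec.tr_tr (P := P) h1 hbase _).trans hσ.symm)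
  let b : π.obj x ⟶ π.obj x' := ⟨eqToHom hbase, hsec⟩
  have hb : (Stk.ofPsh P).p.IsHomLift (𝟙 (𝒳.p.obj x)) b :=
    IsHomLift.of_fac' _ _ _ (π.w_obj x) ((π.w_obj x').trans hx') (by simp [b])
  obtain ⟨R, hR, hR'⟩ := h x x' b hb
  refine J.superset_covering ?_ hR
  intro V f hf
  obtain ⟨x₀, φ, ψ, hφ, hψ, -⟩ := hR' f hf
  show Quot.mk (Gerb.IsoRel 𝒳 V) (Gerb.pullFib 𝒳 f ⟨x, rfl⟩) =
    Quot.mk (Gerb.IsoRel 𝒳 V) (Gerb.pullFib 𝒳 f ⟨x', hx'⟩)
  have hx₀ : 𝒳.p.obj x₀ = V := IsHomLift.domain_eq 𝒳.p f φ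
  obtain ⟨χ, hχ, -⟩ := Gerb.exists_hom_pull 𝒳 x (f ≫ eqToHom rfl) φ
    ((IsHomLift.lift_comp_eqToHom_iff 𝒳.p f φ rfl).2 hφ)
  obtain ⟨χ', hχ', -⟩ := Gerb.exists_hom_pull 𝒳 x' (f ≫ eqToHom hx'.symm) ψ
    ((IsHomLift.lift_comp_eqToHom_iff 𝒳.p f ψ hx'.symm).2 hψ)
  have e1 : Quot.mk (Gerb.IsoRel 𝒳 V) ⟨x₀, hx₀⟩ =
      Quot.mk (Gerb.IsoRel 𝒳 V) (Gerb.pullFib 𝒳 f ⟨x, rfl⟩) := Quot.sound ⟨⟨χ, hχ⟩⟩
  have e2 : Quot.mk (Gerb.IsoRel 𝒳 V) ⟨x₀, hx₀⟩ =
      Quot.mk (Gerb.IsoRel 𝒳 V) (Gerb.pullFib 𝒳 f ⟨x', hx'⟩) := Quot.sound ⟨⟨χ', hχ'⟩⟩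
  exact e1.symm.trans e2

theorem c_locInj (J : GrothendieckTopology C) (h : Gerb.LocSurjHom J π) :
    Presheaf.IsLocallyInjective J (c π) := ⟨by
  intro X z z' hzz'
  obtain ⟨a⟩ := z
  obtain ⟨a'⟩ := z'
  exact equalizer_mem π J h a a' hzz'⟩

theorem main16877 (J : GrothendieckTopology C) (hπ : Gerb.IsGerbeOver J π) :
    ∃ c : Gerb.isoClPsh 𝒳 ⟶ P,
      (∀ x : 𝒳.obj, c.app (op (𝒳.p.obj x)) (Quot.mk _ (Gerb.fib x)) =
          P.map (eqToHom (π.w_obj x).symm).op (π.obj x).sec) ∧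
      Presheaf.IsLocallySurjective J c ∧ Presheaf.IsLocallyInjective J c :=
  ⟨c π, c_fib π, c_locSurj π J hπ.1, c_locInj π J hπ.2⟩

end Groth.Agent.Helper2.StkLib.IsoClGerbe
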