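import Mathlib
import Groth.Prelude.Def_AlgSt
import Groth.Prelude.Def_FibCat2
import Groth.Agent.Lib.Helper2.Stk.Post
import Groth.Agent.Lib.Helper2.Stk.Yon
import Groth.Agent.Lib.Helper2.Stk.Refine

/-!
# Sections of a category over `C/U` and the stack condition on `C/U` (helper2)

For a category `𝒫c` over `C` with a functor `πf : 𝒫c ⥤ C/U` over `C`, the stack condition of
`𝒫c` viewed over `C/U` (at the terminal object of `C/U`, for the sieve corresponding to a sieve
`R` on `U`) gives gluing of sections of `πf` along `R`.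
-/

set_option autoImplicit false
set_option synthInstance.maxHeartbeats 400000
set_option maxHeartbeats 1000000
set_option linter.style.haveILetI false
set_option linter.unusedSectionVars false
set_option linter.unusedVariables false
set_option linter.unusedSimpArgs false
set_option linter.unnecessarySimpa false

open CategoryTheory CategoryTheory.Functor

universe v₃ u₃ v₂ u₂ v u

namespace Groth.Agent.Helper2.StkLib.OverSec

open Groth.Agent.Helper2 Groth.Agent.Helper2.FibCatLib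

variable {C : Type u} [Category.{v} C]

theorem isHomLift_of_comp_eq {𝒜 : Type u₂} [Category.{v₂} 𝒜] {ℬ : Type u₃} [Category.{v₃} ℬ]
    (q : 𝒜 ⥤ ℬ) (p : ℬ ⥤ C) (r : 𝒜 ⥤ C) (h : q ⋙ p = r) {R S : ℬ} (f : R ⟶ S) {a b : 𝒜}
    (φ : a ⟶ b) (hφ : q.IsHomLift f φ) : r.IsHomLift (p.map f) φ := by
  subst h
  subst_hom_lift q f φ
  exact inferInstanceAs ((q ⋙ p).IsHomLift ((q ⋙ p).map φ) φ)

theorem isHomLift_id_of_over {𝒫c : BasedCategory.{v₂, u₂} C} {U : C} (πf : 𝒫c.obj ⥤ Over U)
    (hπ : πf ⋙ Over.forget U = 𝒫c.p) (A : Over U) {a b : 𝒫c.obj} (φ : a ⟶ b)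
    (hφ : πf.IsHomLift (𝟙 A) φ) : 𝒫c.p.IsHomLift (𝟙 A.left) φ :=
  isHomLift_congr' 𝒫c.p ((Over.forget U).map_id A) φ
    (isHomLift_of_comp_eq πf (Over.forget U) 𝒫c.p hπ (𝟙 A) φ hφ)

/-- The terminal object of `C/U`. -/
abbrev A₀ (U : C) : Over U := Over.mk (𝟙 U)

/-- The section `C/U ⥤ (C/U)/𝟙` of the forgetful functor. -/
def sec (U : C) : Over U ⥤ Over (A₀ U) where
  obj A := Over.mk (toId U A)
  map {A B} f := Over.homMk f (comp_toId U f)
  map_id A := by apply Over.OverMorphism.ext; rfl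
  map_comp f g := by apply Over.OverMorphism.ext; rfl

theorem sec_forget (U : C) : sec U ⋙ Over.forget (A₀ U) = 𝟭 (Over U) := rfl

variable {U : C} (R : Sieve U)

/-- The sieve on the terminal object of `C/U` corresponding to `R`. -/
abbrev Rt : Sieve (A₀ U) := (Sieve.overEquiv (A₀ U)).symm R

theorem Rt_mem (J : GrothendieckTopology C) (hR : R ∈ J U) : Rt R ∈ (J.over U) (A₀ U) := by
  rw [GrothendieckTopology.mem_over_iff]
  have h : Sieve.overEquiv (A₀ U) (Rt R) = R := (Sieve.overEquiv (A₀ U)).apply_symm_apply R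
  rw [h]
  exact hR

theorem Rt_iff {Z : Over U} (f : Z ⟶ A₀ U) : (Rt R) f ↔ R f.left :=
  Sieve.overEquiv_symm_iff (Y := A₀ U) R f

/-- From the sieve on the terminal object down to `R`. -/
def down : (Stk.sieveCat (Rt R)).obj ⥤ (Stk.sieveCat R).obj where
  obj b := ⟨b.obj.left, by
    have h1 : R b.obj.hom.left := (Rt_iff R b.obj.hom).1 b.property
    have h2 : b.obj.hom.left = b.obj.left.hom := by
      have := Over.w b.obj.hom
      simpa using this
    rw [h2] at h1
    exact h1⟩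
  map {b b'} g := ObjectProperty.homMk g.hom.left
  map_id b := rfl
  map_comp g g' := rfl

/-- From `R` up to the sieve on the terminal object. -/
def up : (Stk.sieveCat R).obj ⥤ (Stk.sieveCat (Rt R)).obj where
  obj a := ⟨(sec U).obj a.obj, (Rt_iff R (toId U a.obj)).2 a.property⟩
  map {a a'} g := ObjectProperty.homMk ((sec U).map g.hom)
  map_id a := by apply ObjectProperty.hom_ext; exact (sec U).map_id _
  map_comp g g' := by apply ObjectProperty.hom_ext; exact (sec U).map_comp _ _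

variable {𝒫c : BasedCategory.{v₂, u₂} C} (πf : 𝒫c.obj ⥤ Over U)

/-- `𝒫c` as a category over `C/U`. -/
abbrev overBase : BasedCategory.{v₂, u₂} (Over U) := BasedCategory.ofFunctor πf

/-- A section of `πf`, as a functor over `C/U` out of the slice of the terminal object. -/
def secLift (σ : FibCat.overCat U ⥤ᵇ 𝒫c) (hσ : σ.toFunctor ⋙ πf = 𝟭 (Over U)) :
    FibCat.overCat (A₀ U) ⥤ᵇ overBase πf where
  toFunctor := Over.forget (A₀ U) ⋙ σ.toFunctor
  w := by
    have h := congrArg (fun X => Over.forget (A₀ U) ⋙ X) hσ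
    exact h

theorem sec_full (hπ : πf ⋙ Over.forget U = 𝒫c.p)
    (hfull : (Stk.resSieve (Rt R) (overBase πf)).Full)
    (σ σ' : FibCat.overCat U ⥤ᵇ 𝒫c) (hσ : σ.toFunctor ⋙ πf = 𝟭 (Over U))
    (hσ' : σ'.toFunctor ⋙ πf = 𝟭 (Over U))
    (γ : (Stk.restr (Stk.sieveIncl R) 𝒫c).obj σ ⟶ (Stk.restr (Stk.sieveIncl R) 𝒫c).obj σ')
    (hγ : ∀ a : (Stk.sieveCat R).obj, πf.IsHomLift (𝟙 a.obj) (γ.toNatTrans.app a)) :
    ∃ δ : σ ⟶ σ', (Stk.restr (Stk.sieveIncl R) 𝒫c).map δ = γ := by
  let γt : (Stk.resSieve (Rt R) (overBase πf)).obj (secLift πf σ hσ) ⟶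
      (Stk.resSieve (Rt R) (overBase πf)).obj (secLift πf σ' hσ') :=
    { toNatTrans :=
        { app := fun b => γ.toNatTrans.app ((down R).obj b)
          naturality := fun b b' g => γ.toNatTrans.naturality ((down R).map g) }
      isHomLift' := fun b => hγ ((down R).obj b) }
  obtain ⟨δt, hδt⟩ := hfull.map_surjective γt
  have hδt' : ∀ b : (Stk.sieveCat (Rt R)).obj,
      δt.toNatTrans.app b.obj = γ.toNatTrans.app ((down R).obj b) := by
    intro b
    have := congrArg (fun ρ : (Stk.resSieve (Rt R) (overBase πf)).obj (secLift πf σ hσ) ⟶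
      (Stk.resSieve (Rt R) (overBase πf)).obj (secLift πf σ' hσ') => ρ.toNatTrans.app b) hδt
    exact this
  let δ : σ ⟶ σ' :=
    { toNatTrans :=
        { app := fun A => δt.toNatTrans.app ((sec U).obj A)
          naturality := fun A B f => δt.toNatTrans.naturality ((sec U).map f) }
      isHomLift' := fun A => isHomLift_id_of_over πf hπ A _ (δt.isHomLift' ((sec U).obj A)) }
  refine ⟨δ, ?_⟩
  apply BasedNatTrans.homCategory.ext
  ext a
  exact hδt' ((up R).obj a)

theorem sec_essSurj (hπ : πf ⋙ Over.forget U = 𝒫c.p)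
    (hes : (Stk.resSieve (Rt R) (overBase πf)).EssSurj)
    (D : Stk.sieveCat R ⥤ᵇ 𝒫c) (hD : D.toFunctor ⋙ πf = (Stk.sieveIncl R).toFunctor) :
    ∃ G : FibCat.overCat U ⥤ᵇ 𝒫c, Nonempty ((Stk.restr (Stk.sieveIncl R) 𝒫c).obj G ⟶ D) := by
  let Dt : Stk.sieveCat (Rt R) ⥤ᵇ overBase πf :=
    { toFunctor := down R ⋙ D.toFunctor
      w := by
        have h := congrArg (fun X => down R ⋙ X) hD
        exact h }
  obtain ⟨Gt, ⟨θ⟩⟩ := hes.mem_essImage Dt
  have hGt : Gt.toFunctor ⋙ πf = Over.forget (A₀ U) := Gt.w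
  let G : FibCat.overCat U ⥤ᵇ 𝒫c :=
    { toFunctor := sec U ⋙ Gt.toFunctor
      w := by
        have h1 : (sec U ⋙ Gt.toFunctor) ⋙ 𝒫c.p =
            (sec U ⋙ Gt.toFunctor) ⋙ (πf ⋙ Over.forget U) :=
          congrArg (fun X => (sec U ⋙ Gt.toFunctor) ⋙ X) hπ.symm
        have h2 : sec U ⋙ ((Gt.toFunctor ⋙ πf) ⋙ Over.forget U) =
            sec U ⋙ (Over.forget (A₀ U) ⋙ Over.forget U) :=
          congrArg (fun X => sec U ⋙ (X ⋙ Over.forget U)) hGt
        exact h1.trans h2 }
  refine ⟨G, ⟨?_⟩⟩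
  exact
    { toNatTrans :=
        { app := fun a => θ.hom.toNatTrans.app ((up R).obj a)
          naturality := fun a a' g => θ.hom.toNatTrans.naturality ((up R).map g) }
      isHomLift' := fun a =>
        isHomLift_id_of_over πf hπ a.obj _ (θ.hom.isHomLift' ((up R).obj a)) }

end Groth.Agent.Helper2.StkLib.OverSec
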