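import Mathlib
import Groth.Prelude.Def_AlgSt
import Groth.Prelude.Def_FibCat2
import Groth.Agent.Lib.Helper2.Stk.Basic
import Groth.Agent.Lib.Helper2.FibCat.EquivCrit

/-!
# The slice `C/U` is the category over `C` of the representable presheaf (helper2)
-/

set_option autoImplicit false
open CategoryTheory CategoryTheory.Functor Opposite

universe v u

namespace Groth.Agent.Helper2.StkLib

open Groth.Agent.Helper2 Groth.Agent.Helper2.FibCatLib

variable {C : Type u} [Category.{v} C] (U : C)

/-- The functor over `C` from the slice `C/U` to the category of the presheaf `h_U`. -/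
def overToYoneda : FibCat.overCat U ⥤ᵇ Stk.ofPsh (yoneda.obj U) where
  toFunctor :=
    { obj := fun A => ⟨A.left, A.hom⟩
      map := fun {A A'} g => ⟨g.left, Over.w g⟩
      map_id := fun A => by
        apply Stk.EltObj.hom_ext
        rfl
      map_comp := fun g g' => by
        apply Stk.EltObj.hom_ext
        rfl }
  w := rfl

instance : (overToYoneda U).toFunctor.Faithful where
  map_injective {A A'} g g' h := by
    apply Over.OverMorphism.ext
    exact congrArg (fun φ : (overToYoneda U).obj A ⟶ (overToYoneda U).obj A' => φ.hom) h

instance : (overToYoneda U).toFunctor.Full where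
  map_surjective {A A'} φ := by
    refine ⟨Over.homMk φ.hom φ.map_sec, ?_⟩
    apply Stk.EltObj.hom_ext
    rfl

theorem overToYoneda_isEquivOver : FibCat.IsEquivOver (overToYoneda U) := by
  apply isEquivOver_of_fullyFaithful_of_exists_iso
  intro η
  refine ⟨Over.mk η.sec, Iso.refl _, ?_⟩
  exact IsHomLift.id (p := (Stk.ofPsh (yoneda.obj U)).p) rfl

end Groth.Agent.Helper2.StkLib
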