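import Mathlib
import Groth.Prelude.Def_AlgSt
import Groth.Prelude.Def_FibCat2
import Groth.Agent.Lib.Helper2.Stk.FpStack

/-!
# Gluing in the source of a functor whose fibres glue (helper2)

If restriction along `ι : 𝒜 ⟶ ℬ` is an equivalence for `𝒴` and for all the 2-fibre products
`ℬ ×_𝒴 𝒳` of a faithful `j : 𝒳 ⟶ 𝒴`, it is an equivalence for `𝒳`.
-/

set_option autoImplicit false
open CategoryTheory CategoryTheory.Functor CategoryTheory.Limits

universe v₆ u₆ v₅ u₅ v₄ u₄ v₃ u₃ v₂ u₂ v u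

namespace Groth.Agent.Helper2.StkLib

open Groth.Agent.Helper2 Groth.Agent.Helper2.FibCatLib

variable {C : Type u} [Category.{v} C]
variable {𝒜 : BasedCategory.{v₂, u₂} C} {ℬ : BasedCategory.{v₃, u₃} C}
  {𝒳 : BasedCategory.{v₄, u₄} C} {𝒴 : BasedCategory.{v₅, u₅} C}
  (ι : 𝒜 ⥤ᵇ ℬ) (j : 𝒳 ⥤ᵇ 𝒴)

theorem restr_faithful_of_faithful [j.toFunctor.Faithful] (hY : (Stk.restr ι 𝒴).Faithful) :
    (Stk.restr ι 𝒳).Faithful where
  map_injective {x x'} α β h := by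
    have e1 : BasedCategory.whiskerRight α j = BasedCategory.whiskerRight β j := by
      apply hY.map_injective
      apply BasedNatTrans.homCategory.ext
      ext a
      have := congrArg (fun γ : (Stk.restr ι 𝒳).obj x ⟶ (Stk.restr ι 𝒳).obj x' =>
        j.toFunctor.map (γ.toNatTrans.app a)) h
      exact this
    apply BasedNatTrans.homCategory.ext
    ext b
    apply j.toFunctor.map_injective
    have := congrArg (fun γ : BasedFunctor.comp x j ⟶ BasedFunctor.comp x' j =>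
      γ.toNatTrans.app b) e1
    exact this

theorem restr_full_of_fibres (h𝒴 : FibCat.IsFibGrpd 𝒴.p) (hY : (Stk.restr ι 𝒴).Full)
    (hfib : ∀ y : ℬ ⥤ᵇ 𝒴, (Stk.restr ι (FibCat.fp y j)).Full) : (Stk.restr ι 𝒳).Full where
  map_surjective {x x'} α := by
    let jα : (Stk.restr ι 𝒴).obj (BasedFunctor.comp x j) ⟶
        (Stk.restr ι 𝒴).obj (BasedFunctor.comp x' j) := BasedCategory.whiskerRight α j
    obtain ⟨β, hβ⟩ := hY.map_surjective jα
    have hβi : IsIso β := isIso_of_isFibGrpd h𝒴 β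
    have hβ' : ∀ a : 𝒜.obj, β.toNatTrans.app (ι.obj a) = j.map (α.toNatTrans.app a) := by
      intro a
      have := congrArg (fun ρ : (Stk.restr ι 𝒴).obj (BasedFunctor.comp x j) ⟶
        (Stk.restr ι 𝒴).obj (BasedFunctor.comp x' j) => ρ.toNatTrans.app a) hβ
      exact this
    let y : ℬ ⥤ᵇ 𝒴 := BasedFunctor.comp x' j
    let βi : BasedFunctor.comp x j ≅ BasedFunctor.comp x' j := @asIso _ _ _ _ β hβi
    let G₁ : ℬ ⥤ᵇ FibCat.fp y j := FibCat.fpLift (BasedFunctor.id ℬ) x' (Iso.refl _)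
    let G₂ : ℬ ⥤ᵇ FibCat.fp y j := FibCat.fpLift (BasedFunctor.id ℬ) x βi.symm
    have hinv : ∀ b : ℬ.obj, βi.inv.toNatTrans.app b ≫ β.toNatTrans.app b = 𝟙 _ := by
      intro b
      have := congrArg (fun ρ : BasedFunctor.comp x' j ⟶ BasedFunctor.comp x' j =>
        ρ.toNatTrans.app b) βi.inv_hom_id
      exact this
    obtain ⟨γ, -, hγ2⟩ := fp_nat_mk y j (H := BasedFunctor.comp ι G₂)
      (H' := BasedFunctor.comp ι G₁) (𝟙 _) α (by
      intro a
      have h1 : βi.inv.toNatTrans.app (ι.obj a) ≫ j.map (α.toNatTrans.app a) = 𝟙 _ :=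
        (congrArg (fun t => βi.inv.toNatTrans.app (ι.obj a) ≫ t) (hβ' a)).symm.trans
          (hinv (ι.obj a))
      have h2 : y.toFunctor.map (𝟙 (ι.obj a)) ≫ 𝟙 (y.obj (ι.obj a)) = 𝟙 _ :=
        (Category.comp_id _).trans (y.toFunctor.map_id _)
      exact h2.trans h1.symm)
    obtain ⟨δ, hδ⟩ := (hfib y).map_surjective γ
    refine ⟨BasedCategory.whiskerRight δ (FibCat.fpSnd y j), ?_⟩
    apply BasedNatTrans.homCategory.ext
    ext a
    have := congrArg (fun ρ : (Stk.restr ι (FibCat.fp y j)).obj G₂ ⟶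
      (Stk.restr ι (FibCat.fp y j)).obj G₁ => (ρ.toNatTrans.app a).hom.snd) hδ
    exact this.trans (hγ2 a)

theorem restr_essSurj_of_fibres (h𝒳 : FibCat.IsFibGrpd 𝒳.p) (hY : (Stk.restr ι 𝒴).EssSurj)
    (hfib : ∀ y : ℬ ⥤ᵇ 𝒴, (Stk.restr ι (FibCat.fp y j)).EssSurj) : (Stk.restr ι 𝒳).EssSurj where
  mem_essImage E := by
    obtain ⟨y, ⟨ε⟩⟩ := hY.mem_essImage (BasedFunctor.comp E j)
    let D : 𝒜 ⥤ᵇ FibCat.fp y j := FibCat.fpLift ι E ε
    obtain ⟨G, ⟨θ⟩⟩ := (hfib y).mem_essImage D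
    let x : ℬ ⥤ᵇ 𝒳 := BasedFunctor.comp G (FibCat.fpSnd y j)
    let κ : (Stk.restr ι 𝒳).obj x ⟶ E := BasedCategory.whiskerRight θ.hom (FibCat.fpSnd y j)
    have hκ : IsIso κ := isIso_of_isFibGrpd h𝒳 κ
    exact ⟨x, ⟨@asIso _ _ _ _ κ hκ⟩⟩

theorem restr_isEquivalence_of_fibres (h𝒳 : FibCat.IsFibGrpd 𝒳.p) (h𝒴 : FibCat.IsFibGrpd 𝒴.p)
    [j.toFunctor.Faithful] (hY : (Stk.restr ι 𝒴).IsEquivalence)
    (hfib : ∀ y : ℬ ⥤ᵇ 𝒴, (Stk.restr ι (FibCat.fp y j)).IsEquivalence) :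
    (Stk.restr ι 𝒳).IsEquivalence := by
  have := restr_faithful_of_faithful ι j hY.faithful
  have := restr_full_of_fibres ι j h𝒴 hY.full (fun y => (hfib y).full)
  have := restr_essSurj_of_fibres ι j h𝒳 hY.essSurj (fun y => (hfib y).essSurj)
  exact { }

end Groth.Agent.Helper2.StkLib
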