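import Mathlib
import Groth.Prelude.Def_AlgSt
import Groth.Prelude.Def_FibCat2
import Groth.Agent.Lib.Helper2.Stk.RepStack
import Groth.Agent.Lib.Helper2.Stk.OverSec

/-!
# Gluing in the source of a faithful functor whose 2-fibres over slices are stacks (helper2)
-/

set_option autoImplicit false
set_option synthInstance.maxHeartbeats 400000
set_option maxHeartbeats 1000000
set_option linter.style.haveILetI false
set_option linter.unusedSectionVars false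
set_option linter.unusedVariables false
set_option linter.unusedSimpArgs false
set_option linter.unnecessarySimpa false

open CategoryTheory CategoryTheory.Functor CategoryTheory.Limits

universe v₆ u₆ v₅ u₅ v₄ u₄ v₃ u₃ v₂ u₂ v u

namespace Groth.Agent.Helper2.StkLib

open Groth.Agent.Helper2 Groth.Agent.Helper2.FibCatLib

variable {C : Type u} [Category.{v} C]
variable {𝒜 : BasedCategory.{v₂, u₂} C} {ℬ : BasedCategory.{v₃, u₃} C}
  {𝒳 : BasedCategory.{v₄, u₄} C} {𝒴 : BasedCategory.{v₅, u₅} C}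
  (ι : 𝒜 ⥤ᵇ ℬ) (j : 𝒳 ⥤ᵇ 𝒴)

theorem restr_full_of_sections (h𝒴 : FibCat.IsFibGrpd 𝒴.p) (hY : (Stk.restr ι 𝒴).Full)
    (hsec : ∀ (y : ℬ ⥤ᵇ 𝒴) (σ σ' : ℬ ⥤ᵇ FibCat.fp y j)
      (_ : σ.toFunctor ⋙ (FibCat.fpFst y j).toFunctor = 𝟭 _)
      (_ : σ'.toFunctor ⋙ (FibCat.fpFst y j).toFunctor = 𝟭 _)
      (γ : (Stk.restr ι (FibCat.fp y j)).obj σ ⟶ (Stk.restr ι (FibCat.fp y j)).obj σ'),
      (∀ a : 𝒜.obj, (FibCat.fpFst y j).toFunctor.IsHomLift (𝟙 (ι.obj a)) (γ.toNatTrans.app a)) →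
      ∃ δ : σ ⟶ σ', (Stk.restr ι (FibCat.fp y j)).map δ = γ) : (Stk.restr ι 𝒳).Full where
  map_surjective {x x'} α := by
    let jα : (Stk.restr ι 𝒴).obj (BasedFunctor.comp x j) ⟶
        (Stk.restr ι 𝒴).obj (BasedFunctor.comp x' j) := BasedCategory.whiskerRight α j
    obtain ⟨β, hβ⟩ := hY.map_surjective jα
    have hβi : IsIso β := isIso_of_isFibGrpd h𝒴 β
    have hβ' : ∀ a : 𝒜.obj, β.toNatTrans.app (ι.obj a) = j.map (α.toNatTrans.app a) := by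
      intro a
      have := congrArg (fun ρ : (Stk.restr ι 𝒴).obj (BasedFunctor.comp x j) ⟶
        (Stk.restr ι 𝒴).obj (BasedFunctor.comp x' j) => ρ.toNatTrans.app a) hβ
      exact this
    let y : ℬ ⥤ᵇ 𝒴 := BasedFunctor.comp x' j
    let βi : BasedFunctor.comp x j ≅ BasedFunctor.comp x' j := @asIso _ _ _ _ β hβi
    let G₁ : ℬ ⥤ᵇ FibCat.fp y j := FibCat.fpLift (BasedFunctor.id ℬ) x' (Iso.refl _)
    let G₂ : ℬ ⥤ᵇ FibCat.fp y j := FibCat.fpLift (BasedFunctor.id ℬ) x βi.symm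
    have hinv : ∀ b : ℬ.obj, βi.inv.toNatTrans.app b ≫ β.toNatTrans.app b = 𝟙 _ := by
      intro b
      have := congrArg (fun ρ : BasedFunctor.comp x' j ⟶ BasedFunctor.comp x' j =>
        ρ.toNatTrans.app b) βi.inv_hom_id
      exact this
    obtain ⟨γ, hγ1, hγ2⟩ := fp_nat_mk y j (H := BasedFunctor.comp ι G₂)
      (H' := BasedFunctor.comp ι G₁) (𝟙 _) α (by
      intro a
      have h1 : βi.inv.toNatTrans.app (ι.obj a) ≫ j.map (α.toNatTrans.app a) = 𝟙 _ :=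
        (congrArg (fun t => βi.inv.toNatTrans.app (ι.obj a) ≫ t) (hβ' a)).symm.trans
          (hinv (ι.obj a))
      have h2 : y.toFunctor.map (𝟙 (ι.obj a)) ≫ 𝟙 (y.obj (ι.obj a)) = 𝟙 _ :=
        (Category.comp_id _).trans (y.toFunctor.map_id _)
      exact h2.trans h1.symm)
    have hG₁ : G₁.toFunctor ⋙ (FibCat.fpFst y j).toFunctor = 𝟭 _ := rfl
    have hG₂ : G₂.toFunctor ⋙ (FibCat.fpFst y j).toFunctor = 𝟭 _ := rfl
    obtain ⟨δ, hδ⟩ := hsec y G₂ G₁ hG₂ hG₁ γ (by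
      intro a
      have h1 : (FibCat.fpFst y j).toFunctor.map (γ.toNatTrans.app a) = 𝟙 (ι.obj a) := hγ1 a
      exact (isHomLift_iff_map_eq (FibCat.fpFst y j).toFunctor
        (a := (BasedFunctor.comp ι G₂).obj a) (b := (BasedFunctor.comp ι G₁).obj a)
        (𝟙 (ι.obj a)) (γ.toNatTrans.app a)).2 h1)
    refine ⟨BasedCategory.whiskerRight δ (FibCat.fpSnd y j), ?_⟩
    apply BasedNatTrans.homCategory.ext
    ext a
    have := congrArg (fun ρ : (Stk.restr ι (FibCat.fp y j)).obj G₂ ⟶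
      (Stk.restr ι (FibCat.fp y j)).obj G₁ => (ρ.toNatTrans.app a).hom.snd) hδ
    exact this.trans (hγ2 a)

theorem restr_essSurj_of_sections (h𝒳 : FibCat.IsFibGrpd 𝒳.p) (hY : (Stk.restr ι 𝒴).EssSurj)
    (hsec : ∀ (y : ℬ ⥤ᵇ 𝒴) (D : 𝒜 ⥤ᵇ FibCat.fp y j),
      D.toFunctor ⋙ (FibCat.fpFst y j).toFunctor = ι.toFunctor →
      ∃ G : ℬ ⥤ᵇ FibCat.fp y j, Nonempty ((Stk.restr ι (FibCat.fp y j)).obj G ⟶ D)) :
    (Stk.restr ι 𝒳).EssSurj where
  mem_essImage E := by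
    obtain ⟨y, ⟨ε⟩⟩ := hY.mem_essImage (BasedFunctor.comp E j)
    let D : 𝒜 ⥤ᵇ FibCat.fp y j := FibCat.fpLift ι E ε
    obtain ⟨G, ⟨θ⟩⟩ := hsec y D rfl
    let x : ℬ ⥤ᵇ 𝒳 := BasedFunctor.comp G (FibCat.fpSnd y j)
    let κ : (Stk.restr ι 𝒳).obj x ⟶ E := BasedCategory.whiskerRight θ (FibCat.fpSnd y j)
    have hκ : IsIso κ := isIso_of_isFibGrpd h𝒳 κ
    exact ⟨x, ⟨@asIso _ _ _ _ κ hκ⟩⟩

/-- A category fibred in groupoids with a faithful functor to a stack, all of whose 2-fibres over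
slices are stacks on the slices, is a stack. -/
theorem main12809 (J : GrothendieckTopology C) {𝒮 𝒯 : BasedCategory.{v, max u v} C}
    (h𝒮 : FibCat.IsFibGrpd 𝒮.p) (h𝒯 : Stk.IsStack J 𝒯) (F : 𝒮 ⥤ᵇ 𝒯) [F.toFunctor.Faithful]
    (h3 : ∀ (U : C) (y : FibCat.overCat U ⥤ᵇ 𝒯),
      Stk.IsStack (J.over U) (BasedCategory.ofFunctor
        ((FibCat.fpFst y F).toFunctor : (FibCat.fp y F).obj ⥤ Over U))) :
    Stk.IsStack J 𝒮 := by
  refine ⟨h𝒮, fun U R hR => ?_⟩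
  have hT : (Stk.restr (Stk.sieveIncl R) 𝒯).IsEquivalence := h𝒯.2 R hR
  have hfa : (Stk.restr (Stk.sieveIncl R) 𝒮).Faithful :=
    restr_faithful_of_faithful (Stk.sieveIncl R) F hT.faithful
  have hst : ∀ y : FibCat.overCat U ⥤ᵇ 𝒯,
      (Stk.resSieve (OverSec.Rt R) (OverSec.overBase (FibCat.fpFst y F).toFunctor)).IsEquivalence :=
    fun y => (h3 U y).2 (OverSec.Rt R) (OverSec.Rt_mem R J hR)
  have hfu : (Stk.restr (Stk.sieveIncl R) 𝒮).Full :=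
    restr_full_of_sections (Stk.sieveIncl R) F h𝒯.1 hT.full (fun y σ σ' hσ hσ' γ hγ =>
      OverSec.sec_full R (FibCat.fpFst y F).toFunctor (FibCat.fpFst y F).w (hst y).full σ σ'
        hσ hσ' γ hγ)
  have hes : (Stk.restr (Stk.sieveIncl R) 𝒮).EssSurj :=
    restr_essSurj_of_sections (Stk.sieveIncl R) F h𝒮 hT.essSurj (fun y D hD =>
      OverSec.sec_essSurj R (FibCat.fpFst y F).toFunctor (FibCat.fpFst y F).w (hst y).essSurj
        D hD)
  have : (Stk.restr (Stk.sieveIncl R) 𝒮).IsEquivalence := { }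
  exact this

end Groth.Agent.Helper2.StkLib
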