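import Mathlib
import Groth.Prelude.Def_AlgSt
import Groth.Prelude.Def_FibCat2
import Groth.Agent.Lib.Helper2.Stk.SlicePost

/-!
# Transitivity of stacks: a stack over a stack is a stack over the base (helper2)
-/

set_option autoImplicit false
set_option synthInstance.maxHeartbeats 400000
set_option maxHeartbeats 1000000
set_option linter.style.haveILetI false
set_option linter.unusedSectionVars false
set_option linter.unusedVariables false
set_option linter.unusedSimpArgs false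
set_option linter.unnecessarySimpa false

open CategoryTheory CategoryTheory.Functor

universe v₆ u₆ v₅ u₅ v₄ u₄ v₃ u₃ v₂ u₂ v₁ u₁ v u

namespace Groth.Agent.Helper2.StkLib.Trans

open Groth.Agent.Helper2 Groth.Agent.Helper2.FibCatLib Groth.Agent.Helper2.StkLib.PushPull
open Groth.Agent.Helper2.StkLib.SlicePost

section P

variable {C : Type u} [Category.{v} C] {𝒳 : BasedCategory.{v₁, u₁} C}
  {𝒴 : BasedCategory.{v₂, u₂} 𝒳.obj} {𝒜 : BasedCategory.{v₃, u₃} 𝒳.obj}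
  {ℬ : BasedCategory.{v₄, u₄} 𝒳.obj} (ι : ℬ ⥤ᵇ 𝒜)

theorem P_faithful (hfa : (Stk.restr ι 𝒴).Faithful) {G₁ G₁' : push 𝒜 ⥤ᵇ push 𝒴}
    (h₁ : G₁.toFunctor ⋙ 𝒴.p = 𝒜.p) (h₁' : G₁'.toFunctor ⋙ 𝒴.p = 𝒜.p) (μ μ' : G₁ ⟶ G₁')
    (hμ : ∀ a : 𝒜.obj, 𝒴.p.IsHomLift (𝟙 (𝒜.p.obj a)) (μ.toNatTrans.app a))
    (hμ' : ∀ a : 𝒜.obj, 𝒴.p.IsHomLift (𝟙 (𝒜.p.obj a)) (μ'.toNatTrans.app a))
    (heq : ∀ b : ℬ.obj, μ.toNatTrans.app (ι.obj b) = μ'.toNatTrans.app (ι.obj b)) : μ = μ' := by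
  have h : pullN h₁ h₁' μ hμ = pullN h₁ h₁' μ' hμ' := by
    apply hfa.map_injective
    apply BasedNatTrans.homCategory.ext
    ext b
    exact heq b
  apply BasedNatTrans.homCategory.ext
  exact congrArg (fun t : pull G₁ h₁ ⟶ pull G₁' h₁' => t.toNatTrans) h

theorem P_full (hfu : (Stk.restr ι 𝒴).Full) {G₁ G₁' : push 𝒜 ⥤ᵇ push 𝒴}
    (h₁ : G₁.toFunctor ⋙ 𝒴.p = 𝒜.p) (h₁' : G₁'.toFunctor ⋙ 𝒴.p = 𝒜.p)
    (ν : BasedFunctor.comp (pushF ι) G₁ ⟶ BasedFunctor.comp (pushF ι) G₁')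
    (hν : ∀ b : ℬ.obj, 𝒴.p.IsHomLift (𝟙 (ℬ.p.obj b)) (ν.toNatTrans.app b)) :
    ∃ μ : G₁ ⟶ G₁', (∀ a : 𝒜.obj, 𝒴.p.IsHomLift (𝟙 (𝒜.p.obj a)) (μ.toNatTrans.app a)) ∧
      ∀ b : ℬ.obj, μ.toNatTrans.app (ι.obj b) = ν.toNatTrans.app b := by
  let ν₀ : (Stk.restr ι 𝒴).obj (pull G₁ h₁) ⟶ (Stk.restr ι 𝒴).obj (pull G₁' h₁') :=
    { toNatTrans := ν.toNatTrans, isHomLift' := hν }
  obtain ⟨m, hm⟩ := hfu.map_surjective ν₀
  refine ⟨pushN m, fun a => m.isHomLift' a, fun b => ?_⟩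
  exact congrArg (fun t : (Stk.restr ι 𝒴).obj (pull G₁ h₁) ⟶ (Stk.restr ι 𝒴).obj (pull G₁' h₁') =>
    t.toNatTrans.app b) hm

theorem P_essSurj (hes : (Stk.restr ι 𝒴).EssSurj) (E₁ : push ℬ ⥤ᵇ push 𝒴)
    (hE : E₁.toFunctor ⋙ 𝒴.p = ℬ.p) :
    ∃ (G₁ : push 𝒜 ⥤ᵇ push 𝒴) (_ : G₁.toFunctor ⋙ 𝒴.p = 𝒜.p),
      Nonempty (BasedFunctor.comp (pushF ι) G₁ ⟶ E₁) := by
  obtain ⟨Φ, ⟨τ⟩⟩ := hes.mem_essImage (pull E₁ hE)
  exact ⟨pushF Φ, Φ.w, ⟨pushN τ.hom⟩⟩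

end P

section Core

variable {C : Type u} [Category.{v} C] {𝒳 : BasedCategory.{v₁, u₁} C}
  {𝒴 : BasedCategory.{v₂, u₂} 𝒳.obj}
variable (h𝒳 : FibCat.IsFibGrpd 𝒳.p) (h𝒴 : FibCat.IsFibGrpd 𝒴.p)
variable (x : 𝒳.obj) {U : C} (hU : 𝒳.p.obj x = U) (R : Sieve U)

/-- The inclusion of the sieve on `x` into the slice, over `C`. -/
abbrev incl' : push (Stk.sieveCat (Sx x hU R)) ⥤ᵇ sliceC x := pushF (Stk.sieveIncl (Sx x hU R))

include h𝒳 h𝒴 in
theorem core_faithful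
    (hfa : (Stk.resSieve (Sx x hU R) 𝒴).Faithful)
    {G G' : FibCat.overCat U ⥤ᵇ push 𝒴}
    (lam : pushQ (FibCat.overCat x) ⟶
      BasedFunctor.comp (BasedFunctor.comp (postU x hU) G) (pushQ 𝒴))
    (μ μ' : G ⟶ G')
    (hγ : BasedCategory.whiskerRight μ (pushQ 𝒴) = BasedCategory.whiskerRight μ' (pushQ 𝒴))
    (heq : (Stk.restr (Stk.sieveIncl R) (push 𝒴)).map μ =
      (Stk.restr (Stk.sieveIncl R) (push 𝒴)).map μ') : μ = μ' := by
  have h𝒵 : FibCat.IsFibGrpd (push 𝒴).p := isFibGrpd_comp 𝒴.p 𝒳.p h𝒴 h𝒳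
  have hQ : FibCat.IsFibGrpd (pushQ 𝒴).toFunctor := h𝒴
  obtain ⟨G₁, h₁, c, hc⟩ := exists_isoLift_based (pushQ 𝒴) hQ
    (BasedFunctor.comp (postU x hU) G) (pushQ (FibCat.overCat x)) lam
  let lam' : pushQ (FibCat.overCat x) ⟶
      BasedFunctor.comp (BasedFunctor.comp (postU x hU) G') (pushQ 𝒴) :=
    lam ≫ BasedCategory.whiskerLeft (postU x hU) (BasedCategory.whiskerRight μ (pushQ 𝒴))
  obtain ⟨G₁', h₁', c', hc'⟩ := exists_isoLift_based (pushQ 𝒴) hQ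
    (BasedFunctor.comp (postU x hU) G') (pushQ (FibCat.overCat x)) lam'
  obtain ⟨m, hm1, hm2⟩ := exists_natLift (pushQ 𝒴) h𝒵 h𝒳
    (H := pushQ (FibCat.overCat x)) (G := BasedFunctor.comp (postU x hU) G)
    (G' := BasedFunctor.comp (postU x hU) G') lam lam' c c'
    (BasedCategory.whiskerLeft (postU x hU) μ) hc hc' (fun a => rfl)
  obtain ⟨m', hm1', hm2'⟩ := exists_natLift (pushQ 𝒴) h𝒵 h𝒳
    (H := pushQ (FibCat.overCat x)) (G := BasedFunctor.comp (postU x hU) G)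
    (G' := BasedFunctor.comp (postU x hU) G') lam lam' c c'
    (BasedCategory.whiskerLeft (postU x hU) μ') hc hc' (fun a => by
      have h := congrArg (fun t : BasedFunctor.comp G (pushQ 𝒴) ⟶
        BasedFunctor.comp G' (pushQ 𝒴) => t.toNatTrans.app ((postU x hU).obj a)) hγ
      exact congrArg (fun t => lam.toNatTrans.app a ≫ t) h)
  have hci : ∀ a, IsIso (c'.toNatTrans.app a) := fun a => by
    have := c'.isHomLift' a
    exact IsFibGrpd.isIso_of_isHomLift_id (push 𝒴).p h𝒵 (S := (sliceC x).p.obj a)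
      (c'.toNatTrans.app a)
  have hmm : m = m' := by
    refine P_faithful (Stk.sieveIncl (Sx x hU R)) hfa h₁ h₁' m m' hm1 hm1' (fun b => ?_)
    have e1 := congrArg (fun t : G₁ ⟶ BasedFunctor.comp (postU x hU) G' =>
      t.toNatTrans.app ((incl' x hU R).obj b)) hm2
    have e2 := congrArg (fun t : G₁ ⟶ BasedFunctor.comp (postU x hU) G' =>
      t.toNatTrans.app ((incl' x hU R).obj b)) hm2'
    have e3 := congrArg (fun t : (Stk.restr (Stk.sieveIncl R) (push 𝒴)).obj G ⟶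
      (Stk.restr (Stk.sieveIncl R) (push 𝒴)).obj G' =>
      t.toNatTrans.app ((postS x hU R).obj b)) heq
    have := hci ((incl' x hU R).obj b)
    apply (cancel_mono (c'.toNatTrans.app ((incl' x hU R).obj b))).1
    exact e1.trans ((congrArg (fun t => c.toNatTrans.app ((incl' x hU R).obj b) ≫ t) e3).trans
      e2.symm)
  have hcI : IsIso c := isIso_of_isFibGrpd h𝒵 c
  have hw : BasedCategory.whiskerLeft (postU x hU) μ =
      BasedCategory.whiskerLeft (postU x hU) μ' := by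
    apply (cancel_epi c).1
    rw [← hm2, ← hm2', hmm]
  have heU := restr_isEquivalence_of_isEquivOver (postU x hU) (postU_isEquivOver x hU h𝒳) (push 𝒴)
  exact heU.faithful.map_injective hw

include h𝒳 h𝒴 in
theorem core_full
    (hfu : (Stk.resSieve (Sx x hU R) 𝒴).Full)
    {G G' : FibCat.overCat U ⥤ᵇ push 𝒴}
    (lam : pushQ (FibCat.overCat x) ⟶
      BasedFunctor.comp (BasedFunctor.comp (postU x hU) G) (pushQ 𝒴))
    (β : (Stk.restr (Stk.sieveIncl R) (push 𝒴)).obj G ⟶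
      (Stk.restr (Stk.sieveIncl R) (push 𝒴)).obj G')
    (γ : BasedFunctor.comp G (pushQ 𝒴) ⟶ BasedFunctor.comp G' (pushQ 𝒴))
    (hγ : (Stk.restr (Stk.sieveIncl R) 𝒳).map γ = BasedCategory.whiskerRight β (pushQ 𝒴)) :
    ∃ α : G ⟶ G', (Stk.restr (Stk.sieveIncl R) (push 𝒴)).map α = β := by
  have h𝒵 : FibCat.IsFibGrpd (push 𝒴).p := isFibGrpd_comp 𝒴.p 𝒳.p h𝒴 h𝒳
  have hQ : FibCat.IsFibGrpd (pushQ 𝒴).toFunctor := h𝒴
  obtain ⟨G₁, h₁, c, hc⟩ := exists_isoLift_based (pushQ 𝒴) hQ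
    (BasedFunctor.comp (postU x hU) G) (pushQ (FibCat.overCat x)) lam
  let lam' : pushQ (FibCat.overCat x) ⟶
      BasedFunctor.comp (BasedFunctor.comp (postU x hU) G') (pushQ 𝒴) :=
    lam ≫ BasedCategory.whiskerLeft (postU x hU) γ
  obtain ⟨G₁', h₁', c', hc'⟩ := exists_isoLift_based (pushQ 𝒴) hQ
    (BasedFunctor.comp (postU x hU) G') (pushQ (FibCat.overCat x)) lam'
  obtain ⟨ν, hν1, hν2⟩ := exists_natLift (pushQ 𝒴) h𝒵 h𝒳
    (H := BasedFunctor.comp (incl' x hU R) (pushQ (FibCat.overCat x)))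
    (G := BasedFunctor.comp (incl' x hU R) (BasedFunctor.comp (postU x hU) G))
    (G' := BasedFunctor.comp (incl' x hU R) (BasedFunctor.comp (postU x hU) G'))
    (G₁ := BasedFunctor.comp (incl' x hU R) G₁) (G₁' := BasedFunctor.comp (incl' x hU R) G₁')
    (BasedCategory.whiskerLeft (incl' x hU R) lam) (BasedCategory.whiskerLeft (incl' x hU R) lam')
    (BasedCategory.whiskerLeft (incl' x hU R) c) (BasedCategory.whiskerLeft (incl' x hU R) c')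
    (BasedCategory.whiskerLeft (postS x hU R) β)
    (fun b => hc _) (fun b => hc' _) (fun b => by
      have h := congrArg (fun t : (Stk.restr (Stk.sieveIncl R) 𝒳).obj
        (BasedFunctor.comp G (pushQ 𝒴)) ⟶ (Stk.restr (Stk.sieveIncl R) 𝒳).obj
        (BasedFunctor.comp G' (pushQ 𝒴)) => t.toNatTrans.app ((postS x hU R).obj b)) hγ
      exact congrArg (fun t => lam.toNatTrans.app ((incl' x hU R).obj b) ≫ t) h)
  obtain ⟨m, hm1, hm2⟩ := P_full (Stk.sieveIncl (Sx x hU R)) hfu h₁ h₁' ν hν1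
  have hcI : IsIso c := isIso_of_isFibGrpd h𝒵 c
  have heU := restr_isEquivalence_of_isEquivOver (postU x hU) (postU_isEquivOver x hU h𝒳) (push 𝒴)
  have heS := restr_isEquivalence_of_isEquivOver (postS x hU R) (postS_isEquivOver x hU R h𝒳)
    (push 𝒴)
  let ci : BasedFunctor.comp (postU x hU) G ⟶ G₁ := @CategoryTheory.inv _ _ _ _ c hcI
  have hci' : ci ≫ c = 𝟙 _ := @IsIso.inv_hom_id _ _ _ _ c hcI
  let tot : (Stk.restr (postU x hU) (push 𝒴)).obj G ⟶ (Stk.restr (postU x hU) (push 𝒴)).obj G' :=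
    ci ≫ m ≫ c'
  obtain ⟨α, hα⟩ := heU.full.map_surjective tot
  refine ⟨α, ?_⟩
  apply heS.faithful.map_injective
  apply BasedNatTrans.homCategory.ext
  ext b
  show α.toNatTrans.app ((postU x hU).obj ((incl' x hU R).obj b)) =
    β.toNatTrans.app ((postS x hU R).obj b)
  have e1 : α.toNatTrans.app ((postU x hU).obj ((incl' x hU R).obj b)) =
      ci.toNatTrans.app ((incl' x hU R).obj b) ≫
        m.toNatTrans.app ((incl' x hU R).obj b) ≫
          c'.toNatTrans.app ((incl' x hU R).obj b) :=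
    congrArg (fun t : (Stk.restr (postU x hU) (push 𝒴)).obj G ⟶
      (Stk.restr (postU x hU) (push 𝒴)).obj G' => t.toNatTrans.app ((incl' x hU R).obj b)) hα
  have e2 : ν.toNatTrans.app b ≫ c'.toNatTrans.app ((incl' x hU R).obj b) =
      c.toNatTrans.app ((incl' x hU R).obj b) ≫ β.toNatTrans.app ((postS x hU R).obj b) :=
    congrArg (fun t : BasedFunctor.comp (incl' x hU R) G₁ ⟶
      BasedFunctor.comp (incl' x hU R) (BasedFunctor.comp (postU x hU) G') =>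
      t.toNatTrans.app b) hν2
  have e3 : ci.toNatTrans.app ((incl' x hU R).obj b) ≫
      c.toNatTrans.app ((incl' x hU R).obj b) = 𝟙 _ :=
    congrArg (fun t : BasedFunctor.comp (postU x hU) G ⟶ BasedFunctor.comp (postU x hU) G =>
      t.toNatTrans.app ((incl' x hU R).obj b)) hci'
  have e4 : ci.toNatTrans.app ((incl' x hU R).obj b) ≫
        m.toNatTrans.app ((incl' x hU R).obj b) ≫
          c'.toNatTrans.app ((incl' x hU R).obj b) =
      ci.toNatTrans.app ((incl' x hU R).obj b) ≫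
        ν.toNatTrans.app b ≫ c'.toNatTrans.app ((incl' x hU R).obj b) :=
    congrArg (fun t => ci.toNatTrans.app ((incl' x hU R).obj b) ≫
      t ≫ c'.toNatTrans.app ((incl' x hU R).obj b)) (hm2 b)
  have e5 : ci.toNatTrans.app ((incl' x hU R).obj b) ≫
        ν.toNatTrans.app b ≫ c'.toNatTrans.app ((incl' x hU R).obj b) =
      ci.toNatTrans.app ((incl' x hU R).obj b) ≫
        c.toNatTrans.app ((incl' x hU R).obj b) ≫ β.toNatTrans.app ((postS x hU R).obj b) :=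
    congrArg (fun t => ci.toNatTrans.app ((incl' x hU R).obj b) ≫ t) e2
  have e6 : ci.toNatTrans.app ((incl' x hU R).obj b) ≫
        c.toNatTrans.app ((incl' x hU R).obj b) ≫ β.toNatTrans.app ((postS x hU R).obj b) =
      β.toNatTrans.app ((postS x hU R).obj b) :=
    (Category.assoc _ _ _).symm.trans
      ((congrArg (fun t => t ≫ β.toNatTrans.app ((postS x hU R).obj b)) e3).trans
        (Category.id_comp _))
  exact e1.trans (e4.trans (e5.trans e6))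

include h𝒳 h𝒴 in
theorem core_essSurj
    (hes : (Stk.resSieve (Sx x hU R) 𝒴).EssSurj) (E : Stk.sieveCat R ⥤ᵇ push 𝒴)
    (G₀ : FibCat.overCat U ⥤ᵇ 𝒳)
    (ε : (Stk.restr (Stk.sieveIncl R) 𝒳).obj G₀ ⟶ BasedFunctor.comp E (pushQ 𝒴))
    (lam0 : pushQ (FibCat.overCat x) ⟶ BasedFunctor.comp (postU x hU) G₀) :
    ∃ G : FibCat.overCat U ⥤ᵇ push 𝒴,
      Nonempty ((Stk.restr (Stk.sieveIncl R) (push 𝒴)).obj G ⟶ E) := by
  have h𝒵 : FibCat.IsFibGrpd (push 𝒴).p := isFibGrpd_comp 𝒴.p 𝒳.p h𝒴 h𝒳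
  have hQ : FibCat.IsFibGrpd (pushQ 𝒴).toFunctor := h𝒴
  let lamE : BasedFunctor.comp (incl' x hU R) (pushQ (FibCat.overCat x)) ⟶
      BasedFunctor.comp (BasedFunctor.comp (postS x hU R) E) (pushQ 𝒴) :=
    (BasedCategory.whiskerLeft (incl' x hU R) lam0 :
      BasedFunctor.comp (incl' x hU R) (pushQ (FibCat.overCat x)) ⟶
        BasedFunctor.comp (postS x hU R) ((Stk.restr (Stk.sieveIncl R) 𝒳).obj G₀)) ≫
      BasedCategory.whiskerLeft (postS x hU R) ε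
  obtain ⟨E₁, hE₁, cE, hcE⟩ := exists_isoLift_based (pushQ 𝒴) hQ
    (BasedFunctor.comp (postS x hU R) E)
    (BasedFunctor.comp (incl' x hU R) (pushQ (FibCat.overCat x))) lamE
  obtain ⟨G₁, h₁, ⟨τ⟩⟩ := P_essSurj (Stk.sieveIncl (Sx x hU R)) hes E₁ hE₁
  have heU := restr_isEquivalence_of_isEquivOver (postU x hU) (postU_isEquivOver x hU h𝒳) (push 𝒴)
  have heS := restr_isEquivalence_of_isEquivOver (postS x hU R) (postS_isEquivOver x hU R h𝒳)
    (push 𝒴)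
  obtain ⟨G, ⟨κ⟩⟩ := heU.essSurj.mem_essImage G₁
  let ω : (Stk.restr (postS x hU R) (push 𝒴)).obj
      ((Stk.restr (Stk.sieveIncl R) (push 𝒴)).obj G) ⟶
      (Stk.restr (postS x hU R) (push 𝒴)).obj E :=
    (BasedCategory.whiskerLeft (incl' x hU R) κ.hom :
      BasedFunctor.comp (incl' x hU R) (BasedFunctor.comp (postU x hU) G) ⟶
        BasedFunctor.comp (incl' x hU R) G₁) ≫ τ ≫ cE
  obtain ⟨w, -⟩ := heS.full.map_surjective ω
  exact ⟨G, ⟨w⟩⟩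

end Core

/-- A stack in groupoids over a stack in groupoids (for the inherited topology) is a stack in
groupoids over the base. -/
theorem main12805 {C : Type u} [Category.{v} C] (J : GrothendieckTopology C)
    {𝒳 : BasedCategory.{v, max u v} C} (h𝒳 : Stk.IsStack J 𝒳)
    (𝒴 : BasedCategory.{v, max u v} 𝒳.obj)
    (h𝒴 : Stk.IsStack (𝒳.p.restrictedTopology J) 𝒴) :
    Stk.IsStack J (BasedCategory.ofFunctor (𝒴.p ⋙ 𝒳.p)) := by
  have h𝒵 : FibCat.IsFibGrpd (𝒴.p ⋙ 𝒳.p) := isFibGrpd_comp 𝒴.p 𝒳.p h𝒴.1 h𝒳.1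
  refine ⟨h𝒵, fun U R hR => ?_⟩
  have hX : (Stk.restr (Stk.sieveIncl R) 𝒳).IsEquivalence := h𝒳.2 R hR
  have hY : ∀ (x : 𝒳.obj) (hU : 𝒳.p.obj x = U),
      (Stk.resSieve (Sx x hU R) 𝒴).IsEquivalence :=
    fun x hU => h𝒴.2 _ (Sx_mem x hU R h𝒳.1 J hR)
  have hfa : (Stk.restr (Stk.sieveIncl R) (push 𝒴)).Faithful := ⟨by
    intro G G' μ μ' heq
    obtain ⟨lam⟩ := exists_lam0 h𝒳.1 (BasedFunctor.comp G (pushQ 𝒴)) _ rfl
      ((BasedFunctor.comp G (pushQ 𝒴)).w_obj _)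
    have hγ : BasedCategory.whiskerRight μ (pushQ 𝒴) =
        BasedCategory.whiskerRight μ' (pushQ 𝒴) := by
      apply hX.faithful.map_injective
      exact congrArg (fun t => BasedCategory.whiskerRight t (pushQ 𝒴)) heq
    exact core_faithful h𝒳.1 h𝒴.1 _ _ R (hY _ _).faithful lam μ μ' hγ heq⟩
  have hfu : (Stk.restr (Stk.sieveIncl R) (push 𝒴)).Full := ⟨by
    intro G G' β
    obtain ⟨lam⟩ := exists_lam0 h𝒳.1 (BasedFunctor.comp G (pushQ 𝒴)) _ rfl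
      ((BasedFunctor.comp G (pushQ 𝒴)).w_obj _)
    let β' : (Stk.restr (Stk.sieveIncl R) 𝒳).obj (BasedFunctor.comp G (pushQ 𝒴)) ⟶
        (Stk.restr (Stk.sieveIncl R) 𝒳).obj (BasedFunctor.comp G' (pushQ 𝒴)) :=
      BasedCategory.whiskerRight β (pushQ 𝒴)
    obtain ⟨γ, hγ⟩ := hX.full.map_surjective β'
    exact core_full h𝒳.1 h𝒴.1 _ _ R (hY _ _).full lam β γ hγ⟩
  have hes : (Stk.restr (Stk.sieveIncl R) (push 𝒴)).EssSurj := ⟨by
    intro E
    obtain ⟨G₀, ⟨ε⟩⟩ := hX.essSurj.mem_essImage (BasedFunctor.comp E (pushQ 𝒴))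
    obtain ⟨lam0⟩ := exists_lam0 h𝒳.1 G₀ _ rfl (G₀.w_obj _)
    obtain ⟨G, ⟨w⟩⟩ := core_essSurj h𝒳.1 h𝒴.1 _ _ R (hY _ _).essSurj E G₀ ε.hom lam0
    have hw : IsIso w := isIso_of_isFibGrpd h𝒵 w
    exact ⟨G, ⟨@asIso _ _ _ _ w hw⟩⟩⟩
  have : (Stk.restr (Stk.sieveIncl R) (push 𝒴)).IsEquivalence := { }
  exact this

end Groth.Agent.Helper2.StkLib.Trans
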